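import Cfsg.Agent.Lib.LargeExtraspecial.Statements
import Cfsg.Agent.Lib.Components.GenFitting

/-!
# Large extraspecial subgroups from an involution centralizer

`setup_of_centralizer`: the setup from `F*(C(z)) = Q`.
`isExtraspecial_of`, `map_setup`: recognising an extraspecial subgroup, and its image in a quotient.
-/

set_option autoImplicit false

namespace Cfsg.Agent.LargeExtraspecial

open scoped commutatorElement

variable {G : Type*} [Group G] [Finite G]

theorem isExtraspecial_of {X : Type*} [Group X] [Finite X] {c : X} (hX : IsPGroup 2 X) (hc : c ≠ 1)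
    (hc2 : c * c = 1) (hcz : ∀ x, Commute c x)
    (hcent : ∀ x, (∀ y, Commute x y) → x ∈ Subgroup.zpowers c)
    (hcomm : ∀ x y : X, ⁅x, y⁆ ∈ Subgroup.zpowers c) (hsq : ∀ x : X, x * x ∈ Subgroup.zpowers c)
    (hne : ∃ x y : X, ⁅x, y⁆ ≠ 1) : Cfsg.IsExtraspecial 2 X := by
  haveI : Fact (Nat.Prime 2) := ⟨Nat.prime_two⟩
  have hord : orderOf c = 2 := orderOf_eq_prime (by rw [pow_two, hc2]) hc
  have hZ : Subgroup.center X = Subgroup.zpowers c := le_antisymm
    (fun x hx => hcent x fun y => ((Subgroup.mem_center_iff.1 hx) y).symm)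
    (Subgroup.zpowers_le.2 (Subgroup.mem_center_iff.2 fun y => (hcz y).eq.symm))
  have hle : commutator X ≤ Subgroup.center X := by
    rw [hZ, commutator_def, Subgroup.commutator_le]; exact fun x _ y _ => hcomm x y
  have hc' : commutator X = Subgroup.center X := by
    refine le_antisymm hle ?_
    obtain ⟨x, y, hxy⟩ := hne
    have hmem : ⁅x, y⁆ ∈ commutator X :=
      Subgroup.commutator_mem_commutator (Subgroup.mem_top x) (Subgroup.mem_top y)
    have : ⁅x, y⁆ = c := by
      obtain ⟨i, hi⟩ := Subgroup.mem_zpowers_iff.1 (hcomm x y)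
      rcases Int.even_or_odd' i with ⟨j, e | e⟩ <;> rw [e] at hi
      · exact absurd (by rw [← hi, zpow_mul, zpow_two, hc2, one_zpow]) hxy
      · rw [← hi, zpow_add, zpow_mul, zpow_two, hc2, one_zpow, one_mul, zpow_one]
    rw [hZ]
    exact Subgroup.zpowers_le.2 (this ▸ hmem)
  refine ⟨⟨hX, le_antisymm ?_ ?_, hc'⟩, by rw [hZ, Nat.card_zpowers, hord]⟩
  · exact PGroup.frattini_le_of_quotient (p := 2) hle fun x => by rw [hZ, pow_two]; exact hsq x
  · rw [← hc']; exact PGroup.commutator_le_frattini hX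

/-- The setup when `Q` is the generalized Fitting subgroup of the centralizer of `z`. -/
theorem setup_of_centralizer {z : G} (hz : orderOf z = 2) {Q : Subgroup G}
    (hQC : Q ≤ Subgroup.centralizer ({z} : Set G))
    (hF : (Cfsg.generalizedFittingSubgroup ↥(Subgroup.centralizer ({z} : Set G))).map
      (Subgroup.centralizer ({z} : Set G)).subtype = Q)
    (hQ : Cfsg.IsExtraspecial 2 Q) : Setup Q z := by
  set C := Subgroup.centralizer ({z} : Set G) with hC
  set F := Cfsg.generalizedFittingSubgroup ↥C with hFdef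
  have hzc : (⟨z, Subgroup.mem_centralizer_singleton_iff.2 rfl⟩ : C) ∈ Subgroup.center C :=
    Subgroup.mem_center_iff.2 fun c => Subtype.ext (Subgroup.mem_centralizer_singleton_iff.1 c.2)
  have hzF : (⟨z, Subgroup.mem_centralizer_singleton_iff.2 rfl⟩ : C) ∈ F :=
    Components.centralizer_generalizedFitting_le (Subgroup.center_le_centralizer _ hzc)
  have hzQ : z ∈ Q := hF ▸ ⟨_, hzF, rfl⟩
  have hzZ : (⟨z, hzQ⟩ : Q) ∈ Subgroup.center Q := Subgroup.mem_center_iff.2 fun q =>
    Subtype.ext (Subgroup.mem_centralizer_singleton_iff.1 (hQC q.2))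
  have hzp : (Subgroup.center Q).map Q.subtype = Subgroup.zpowers z := by
    symm
    refine Subgroup.eq_of_le_of_card_ge (Subgroup.zpowers_le.2 ⟨_, hzZ, rfl⟩) ?_
    rw [Subgroup.card_map_of_injective Q.subtype_injective, hQ.2, Nat.card_zpowers, hz]
  refine ⟨hQ, hzp, le_antisymm ?_ ?_, ?_⟩
  · intro x hx
    rw [Subgroup.mem_centralizer_iff] at hx
    have hxC : x ∈ C := Subgroup.mem_centralizer_singleton_iff.2 (hx z hzQ).symm
    have hxF : (⟨x, hxC⟩ : C) ∈ Subgroup.centralizer (F : Set C) :=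
      Subgroup.mem_centralizer_iff.2 fun y hy => Subtype.ext (hx y (hF ▸ ⟨y, hy, rfl⟩))
    have hxQ : x ∈ Q := hF ▸ ⟨_, Components.centralizer_generalizedFitting_le hxF, rfl⟩
    rw [← hzp]
    exact ⟨⟨x, hxQ⟩, Subgroup.mem_center_iff.2 fun y => Subtype.ext (hx y y.2), rfl⟩
  · exact Subgroup.zpowers_le.2 (Subgroup.mem_centralizer_iff.2 fun y hy =>
      Subgroup.mem_centralizer_singleton_iff.1 (hQC hy))
  · intro x hx
    have hch : F.Normal := inferInstance
    have key : ∀ c ∈ C, ∀ q ∈ Q, c * q * c⁻¹ ∈ Q := by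
      intro c hc q hq
      rw [← hF] at hq ⊢
      obtain ⟨y, hy, rfl⟩ := hq
      exact ⟨⟨c, hc⟩ * y * ⟨c, hc⟩⁻¹, hch.conj_mem y hy _, rfl⟩
    rw [Subgroup.mem_normalizer_iff]
    refine fun q => ⟨key x hx q, fun hq => ?_⟩
    have := key x⁻¹ (inv_mem hx) _ hq
    simpa [mul_assoc] using this

/-- An averaging argument: a sign character invariant under an odd group and trivial on the fixed
points of a subgroup is trivial. -/
theorem Setup.center_fixed {Q : Subgroup G} {z : G} (h : Setup Q z) {A : Subgroup G}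
    (hA : A ≤ Subgroup.centralizer ({z} : Set G)) (hodd : Odd (Nat.card A)) {x : G}
    (hx : x ∈ Q ⊓ Subgroup.centralizer (A : Set G))
    (hxc : ∀ y ∈ Q ⊓ Subgroup.centralizer (A : Set G), Commute x y) : x ∈ Subgroup.zpowers z := by
  classical
  refine h.mem_zpowers_of_center hx.1 fun y hy => ?_
  haveI : Fintype A := Fintype.ofFinite A
  haveI : (Subgroup.center Q).Normal := inferInstance
  let act : A → Q → Q := fun a q =>
    ⟨(a : G) * q * (a : G)⁻¹, h.conj_mem (Subgroup.mem_centralizer_singleton_iff.1 (hA a.2)) q.2⟩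
  let π := QuotientGroup.mk' (Subgroup.center Q)
  haveI : IsMulCommutative (Q ⧸ Subgroup.center Q) := ⟨⟨fun u v => by
    induction u using QuotientGroup.induction_on with
    | _ a =>
      induction v using QuotientGroup.induction_on with
      | _ b =>
        rw [← QuotientGroup.mk_mul, ← QuotientGroup.mk_mul, QuotientGroup.eq]
        have := PGroup.xs_comm_mem h.extraspecial b⁻¹ a⁻¹
        rwa [show (a * b)⁻¹ * (b * a) = ⁅b⁻¹, a⁻¹⁆ by rw [commutatorElement_def]; group]⟩⟩
  open scoped IsMulCommutative in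
  let P : Q ⧸ Subgroup.center Q := ∏ a : A, π (act a ⟨y, hy⟩)
  -- the sign character
  have hval : ∀ q : Q, x * (q : G) * x⁻¹ * (q : G)⁻¹ ∈ Subgroup.zpowers z := fun q => by
    rcases h.comm_cases hx.1 q.2 with e | e <;> rw [e]
    · exact one_mem _
    · exact Subgroup.mem_zpowers z
  have hzc : ∀ w ∈ Subgroup.zpowers z, ∀ q ∈ Q, Commute w q := fun w hw q hq => by
    rcases h.zpowers_cases hw with e | e <;> rw [e]
    · exact Commute.one_left q
    · exact h.z_commute hq
  let χ : Q →* G := MonoidHom.mk' (fun q => x * q * x⁻¹ * (q : G)⁻¹) fun p q => by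
    push_cast
    rw [show x * ((p : G) * q) * x⁻¹ * ((p : G) * q)⁻¹ =
      x * p * x⁻¹ * (x * q * x⁻¹ * (q : G)⁻¹) * (p : G)⁻¹ by group,
      mul_assoc (x * (p : G) * x⁻¹), (hzc _ (hval q) _ (inv_mem p.2)).eq, ← mul_assoc]
  have hker : ∀ q ∈ Subgroup.center Q, χ q = 1 := fun q hq => by
    have := congrArg Subtype.val (Subgroup.mem_center_iff.1 hq ⟨x, hx.1⟩)
    show x * q * x⁻¹ * (q : G)⁻¹ = 1
    rw [show x * (q : G) = q * x from this]
    group
  have hact : ∀ a q, χ (act a q) = χ q := fun a q => by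
    have hax : (a : G) * x = x * a := Subgroup.mem_centralizer_iff.1 hx.2 a a.2
    have haz : (a : G) * z = z * a := Subgroup.mem_centralizer_singleton_iff.1 (hA a.2)
    show x * ((a : G) * (q : G) * (a : G)⁻¹) * x⁻¹ * ((a : G) * (q : G) * (a : G)⁻¹)⁻¹ = x * q * x⁻¹ * (q : G)⁻¹
    calc x * ((a : G) * (q : G) * (a : G)⁻¹) * x⁻¹ * ((a : G) * (q : G) * (a : G)⁻¹)⁻¹ =
          (x * (a : G)) * q * ((x * (a : G))⁻¹ * ((a : G) * (q : G)⁻¹ * (a : G)⁻¹)) := by group
      _ = (a : G) * (x * q * x⁻¹ * (q : G)⁻¹) * (a : G)⁻¹ := by rw [← hax]; group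
      _ = _ := by
          rcases h.zpowers_cases (hval q) with e | e <;> rw [e]
          · group
          · rw [haz, mul_inv_cancel_right]
  -- the product over `A` lifts to a fixed element
  obtain ⟨f, hf⟩ := QuotientGroup.mk'_surjective (Subgroup.center Q) P
  have hfix : ∀ b : A, (b : G) * f * (b : G)⁻¹ * (f : G)⁻¹ ∈ Subgroup.zpowers z := by
    intro b
    let σ : Q →* Q := MonoidHom.mk' (act b) fun p q => Subtype.ext (by simp [act, mul_assoc])
    let σ' : Q ⧸ Subgroup.center Q →* Q ⧸ Subgroup.center Q :=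
      QuotientGroup.map _ _ σ fun q hq => by
        rw [Subgroup.mem_comap, Subgroup.mem_center_iff]
        intro w
        have hb : (b⁻¹ : A).1 ∈ Subgroup.centralizer ({z} : Set G) := hA (b⁻¹ : A).2
        have := congrArg Subtype.val (Subgroup.mem_center_iff.1 hq (act b⁻¹ w))
        apply Subtype.ext
        simp only [σ, MonoidHom.mk'_apply, act, Subgroup.coe_mul] at this ⊢
        push_cast at this
        calc (w : G) * (b * q * (b : G)⁻¹) = b * ((b : G)⁻¹ * w * (b : G)⁻¹⁻¹ * q) * (b : G)⁻¹ := by group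
          _ = b * (q * ((b : G)⁻¹ * w * (b : G)⁻¹⁻¹)) * (b : G)⁻¹ := by rw [this]
          _ = b * q * (b : G)⁻¹ * w := by group
    have hP : σ' P = P := by
      open scoped IsMulCommutative in
      rw [map_prod]
      refine Fintype.prod_equiv (Equiv.mulLeft b) _ _ fun a => ?_
      show π (act b (act a ⟨y, hy⟩)) = π (act (b * a) ⟨y, hy⟩)
      exact congrArg π (Subtype.ext (by simp [act, mul_assoc]))
    rw [← hf] at hP
    have hP' : π (act b f) = π f := hP
    have hm := QuotientGroup.eq.1 hP'.symm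
    rw [← h.center_eq]
    refine ⟨f * (f⁻¹ * act b f) * f⁻¹, (inferInstance : (Subgroup.center Q).Normal).conj_mem _ hm _, ?_⟩
    simp [act, mul_assoc]
  have hfC : (f : G) ∈ Subgroup.centralizer (A : Set G) := by
    rw [Subgroup.mem_centralizer_iff]
    intro b hb
    rcases h.zpowers_cases (hfix ⟨b, hb⟩) with e | e
    · rw [mul_inv_eq_one, mul_inv_eq_iff_eq_mul] at e
      exact e
    · exfalso
      have hbz : Commute b z := Subgroup.mem_centralizer_singleton_iff.1 (hA hb)
      have hbf : (f : G)⁻¹ * b * f = z * b := by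
        have e' : b * (f : G) * b⁻¹ = z * f := mul_inv_eq_iff_eq_mul.1 e
        have e'' : b * f = z * f * b := mul_inv_eq_iff_eq_mul.1 e'
        rw [mul_assoc, e'', (h.z_commute f.2).eq]
        group
      have hord : orderOf b ∣ Nat.card A := Subgroup.orderOf_dvd_natCard A hb
      have hodd' : Odd (orderOf b) := hodd.of_dvd_nat hord
      have h1 : ((f : G)⁻¹ * b * f) ^ orderOf b = 1 := by
        rw [show (f : G)⁻¹ * b * f = MulAut.conj (f : G)⁻¹ b by simp, ← map_pow, pow_orderOf_eq_one,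
          map_one]
      rw [hbf, hbz.symm.mul_pow, pow_orderOf_eq_one, mul_one] at h1
      obtain ⟨j, hj⟩ := hodd'
      rw [hj, pow_add, pow_mul, pow_two, h.z_mul_self, one_pow, one_mul, pow_one] at h1
      exact h.z_ne_one h1
  have hprod : χ ⟨y, hy⟩ = 1 := by
    let χ' : Q ⧸ Subgroup.center Q →* Subgroup.zpowers z := QuotientGroup.lift _
      (χ.codRestrict (Subgroup.zpowers z) hval) fun q hq => MonoidHom.mem_ker.2 (Subtype.ext (hker q hq))
    have e1 : χ' P = 1 := by
      rw [← hf]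
      refine Subtype.ext ?_
      show x * f * x⁻¹ * (f : G)⁻¹ = 1
      rw [(hxc f ⟨f.2, hfC⟩).eq]; group
    open scoped IsMulCommutative in
    rw [map_prod] at e1
    have e2 : ∀ a : A, χ' (π (act a ⟨y, hy⟩)) = (⟨χ ⟨y, hy⟩, hval _⟩ : Subgroup.zpowers z) := fun a =>
      Subtype.ext (hact a ⟨y, hy⟩)
    simp only [e2, Finset.prod_const, Finset.card_univ] at e1
    have e3 := congrArg Subtype.val e1
    obtain ⟨j, hj⟩ := hodd
    rw [Nat.card_eq_fintype_card] at hj
    rcases h.zpowers_cases (hval ⟨y, hy⟩) with e | e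
    · exact e
    · exfalso
      push_cast at e3
      rw [show χ ⟨y, hy⟩ = z from e, hj, pow_add, pow_mul, pow_two, h.z_mul_self, one_pow, one_mul,
        pow_one] at e3
      exact h.z_ne_one e3
  have hp' : x * y * x⁻¹ * y⁻¹ = 1 := hprod
  rw [mul_inv_eq_one, mul_inv_eq_iff_eq_mul] at hp'
  exact hp'

/-- A setup in a quotient, from the image of a subgroup meeting the kernel trivially modulo `z`. -/
theorem map_setup {H : Type*} [Group H] (π : G →* H) {z : G} {P : Subgroup G}
    (hP : IsPGroup 2 P) (hzP : z ∈ P) (hz1 : π z ≠ 1) (hz2 : z * z = 1)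
    (hcent : ∀ x ∈ P, (∀ y ∈ P, π x * π y = π y * π x) → π x ∈ Subgroup.zpowers (π z))
    (hzc : ∀ y ∈ P, π z * π y = π y * π z)
    (hcomm : ∀ x ∈ P, ∀ y ∈ P, π (x * y * x⁻¹ * y⁻¹) ∈ Subgroup.zpowers (π z))
    (hsq : ∀ x ∈ P, π (x * x) ∈ Subgroup.zpowers (π z))
    (hne : ∃ x ∈ P, ∃ y ∈ P, π (x * y * x⁻¹ * y⁻¹) ≠ 1)
    (hC : ∀ c : H, c ∈ Subgroup.centralizer ((P.map π : Subgroup H) : Set H) → c ∈ Subgroup.zpowers (π z))
    (hN : ∀ c : H, Commute c (π z) → ∀ x ∈ P, c * π x * c⁻¹ ∈ P.map π)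
    [Finite H] : Setup (P.map π) (π z) := by
  have hex : Cfsg.IsExtraspecial 2 ↥(P.map π) := by
    refine isExtraspecial_of (c := ⟨π z, z, hzP, rfl⟩) (hP.map π) (fun e => hz1 (congrArg Subtype.val e))
      (Subtype.ext (by push_cast; rw [← map_mul, hz2, map_one])) ?_ ?_ ?_ ?_ ?_
    · rintro ⟨_, y, hy, rfl⟩; exact Subtype.ext (hzc y hy)
    · rintro ⟨_, x, hx, rfl⟩ hxy
      obtain ⟨i, hi⟩ := hcent x hx fun y hy => congrArg Subtype.val (hxy ⟨π y, y, hy, rfl⟩).eq
      exact ⟨i, Subtype.ext (by push_cast; exact hi)⟩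
    · rintro ⟨_, x, hx, rfl⟩ ⟨_, y, hy, rfl⟩
      obtain ⟨i, hi⟩ := hcomm x hx y hy
      simp only at hi
      exact ⟨i, Subtype.ext (by push_cast; rw [hi]; simp [commutatorElement_def])⟩
    · rintro ⟨_, x, hx, rfl⟩
      obtain ⟨i, hi⟩ := hsq x hx
      simp only at hi
      exact ⟨i, Subtype.ext (by push_cast; rw [hi]; simp)⟩
    · obtain ⟨x, hx, y, hy, hxy⟩ := hne
      refine ⟨⟨π x, x, hx, rfl⟩, ⟨π y, y, hy, rfl⟩, fun e => hxy ?_⟩
      simpa [commutatorElement_def] using congrArg Subtype.val e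
  have hzp : (Subgroup.center ↥(P.map π)).map (P.map π).subtype = Subgroup.zpowers (π z) := by
    refine le_antisymm ?_ (Subgroup.zpowers_le.2 ⟨⟨π z, z, hzP, rfl⟩, Subgroup.mem_center_iff.2
      (by rintro ⟨_, y, hy, rfl⟩; exact Subtype.ext (hzc y hy).symm), rfl⟩)
    rintro _ ⟨⟨_, x, hx, rfl⟩, hxc, rfl⟩
    exact hcent x hx fun y hy =>
      (congrArg Subtype.val (Subgroup.mem_center_iff.1 hxc ⟨π y, y, hy, rfl⟩)).symm
  refine ⟨hex, hzp, le_antisymm hC (Subgroup.zpowers_le.2 (Subgroup.mem_centralizer_iff.2 ?_)), ?_⟩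
  · rintro _ ⟨y, hy, rfl⟩; exact (hzc y hy).symm
  · intro c hc
    rw [Subgroup.mem_centralizer_singleton_iff] at hc
    rw [Subgroup.mem_normalizer_iff]
    intro v
    constructor
    · rintro ⟨x, hx, rfl⟩; exact hN c hc x hx
    · rintro ⟨x, hx, hxe⟩
      have := hN c⁻¹ (Commute.inv_left hc) x hx
      rw [hxe] at this
      rwa [inv_inv, show c⁻¹ * (c * v * c⁻¹) * c = v by group] at this

end Cfsg.Agent.LargeExtraspecial
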