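import Cfsg.Agent.Lib.PGroup.Extraspecial
import Cfsg.Agent.Lib.Thompson.Cores
import Cfsg.Prelude.Def_MonsterType

/-!
# Extraspecial 2-subgroups that contain their centralizers

`large_of_center_mem`, `large_of_involution`: criteria for being large.
`inner_of_commutator_mem`: an element normalizing `Q` and acting trivially on `Q` modulo the centre
lies in `Q`.
-/

set_option autoImplicit false

namespace Cfsg.Agent.LargeExtraspecial

open scoped commutatorElement

variable {G : Type*} [Group G]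

theorem frattini_equiv {A B : Type*} [Group A] [Group B] (e : A ≃* B) :
    (frattini A).map e.toMonoidHom = frattini B := by
  refine le_antisymm (Subgroup.map_le_iff_le_comap.2
    (frattini_le_comap_frattini_of_surjective e.surjective)) fun x hx => ?_
  rw [Subgroup.mem_map_equiv]
  exact frattini_le_comap_frattini_of_surjective (φ := e.symm.toMonoidHom) e.symm.surjective hx

/-- An extraspecial 2-subgroup `Q` with centre generated by `z`, containing its centralizer, and
normalized by the centralizer of `z`. -/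
structure Setup (Q : Subgroup G) (z : G) : Prop where
  extraspecial : Cfsg.IsExtraspecial 2 Q
  center_eq : (Subgroup.center Q).map Q.subtype = Subgroup.zpowers z
  centralizer_eq : Subgroup.centralizer (Q : Set G) = Subgroup.zpowers z
  centralizer_le : Subgroup.centralizer ({z} : Set G) ≤ Subgroup.normalizer (Q : Set G)

theorem centralizer_zpowers (z : G) :
    Subgroup.centralizer ((Subgroup.zpowers z : Subgroup G) : Set G) = Subgroup.centralizer {z} := by
  rw [Subgroup.zpowers_eq_closure, Subgroup.centralizer_closure]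

theorem exists_center_gen {Q : Subgroup G} (hQ : Cfsg.IsExtraspecial 2 Q) :
    ∃ z : G, (Subgroup.center Q).map Q.subtype = Subgroup.zpowers z := by
  have hcard : Nat.card (Subgroup.center Q) = 2 := hQ.2
  haveI : Fact (Nat.Prime 2) := ⟨Nat.prime_two⟩
  obtain ⟨u, hu⟩ := (isCyclic_of_prime_card hcard).exists_generator
  refine ⟨((u : Q) : G), le_antisymm ?_ (Subgroup.zpowers_le.2 ⟨u, u.2, rfl⟩)⟩
  rintro _ ⟨w, hw, rfl⟩
  obtain ⟨k, hk⟩ := Subgroup.mem_zpowers_iff.1 (hu ⟨w, hw⟩)
  exact ⟨k, by have := congrArg (fun t : Subgroup.center Q => ((t : Q) : G)) hk; simpa using this⟩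

/-- The setup from the conditions on the centre. -/
theorem Setup.of_center {Q : Subgroup G} {z : G} (hE : Cfsg.IsExtraspecial 2 Q)
    (hz : (Subgroup.center Q).map Q.subtype = Subgroup.zpowers z)
    (hC : Subgroup.centralizer (Q : Set G) = (Subgroup.center Q).map Q.subtype)
    (hN : Subgroup.centralizer (((Subgroup.center Q).map Q.subtype : Subgroup G) : Set G) ≤
      Subgroup.normalizer (Q : Set G)) : Setup Q z :=
  ⟨hE, hz, hC.trans hz, by rw [hz, centralizer_zpowers] at hN; exact hN⟩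

theorem mem_normalizer_of_centralizes {K : Subgroup G} {k : G}
    (h : ∀ y ∈ K, k * y * k⁻¹ = y) : k ∈ Subgroup.normalizer (K : Set G) := by
  rw [Subgroup.mem_normalizer_iff]
  refine fun y => ⟨fun hy => by rw [h y hy]; exact hy, fun hy => ?_⟩
  have := h _ hy
  have e : y = k * y * k⁻¹ := by
    have e1 := congrArg (fun t => k⁻¹ * t * k) this
    simpa [mul_assoc] using e1.symm
  rwa [e]

/-- A fixed-point-free involution acting on a finite subgroup inverts it. -/
theorem inverts_of_fixedPointFree [Finite G] {K : Subgroup G} {a : G} (ha : a * a = 1)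
    (hK : a ∈ Subgroup.normalizer (K : Set G)) (h : ∀ k ∈ K, a * k * a⁻¹ = k → k = 1) :
    ∀ k ∈ K, a * k * a⁻¹ = k⁻¹ := by
  let φ : K →* K := MonoidHom.mk' (fun k => ⟨a * k * a⁻¹, (Subgroup.mem_normalizer_iff.1 hK k).1 k.2⟩)
    fun x y => Subtype.ext (by simp [mul_assoc])
  have hf : MonoidHom.FixedPointFree φ := fun k hk =>
    Subtype.ext (h k k.2 (congrArg Subtype.val hk))
  have h2 : Function.Involutive φ := fun k => Subtype.ext (by
    show a * (a * k * a⁻¹) * a⁻¹ = k
    rw [show a * (a * k * a⁻¹) * a⁻¹ = (a * a) * k * (a * a)⁻¹ by group, ha]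
    simp)
  intro k hk
  have := congrFun (MonoidHom.FixedPointFree.coe_eq_inv_of_involutive hf h2) ⟨k, hk⟩
  exact congrArg Subtype.val this

namespace Setup

variable {Q : Subgroup G} {z : G}

theorem z_mem (h : Setup Q z) : z ∈ Q :=
  Subgroup.map_subtype_le _ (h.center_eq ▸ Subgroup.mem_zpowers z)

theorem orderOf_z (h : Setup Q z) : orderOf z = 2 := by
  rw [← Nat.card_zpowers, ← h.center_eq, Subgroup.card_map_of_injective Q.subtype_injective]
  exact h.extraspecial.2

theorem z_mul_self (h : Setup Q z) : z * z = 1 := by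
  rw [← pow_two, ← h.orderOf_z, pow_orderOf_eq_one]

theorem z_inv (h : Setup Q z) : z⁻¹ = z := inv_eq_of_mul_eq_one_left h.z_mul_self

theorem z_ne_one (h : Setup Q z) : z ≠ 1 := fun e => by
  simpa [e] using h.orderOf_z

theorem zpowers_cases (h : Setup Q z) {w : G} (hw : w ∈ Subgroup.zpowers z) : w = 1 ∨ w = z := by
  obtain ⟨i, rfl⟩ := Subgroup.mem_zpowers_iff.1 hw
  rcases Int.even_or_odd' i with ⟨j, rfl | rfl⟩
  · left; rw [zpow_mul, zpow_two, h.z_mul_self, one_zpow]
  · right; rw [zpow_add, zpow_mul, zpow_two, h.z_mul_self, one_zpow, one_mul, zpow_one]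

theorem z_commute (h : Setup Q z) {x : G} (hx : x ∈ Q) : Commute z x := by
  have hz : z ∈ (Subgroup.center Q).map Q.subtype := h.center_eq ▸ Subgroup.mem_zpowers z
  obtain ⟨w, hw, rfl⟩ := hz
  exact (congrArg Subtype.val (Subgroup.mem_center_iff.1 hw ⟨x, hx⟩)).symm

theorem le_centralizer (h : Setup Q z) : Q ≤ Subgroup.centralizer ({z} : Set G) := fun x hx => by
  rw [Subgroup.mem_centralizer_singleton_iff]
  exact (h.z_commute hx).eq.symm

theorem mem_zpowers_of_center (h : Setup Q z) {x : G} (hx : x ∈ Q)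
    (hc : ∀ y ∈ Q, Commute x y) : x ∈ Subgroup.zpowers z := by
  rw [← h.center_eq]
  exact ⟨⟨x, hx⟩, Subgroup.mem_center_iff.2 fun y => Subtype.ext (hc y y.2).eq.symm, rfl⟩

theorem comm_cases (h : Setup Q z) {x y : G} (hx : x ∈ Q) (hy : y ∈ Q) :
    x * y * x⁻¹ * y⁻¹ = 1 ∨ x * y * x⁻¹ * y⁻¹ = z :=
  h.zpowers_cases (h.center_eq ▸
    ⟨⁅(⟨x, hx⟩ : Q), ⟨y, hy⟩⁆, PGroup.xs_comm_mem h.extraspecial _ _, by
      simp [commutatorElement_def]⟩)

theorem conj_cases (h : Setup Q z) {x y : G} (hx : x ∈ Q) (hy : y ∈ Q) :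
    x * y * x⁻¹ = y ∨ x * y * x⁻¹ = z * y := by
  rcases h.comm_cases hx hy with e | e
  · left; rwa [mul_inv_eq_one] at e
  · right; rwa [mul_inv_eq_iff_eq_mul] at e

theorem sq_mem [Finite G] (h : Setup Q z) {x : G} (hx : x ∈ Q) : x * x ∈ Subgroup.zpowers z := by
  haveI : Fact (Nat.Prime 2) := ⟨Nat.prime_two⟩
  rw [← h.center_eq]
  exact ⟨(⟨x, hx⟩ : Q) ^ 2, PGroup.xs_pow_mem h.extraspecial _, by simp [pow_two]⟩

/-- The setup holds for conjugates. -/
theorem conj (h : Setup Q z) (g : G) :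
    Setup (Q.map (MulAut.conj g).toMonoidHom) (g * z * g⁻¹) := by
  set f := (MulAut.conj g).toMonoidHom with hf
  have finj : Function.Injective f := (MulAut.conj g).injective
  let e : Q ≃* Q.map f := Subgroup.equivMapOfInjective Q f finj
  have hcen : (Subgroup.center (Q.map f)).map (Q.map f).subtype =
      ((Subgroup.center Q).map Q.subtype).map f := by
    ext x
    constructor
    · rintro ⟨y, hy, rfl⟩
      refine ⟨e.symm y, ⟨e.symm y, ?_, rfl⟩, ?_⟩
      · rw [SetLike.mem_coe, Subgroup.mem_center_iff] at hy ⊢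
        intro w
        apply e.injective
        simpa using hy (e w)
      · exact congrArg Subtype.val (e.apply_symm_apply y)
    · rintro ⟨_, ⟨y, hy, rfl⟩, rfl⟩
      refine ⟨e y, ?_, rfl⟩
      rw [SetLike.mem_coe, Subgroup.mem_center_iff] at hy ⊢
      intro w
      apply e.symm.injective
      simpa using hy (e.symm w)
  have hzp : (Subgroup.zpowers z).map f = Subgroup.zpowers (g * z * g⁻¹) := by
    rw [MonoidHom.map_zpowers]; rfl
  have hcent : ∀ (S : Set G), Subgroup.centralizer (f '' S) = (Subgroup.centralizer S).map f := by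
    intro S
    ext x
    rw [hf, Subgroup.mem_map_equiv, MulAut.conj_symm_apply, Subgroup.mem_centralizer_iff,
      Subgroup.mem_centralizer_iff]
    constructor
    · intro hx s hs
      have := hx _ ⟨s, hs, rfl⟩
      simp only [MulEquiv.coe_toMonoidHom, MulAut.conj_apply] at this
      calc s * (g⁻¹ * x * g) = g⁻¹ * (g * s * g⁻¹ * x) * g := by group
        _ = g⁻¹ * (x * (g * s * g⁻¹)) * g := by rw [this]
        _ = g⁻¹ * x * g * s := by group
    · rintro hx _ ⟨s, hs, rfl⟩
      simp only [MulEquiv.coe_toMonoidHom, MulAut.conj_apply]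
      calc g * s * g⁻¹ * x = g * (s * (g⁻¹ * x * g)) * g⁻¹ := by group
        _ = g * (g⁻¹ * x * g * s) * g⁻¹ := by rw [hx s hs]
        _ = x * (g * s * g⁻¹) := by group
  refine ⟨?_, ?_, ?_, ?_⟩
  · obtain ⟨⟨h1, h2, h3⟩, h4⟩ := h.extraspecial
    have hc : (Subgroup.center Q).map e.toMonoidHom = Subgroup.center (Q.map f) := by
      ext x
      rw [Subgroup.mem_map_equiv, Subgroup.mem_center_iff, Subgroup.mem_center_iff]
      constructor
      · intro hx w; apply e.symm.injective; simpa using hx (e.symm w)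
      · intro hx w; apply e.injective; simpa using hx (e w)
    refine ⟨⟨h1.of_equiv e, ?_, ?_⟩, ?_⟩
    · rw [← hc, ← h2, frattini_equiv]
    · rw [← hc, ← h3, commutator_def, commutator_def, Subgroup.map_commutator,
        Subgroup.map_top_of_surjective _ e.surjective]
    · rw [← hc, Subgroup.card_map_of_injective (f := e.toMonoidHom) e.injective, h4]
  · rw [hcen, h.center_eq, hzp]
  · rw [show ((Q.map f : Subgroup G) : Set G) = f '' (Q : Set G) from rfl, hcent, h.centralizer_eq,
      hzp]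
  · intro x hx
    have hx' : g⁻¹ * x * g ∈ Subgroup.normalizer (Q : Set G) := by
      refine h.centralizer_le ?_
      rw [Subgroup.mem_centralizer_singleton_iff] at hx ⊢
      calc g⁻¹ * x * g * z = g⁻¹ * (x * (g * z * g⁻¹)) * g := by group
        _ = g⁻¹ * (g * z * g⁻¹ * x) * g := by rw [hx]
        _ = z * (g⁻¹ * x * g) := by group
    rw [Subgroup.mem_normalizer_iff] at hx' ⊢
    intro y
    simp only [hf, Subgroup.mem_map_equiv, MulAut.conj_symm_apply]
    rw [show g⁻¹ * (x * y * x⁻¹) * g = g⁻¹ * x * g * (g⁻¹ * y * g) * (g⁻¹ * x * g)⁻¹ by group]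
    exact hx' _

/-- Elements of odd order groups normalized by `Q` which commute with `z` are trivial. -/
theorem eq_one_of_commute [Finite G] (h : Setup Q z) {K : Subgroup G} (hK : Odd (Nat.card K))
    (hn : Q ≤ Subgroup.normalizer (K : Set G)) {k : G} (hk : k ∈ K) (hkz : Commute z k) : k = 1 := by
  have hkN : k ∈ Subgroup.normalizer (Q : Set G) :=
    h.centralizer_le (Subgroup.mem_centralizer_singleton_iff.2 hkz.eq.symm)
  have hcop : Nat.Coprime (Nat.card K) 2 :=
    (Nat.coprime_two_right).2 hK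
  have triv : ∀ w : G, w ∈ K → w ∈ Q → w = 1 := by
    intro w hwK hwQ
    obtain ⟨i, hi⟩ := h.extraspecial.1.1 ⟨w, hwQ⟩
    have h1 : orderOf w ∣ 2 ^ i := orderOf_dvd_of_pow_eq_one (by simpa [Subtype.ext_iff] using hi)
    have h2 : orderOf w ∣ Nat.card K := Subgroup.orderOf_dvd_natCard K hwK
    exact orderOf_eq_one_iff.1 (Nat.eq_one_of_dvd_coprimes (hcop.pow_right i) h2 h1)
  have hmem : k ∈ Subgroup.centralizer (Q : Set G) := by
    rw [Subgroup.mem_centralizer_iff]
    intro x hx
    have h1 : x * k * x⁻¹ * k⁻¹ = 1 := by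
      refine triv _ (mul_mem ((Subgroup.mem_normalizer_iff.1 (hn hx) k).1 hk) (inv_mem hk)) ?_
      have := mul_mem hx ((Subgroup.mem_normalizer_iff.1 hkN x⁻¹).1 (inv_mem hx))
      simpa [mul_assoc] using this
    rwa [mul_inv_eq_one, mul_inv_eq_iff_eq_mul] at h1
  rw [h.centralizer_eq] at hmem
  exact triv k hk (Subgroup.zpowers_le.2 h.z_mem hmem)

/-- If `z` lies in a normal 2-subgroup then `Q` is large. -/
theorem large_of_center_mem [Finite G] (h : Setup Q z) (hz : z ∈ Cfsg.pCore 2 G) :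
    Cfsg.IsLargeExtraspecial Q := by
  haveI : Fact (Nat.Prime 2) := ⟨Nat.prime_two⟩
  haveI : (Cfsg.pCore 2 G).Normal := Thompson.instPCoreNormal
  refine ⟨h.extraspecial, h.centralizer_eq.trans h.center_eq.symm,
    by rw [h.center_eq, centralizer_zpowers]; exact h.centralizer_le, fun K hK hn => ?_⟩
  rw [eq_bot_iff]
  intro k hk
  refine h.eq_one_of_commute hK hn hk ?_
  have hcK : z * k * z⁻¹ * k⁻¹ ∈ K :=
    mul_mem ((Subgroup.mem_normalizer_iff.1 (hn h.z_mem) k).1 hk) (inv_mem hk)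
  have hcT : z * k * z⁻¹ * k⁻¹ ∈ Cfsg.pCore 2 G := by
    have := mul_mem hz ((inferInstance : (Cfsg.pCore 2 G).Normal).conj_mem _ (inv_mem hz) k)
    simpa [mul_assoc] using this
  obtain ⟨i, hi⟩ := Thompson.isPGroup_pCore (p := 2) (G := G) ⟨_, hcT⟩
  have h1 : orderOf (z * k * z⁻¹ * k⁻¹) ∣ 2 ^ i :=
    orderOf_dvd_of_pow_eq_one (by simpa [Subtype.ext_iff] using hi)
  have h3 := orderOf_eq_one_iff.1 (Nat.eq_one_of_dvd_coprimes
    (((Nat.coprime_two_right).2 hK).pow_right i) (Subgroup.orderOf_dvd_natCard K hcK) h1)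
  rw [mul_inv_eq_one, mul_inv_eq_iff_eq_mul] at h3
  exact h3

/-- If `z` lies in a normal 2-subgroup of the centralizer of an involution of `Q` outside the centre
then `Q` is large. -/
theorem large_of_involution [Finite G] (h : Setup Q z) {b : G} (hbQ : b ∈ Q)
    (hbz : b ∉ Subgroup.zpowers z) (hb : b * b = 1) {T : Subgroup G}
    (hT : T ≤ Subgroup.centralizer ({b} : Set G))
    (hTn : ∀ c ∈ Subgroup.centralizer ({b} : Set G), ∀ t ∈ T, c * t * c⁻¹ ∈ T)
    (hT2 : IsPGroup 2 T) (hzT : z ∈ T) : Cfsg.IsLargeExtraspecial Q := by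
  refine ⟨h.extraspecial, h.centralizer_eq.trans h.center_eq.symm,
    by rw [h.center_eq, centralizer_zpowers]; exact h.centralizer_le, fun K hK hn => ?_⟩
  have fixb : ∀ k ∈ K, b * k * b⁻¹ = k → k = 1 := by
    intro k hk hbk
    rw [mul_inv_eq_iff_eq_mul] at hbk
    have hkC : k ∈ Subgroup.centralizer ({b} : Set G) :=
      Subgroup.mem_centralizer_singleton_iff.2 hbk.symm
    refine h.eq_one_of_commute hK hn hk ?_
    have hcK : z * k * z⁻¹ * k⁻¹ ∈ K :=
      mul_mem ((Subgroup.mem_normalizer_iff.1 (hn h.z_mem) k).1 hk) (inv_mem hk)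
    have hcT : z * k * z⁻¹ * k⁻¹ ∈ T := by
      have := mul_mem hzT (hTn k hkC _ (inv_mem hzT))
      simpa [mul_assoc] using this
    obtain ⟨i, hi⟩ := hT2 ⟨_, hcT⟩
    have h1 : orderOf (z * k * z⁻¹ * k⁻¹) ∣ 2 ^ i :=
      orderOf_dvd_of_pow_eq_one (by simpa [Subtype.ext_iff] using hi)
    have h3 := orderOf_eq_one_iff.1 (Nat.eq_one_of_dvd_coprimes
      (((Nat.coprime_two_right).2 hK).pow_right i) (Subgroup.orderOf_dvd_natCard K hcK) h1)
    rw [mul_inv_eq_one, mul_inv_eq_iff_eq_mul] at h3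
    exact h3
  have fixz : ∀ k ∈ K, z * k * z⁻¹ = k → k = 1 := fun k hk he =>
    h.eq_one_of_commute hK hn hk (mul_inv_eq_iff_eq_mul.1 he)
  have ib := inverts_of_fixedPointFree hb (hn hbQ) fixb
  have iz := inverts_of_fixedPointFree h.z_mul_self (hn h.z_mem) fixz
  -- `b * z` is conjugate to `b` in `Q`
  obtain ⟨y, hy, hyb⟩ : ∃ y ∈ Q, y * b * y⁻¹ = z * b := by
    by_contra hall
    push Not at hall
    exact hbz (h.mem_zpowers_of_center hbQ fun y hy =>
      ((mul_inv_eq_iff_eq_mul.1 ((h.conj_cases hy hbQ).resolve_right (hall y hy))).symm :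
        b * y = y * b))
  rw [eq_bot_iff]
  intro k hk
  have hk' : y⁻¹ * k * y ∈ K := by
    have := (Subgroup.mem_normalizer_iff.1 (inv_mem (hn hy)) k).1 hk
    rwa [inv_inv] at this
  have h1 : z * b * k * (z * b)⁻¹ = k := by
    rw [show z * b * k * (z * b)⁻¹ = z * (b * k * b⁻¹) * z⁻¹ by group, ib k hk, iz _ (inv_mem hk),
      inv_inv]
  rw [← hyb] at h1
  have h2 : b * (y⁻¹ * k * y) * b⁻¹ = y⁻¹ * k * y := by
    conv_rhs => rw [← h1]
    group
  have h4 := fixb _ hk' h2
  rw [Subgroup.mem_bot]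
  have h5 : k = y * (y⁻¹ * k * y) * y⁻¹ := by group
  rw [h5, h4]
  group

/-- An element acting trivially on `Q` modulo the centre lies in `Q`. -/
theorem inner_of_commutator_mem [Finite G] (h : Setup Q z) {c : G}
    (hc : ∀ y ∈ Q, c * y * c⁻¹ * y⁻¹ ∈ Subgroup.zpowers z) : c ∈ Q := by
  haveI : Fact (Nat.Prime 2) := ⟨Nat.prime_two⟩
  set Z := Subgroup.center Q
  have hZc : ∀ w ∈ Subgroup.zpowers z, ∀ y ∈ Q, Commute w y := fun w hw y hy => by
    rcases h.zpowers_cases hw with rfl | rfl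
    · exact Commute.one_left y
    · exact h.z_commute hy
  have hmem : ∀ {w : G}, w ∈ Subgroup.zpowers z → w ∈ Q := fun hw => Subgroup.zpowers_le.2 h.z_mem hw
  have hcz : c * z * c⁻¹ = z := by
    have h1 := hc z h.z_mem
    rcases h.zpowers_cases h1 with e | e
    · rwa [mul_inv_eq_one] at e
    · rw [mul_inv_eq_iff_eq_mul, h.z_mul_self, conj_eq_one_iff] at e
      exact absurd e h.z_ne_one
  -- the homomorphism defined by any element with this property
  have mk : ∀ a : G, (∀ y ∈ Q, a * y * a⁻¹ * y⁻¹ ∈ Subgroup.zpowers z) → a * z * a⁻¹ = z →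
      ∃ χ : Q ⧸ Z →* Z, ∀ y : Q, (((χ y : Z) : Q) : G) = a * y * a⁻¹ * (y : G)⁻¹ := by
    intro a ha haz
    have hz' : ∀ y : Q, ∃ u : Z, ((u : Q) : G) = a * y * a⁻¹ * (y : G)⁻¹ := by
      intro y
      have := ha y y.2
      rw [← h.center_eq] at this
      obtain ⟨u, hu, e⟩ := this
      exact ⟨⟨u, hu⟩, e⟩
    choose f hf using hz'
    let F : Q →* Z := MonoidHom.mk' f fun x y => Subtype.ext (Subtype.ext (by
      push_cast
      rw [hf, hf, hf]
      push_cast
      rw [show a * ((x : G) * y) * a⁻¹ * ((x : G) * y)⁻¹ =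
        a * x * a⁻¹ * (a * y * a⁻¹ * (y : G)⁻¹) * (x : G)⁻¹ by group,
        mul_assoc (a * (x : G) * a⁻¹), (hZc _ (ha y y.2) _ (inv_mem x.2)).eq, ← mul_assoc]))
    refine ⟨QuotientGroup.lift Z F fun y hy => ?_, fun y => by
      rw [show (y : Q ⧸ Z) = QuotientGroup.mk y from rfl, QuotientGroup.lift_mk]; exact hf y⟩
    rw [MonoidHom.mem_ker]
    apply Subtype.ext
    apply Subtype.ext
    show ((f y : Q) : G) = 1
    rw [hf]
    have : (y : G) ∈ Subgroup.zpowers z := by rw [← h.center_eq]; exact ⟨y, hy, rfl⟩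
    rcases h.zpowers_cases this with e | e <;> rw [e]
    · group
    · rw [haz, mul_inv_cancel]
  have haQ : ∀ a : Q, (∀ y ∈ Q, (a : G) * y * (a : G)⁻¹ * y⁻¹ ∈ Subgroup.zpowers z) := fun a y hy => by
    rcases h.comm_cases a.2 hy with e | e <;> rw [e]
    · exact one_mem _
    · exact Subgroup.mem_zpowers z
  have haz : ∀ a : Q, (a : G) * z * (a : G)⁻¹ = z := fun a => by
    rw [← (h.z_commute a.2).eq, mul_inv_cancel_right]
  choose Φ hΦ using fun a : Q => mk a (haQ a) (haz a)
  let Ψ : Q ⧸ Z → (Q ⧸ Z →* Z) := fun x => Φ x.out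
  have hinj : Function.Injective Ψ := by
    intro x y hxy
    rw [← QuotientGroup.out_eq' x, ← QuotientGroup.out_eq' y, QuotientGroup.eq]
    rw [Subgroup.mem_center_iff]
    intro w
    apply Subtype.ext
    have e := congrArg (fun χ : Q ⧸ Z →* Z => (((χ w : Z) : Q) : G)) hxy
    simp only [Ψ, hΦ] at e
    have e' : (x.out : G) * w * (x.out : G)⁻¹ = y.out * w * (y.out : G)⁻¹ := mul_right_cancel e
    push_cast
    calc (w : G) * ((x.out : G)⁻¹ * y.out) =
          (x.out : G)⁻¹ * ((x.out : G) * w * (x.out : G)⁻¹) * y.out := by group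
      _ = (x.out : G)⁻¹ * (y.out * w * (y.out : G)⁻¹) * y.out := by rw [e']
      _ = (x.out : G)⁻¹ * y.out * w := by group
  haveI : Finite (Q ⧸ Z →* Z) := Finite.of_injective _ DFunLike.coe_injective
  have hbij := hinj.bijective_of_nat_card_le
    (PGroup.card_monoidHom_le h.extraspecial.2 (h.extraspecial.1.1.to_quotient Z))
  obtain ⟨χ, hχ⟩ := mk c hc hcz
  obtain ⟨x, hx⟩ := hbij.2 χ
  have hcx : ((x.out : Q) : G)⁻¹ * c ∈ Subgroup.centralizer (Q : Set G) := by
    rw [Subgroup.mem_centralizer_iff]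
    intro y hy
    have e := congrArg (fun ψ : Q ⧸ Z →* Z => (((ψ (⟨y, hy⟩ : Q) : Z) : Q) : G)) hx
    simp only [Ψ, hΦ, hχ] at e
    have e' : (x.out : G) * y * (x.out : G)⁻¹ = c * y * c⁻¹ := mul_right_cancel e
    calc y * ((x.out : G)⁻¹ * c) =
          (x.out : G)⁻¹ * ((x.out : G) * y * (x.out : G)⁻¹) * c := by group
      _ = (x.out : G)⁻¹ * (c * y * c⁻¹) * c := by rw [e']
      _ = (x.out : G)⁻¹ * c * y := by group
  rw [h.centralizer_eq] at hcx
  have := mul_mem (x.out : Q).2 (hmem hcx)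
  rwa [mul_inv_cancel_left] at this

end Setup

end Cfsg.Agent.LargeExtraspecial
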