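import Cfsg.Agent.Lib.LargeExtraspecial.Transvection

/-!
# Groups containing the centralizer of a transvection
-/

set_option autoImplicit false

namespace Cfsg.Agent.LargeExtraspecial

theorem isExtraspecial_equiv {A B : Type*} [Group A] [Group B] (e : A ≃* B)
    (h : Cfsg.IsExtraspecial 2 A) : Cfsg.IsExtraspecial 2 B := by
  obtain ⟨⟨h1, h2, h3⟩, h4⟩ := h
  have hc : (Subgroup.center A).map e.toMonoidHom = Subgroup.center B := by
    ext x
    rw [Subgroup.mem_map_equiv, Subgroup.mem_center_iff, Subgroup.mem_center_iff]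
    constructor
    · intro hx w; apply e.symm.injective; simpa using hx (e.symm w)
    · intro hx w; apply e.injective; simpa using hx (e w)
  refine ⟨⟨h1.of_equiv e, ?_, ?_⟩, ?_⟩
  · rw [← hc, ← h2, frattini_equiv]
  · rw [← hc, ← h3, commutator_def, commutator_def, Subgroup.map_commutator,
      Subgroup.map_top_of_surjective _ e.surjective]
  · rw [← hc, Subgroup.card_map_of_injective (f := e.toMonoidHom) e.injective, h4]

namespace Transv

variable {n : ℕ}

theorem pullback (hn : 1 ≤ n) {G : Type*} [Group G] [Finite G] (f : G →* Amb n)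
    (hf : Function.Injective f) {z : G} (hz : f z = zel n) (hr : cent n ≤ f.range) :
    ∃ Q : Subgroup G,
      Q = (Cfsg.pCore 2 (Subgroup.centralizer ({z} : Set G))).map
        (Subgroup.centralizer ({z} : Set G)).subtype ∧
      Setup Q z ∧ Nat.card Q = 2 ^ (2 * n + 1) ∧ Q = (radical n).comap f ∧
      (∃ E : Subgroup G, E ≤ Q ∧ Cfsg.IsElementaryAbelian 2 E ∧ Nat.card E = 2 ^ (n + 1)) ∧
      ∃ K : Subgroup G, K ≤ Subgroup.centralizer ({z} : Set G) ∧ Q ⊓ K = ⊥ ∧
        Q ⊔ K = Subgroup.centralizer ({z} : Set G) ∧ Nonempty (↥K ≃* GL (Fin n) (ZMod 2)) := by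
  classical
  haveI : Fact (Nat.Prime 2) := ⟨Nat.prime_two⟩
  set C := Subgroup.centralizer ({z} : Set G) with hCdef
  have hCc : C = (cent n).comap f := by
    ext x
    rw [Subgroup.mem_comap, cent, hCdef, Subgroup.mem_centralizer_singleton_iff,
      Subgroup.mem_centralizer_singleton_iff, ← hz, ← map_mul, ← map_mul, hf.eq_iff]
  have mapC : ∀ S : Subgroup (Amb n), S ≤ cent n → (S.comap f).map f = S := fun S hS =>
    Subgroup.map_comap_eq_self (hS.trans hr)
  let ι : C ≃* cent n := (Subgroup.equivMapOfInjective C f hf).trans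
    (MulEquiv.subgroupCongr (by rw [hCc]; exact mapC _ le_rfl))
  have hι : ∀ c : C, (ι c : Amb n) = f c := fun _ => rfl
  have hQ : (Cfsg.pCore 2 C).map C.subtype = (radical n).comap f := by
    rw [← Subgroup.comap_map_eq_self_of_injective hf ((Cfsg.pCore 2 C).map C.subtype)]
    congr 1
    rw [← pCore_cent (n := n), ← Thompson.map_pCore_equiv ι, Subgroup.map_map, Subgroup.map_map]
    exact congrArg (fun ψ => Subgroup.map ψ (Cfsg.pCore 2 C)) (MonoidHom.ext fun c => (hι c).symm)
  refine ⟨_, rfl, ?_⟩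
  rw [hQ]
  let e : (radical n).comap f ≃* radical n :=
    (Subgroup.equivMapOfInjective _ f hf).trans (MulEquiv.subgroupCongr (mapC _ radical_le))
  have he : ∀ x, (e x : Amb n) = f x := fun _ => rfl
  have hsur : ∀ y ∈ radical n, ∃ x, f x ∈ radical n ∧ f x = y := fun y hy => by
    obtain ⟨x, rfl⟩ := hr (radical_le hy); exact ⟨x, hy, rfl⟩
  have hzp : Subgroup.zpowers z = (Subgroup.zpowers (zel n)).comap f := by
    rw [← Subgroup.comap_map_eq_self_of_injective hf (Subgroup.zpowers z), MonoidHom.map_zpowers, hz]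
  have hs := radical_setup hn
  refine ⟨⟨isExtraspecial_equiv e.symm hs.extraspecial, ?_, ?_, ?_⟩, ?_, rfl, ?_, ?_⟩
  · ext x
    rw [hzp, Subgroup.mem_comap, ← hs.center_eq]
    constructor
    · rintro ⟨y, hy, rfl⟩
      refine ⟨e y, Subgroup.mem_center_iff.2 fun w => ?_, he y⟩
      apply e.symm.injective
      simpa using Subgroup.mem_center_iff.1 hy (e.symm w)
    · rintro ⟨y, hy, hxy⟩
      refine ⟨e.symm y, Subgroup.mem_center_iff.2 fun w => ?_, hf ?_⟩
      · apply e.injective
        simpa using Subgroup.mem_center_iff.1 hy (e w)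
      · rw [← hxy]
        exact (he (e.symm y)).symm.trans (congrArg Subtype.val (e.apply_symm_apply y))
  · refine le_antisymm (fun x hx => ?_) (Subgroup.zpowers_le.2 (Subgroup.mem_centralizer_iff.2
      fun y hy => hf ?_))
    · rw [hzp, Subgroup.mem_comap, ← hs.centralizer_eq, Subgroup.mem_centralizer_iff]
      intro y hy
      obtain ⟨w, hw, rfl⟩ := hsur y hy
      rw [← map_mul, ← map_mul, Subgroup.mem_centralizer_iff.1 hx w hw]
    · rw [map_mul, map_mul, hz]
      exact Subgroup.mem_centralizer_singleton_iff.1 (radical_le hy)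
  · intro x hx
    rw [Subgroup.mem_normalizer_iff]
    intro y
    rw [Subgroup.mem_comap, Subgroup.mem_comap, map_mul, map_mul, map_inv]
    exact (Subgroup.mem_normalizer_iff.1
      (hs.centralizer_le (by rw [← hCdef, hCc] at hx; exact hx)) (f y))
  · rw [Nat.card_congr e.toEquiv, card_radical]
  · obtain ⟨E, hE, ⟨hcomm, hexp⟩, hcard⟩ := exists_elementary (n := n)
    refine ⟨E.comap f, Subgroup.comap_mono hE, ⟨⟨⟨fun a b => ?_⟩⟩, fun a ha => hf ?_⟩, ?_⟩
    · exact Subtype.ext (hf (by
        push_cast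
        rw [map_mul, map_mul]
        exact congrArg Subtype.val (hcomm.is_comm.comm ⟨_, a.2⟩ ⟨_, b.2⟩)))
    · rw [map_pow, map_one]; exact hexp _ ha
    · rw [← Subgroup.card_map_of_injective hf, mapC _ (hE.trans radical_le), hcard]
  · obtain ⟨K, hK, hinf, hsup, ⟨φ⟩⟩ := exists_complement (n := n)
    refine ⟨K.comap f, by rw [hCc]; exact Subgroup.comap_mono hK, ?_, ?_,
      ⟨((Subgroup.equivMapOfInjective _ f hf).trans (MulEquiv.subgroupCongr (mapC _ hK))).trans φ⟩⟩
    · rw [← Subgroup.comap_inf, hinf, MonoidHom.comap_bot, (MonoidHom.ker_eq_bot_iff f).2 hf]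
    · apply Subgroup.map_injective hf
      rw [Subgroup.map_sup, mapC _ radical_le, mapC _ hK, hsup, hCc, mapC _ le_rfl]

end Transv

end Cfsg.Agent.LargeExtraspecial
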