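import Cfsg.Agent.Lib.LargeExtraspecial.PairRadical

/-!
# Pairs from a conjugate of the centre lying in `Q`
-/

set_option autoImplicit false

namespace Cfsg.Agent.LargeExtraspecial

variable {G : Type*} [Group G]

theorem Setup.of_large {Q : Subgroup G} {z : G} (h : Cfsg.IsLargeExtraspecial Q)
    (hz : (Subgroup.center Q).map Q.subtype = Subgroup.zpowers z) : Setup Q z :=
  Setup.of_center h.1 hz h.2.1 h.2.2.1

theorem card_le_of_width {Q : Subgroup G} {w : ℕ} (hw : 2 ≤ w) (hcard : Nat.card Q = 2 ^ (2 * w + 1)) :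
    32 ≤ Nat.card Q := by
  rw [hcard]
  calc 32 = 2 ^ 5 := rfl
    _ ≤ _ := Nat.pow_le_pow_right two_pos (by omega)

theorem Setup.pair {Q : Subgroup G} {z : G} (h : Setup Q z) (hcard : 32 ≤ Nat.card Q) {g : G}
    (hmem : g * z * g⁻¹ ∈ Q) (hne : g * z * g⁻¹ ≠ z) :
    Pair Q (Q.map (MulAut.conj g).toMonoidHom) z (g * z * g⁻¹) :=
  ⟨h, h.conj g, ⟨g, rfl, rfl⟩, hmem, hne, hcard⟩

theorem normalizer_zpowers_of_fix {z g : G} (hg : g * z * g⁻¹ = z) :
    g ∈ Subgroup.normalizer ((Subgroup.zpowers z : Subgroup G) : Set G) := by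
  refine Subgroup.centralizer_le_normalizer _ ?_
  rw [centralizer_zpowers, Subgroup.mem_centralizer_singleton_iff]
  exact mul_inv_eq_iff_eq_mul.1 hg

theorem four_eq (z s : G) : Subgroup.zpowers z ⊔ Subgroup.zpowers s = Pair.four z s := by
  rw [Pair.four, Subgroup.zpowers_eq_closure, Subgroup.zpowers_eq_closure, ← Subgroup.closure_union,
    Set.singleton_union]

theorem centralizer_inf_pair (z s : G) :
    Subgroup.centralizer ({z} : Set G) ⊓ Subgroup.centralizer ((Pair.four z s : Subgroup G) : Set G) =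
      Subgroup.centralizer ({z, s} : Set G) := by
  rw [Pair.centralizer_four, inf_eq_right]
  exact Subgroup.centralizer_le (by simp)

end Cfsg.Agent.LargeExtraspecial
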