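import Cfsg.Agent.Lib.LargeExtraspecial.Pullback

/-!
# The affine general linear group over the field with two elements
-/

set_option autoImplicit false

namespace Cfsg.Agent.LargeExtraspecial.Transv

open Matrix

open scoped Pointwise

variable {n : ℕ} {G : Type*} [Group G] [Finite G]

/-- The index type of the normal subgroup. -/
abbrev Jx (n : ℕ) := Unit ⊕ Fin n

/-- The equivalence of index types. -/
def jx (n : ℕ) : Jx n ⊕ Unit ≃ Ix n where
  toFun := fun x => match x with
    | .inl (.inl _) => .inl 0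
    | .inl (.inr k) => .inr k
    | .inr _ => .inl 1
  invFun := fun x => match x with
    | .inl i => if i = 0 then .inl (.inl ()) else .inr ()
    | .inr k => .inl (.inr k)
  left_inv := by rintro ((_ | _) | _) <;> simp
  right_inv := by
    rintro (i | k)
    · fin_cases i <;> simp
    · simp

/-- Coordinates of an elementary abelian group with a given element as first basis vector. -/
theorem exists_coords (U : Subgroup G) (hU : Cfsg.IsElementaryAbelian 2 U)
    (hcard : Nat.card U = 2 ^ (n + 1)) {z : G} (hz : z ∈ U) (hz1 : z ≠ 1) :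
    ∃ φ : U ≃ (Jx n → ZMod 2), (∀ a b, φ (a * b) = φ a + φ b) ∧ φ ⟨z, hz⟩ = Pi.single (.inl ()) 1 := by
  classical
  haveI : Fact (Nat.Prime 2) := ⟨Nat.prime_two⟩
  haveI := hU.1
  let _ : CommGroup U := { (inferInstance : Group U) with mul_comm := fun a b => hU.1.is_comm.comm a b }
  haveI : Module (ZMod 2) (Additive U) := AddCommGroup.zmodModule fun v => by
    apply Additive.toMul.injective
    show (Additive.toMul v : U) ^ 2 = 1
    exact Subtype.ext (hU.2 _ (Additive.toMul v).2)
  haveI : Finite (Additive U) := Finite.of_equiv _ Additive.ofMul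
  have hv : (Additive.ofMul (⟨z, hz⟩ : U)) ≠ 0 := fun e => hz1 (congrArg Subtype.val (congrArg Additive.toMul e))
  have hli := LinearIndepOn.singleton (R := ZMod 2) (v := (id : Additive U → Additive U)) hv
  let b := Module.Basis.extend hli
  haveI : Finite (hli.extend (Set.subset_univ _)) := Subtype.finite
  letI := Fintype.ofFinite (hli.extend (Set.subset_univ ({Additive.ofMul (⟨z, hz⟩ : U)} : Set (Additive U))))
  have hdim : Nat.card (Jx n) = Fintype.card (hli.extend (Set.subset_univ _)) := by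
    have h1 : Nat.card (Additive U) = 2 ^ (n + 1) := hcard
    rw [Nat.card_congr b.equivFun.toEquiv, Nat.card_eq_fintype_card, Fintype.card_fun, ZMod.card] at h1
    rw [Nat.card_eq_fintype_card, Fintype.card_sum, Fintype.card_fin, Fintype.card_unit]
    have := Nat.pow_right_injective (le_refl 2) h1
    omega
  obtain ⟨e0⟩ := Fintype.card_eq.1 (Nat.card_eq_fintype_card.symm.trans hdim)
  let i0 : (hli.extend (Set.subset_univ ({Additive.ofMul (⟨z, hz⟩ : U)} : Set (Additive U)))) :=
    ⟨Additive.ofMul ⟨z, hz⟩, hli.subset_extend _ rfl⟩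
  let e : Jx n ≃ _ := (Equiv.swap (.inl ()) (e0.symm i0)).trans e0
  let bb := b.reindex e.symm
  refine ⟨Additive.ofMul.trans bb.equivFun.toEquiv, fun a c => map_add bb.equivFun _ _, ?_⟩
  show bb.equivFun (Additive.ofMul ⟨z, hz⟩) = _
  have h1 : bb (.inl ()) = Additive.ofMul (⟨z, hz⟩ : U) := by
    rw [Module.Basis.reindex_apply, Equiv.symm_symm]
    simp [e, b, i0, Module.Basis.coe_extend]
  rw [← h1]
  funext j
  rw [Module.Basis.equivFun_self]
  simp [Pi.single_apply, eq_comm]

theorem exists_affine_hom (U M : Subgroup G) [U.Normal] (hU : Cfsg.IsElementaryAbelian 2 U)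
    (hcard : Nat.card U = 2 ^ (n + 1)) (hUM : U ⊓ M = ⊥) (hUM' : U ⊔ M = ⊤)
    (hfaith : ∀ m ∈ M, (∀ u ∈ U, m * u * m⁻¹ = u) → m = 1)
    (hfull : ∀ φ : ↥U ≃* ↥U, ∃ m ∈ M, ∀ u : ↥U, ((φ u : ↥U) : G) = m * u * m⁻¹)
    {z : G} (hz : z ∈ U) (hz1 : z ≠ 1) :
    ∃ f : G →* Amb n, Function.Injective f ∧ f z = zel n ∧ cent n ≤ f.range := by
  classical
  obtain ⟨φ, hφ, hφz⟩ := exists_coords U hU hcard hz hz1
  have hφ1 : φ 1 = 0 := by
    have h := hφ 1 1
    rw [one_mul] at h
    exact left_eq_add.1 h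
  have uniq : ∀ {u u' m m' : G}, u ∈ U → u' ∈ U → m ∈ M → m' ∈ M → u * m = u' * m' → u = u' ∧ m = m' := by
    intro u u' m m' hu hu' hm hm' e
    have h1 : u'⁻¹ * u = m' * m⁻¹ := by
      rw [inv_mul_eq_iff_eq_mul, ← mul_assoc, ← e, mul_inv_cancel_right]
    have h2 : u'⁻¹ * u ∈ U ⊓ M := Subgroup.mem_inf.2 ⟨mul_mem (inv_mem hu') hu, h1 ▸ mul_mem hm' (inv_mem hm)⟩
    rw [hUM, Subgroup.mem_bot] at h2
    exact ⟨(inv_mul_eq_one.1 h2).symm, (mul_inv_eq_one.1 (h1.symm.trans h2)).symm⟩
  have dec : ∀ g : G, ∃ u ∈ U, ∃ m ∈ M, g = u * m := by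
    intro g
    have : g ∈ ((U : Set G) * (M : Set G)) := by
      rw [← Subgroup.normal_mul, hUM']; trivial
    obtain ⟨u, hu, m, hm, rfl⟩ := this
    exact ⟨u, hu, m, hm, rfl⟩
  choose uu huu mm hmm heq using dec
  have hconj : ∀ (g : G) (u : U), g * u * g⁻¹ ∈ U := fun g u => ‹U.Normal›.conj_mem _ u.2 g
  -- the linear part
  let L : G → ((Jx n → ZMod 2) →ₗ[ZMod 2] (Jx n → ZMod 2)) := fun g =>
    AddMonoidHom.toZModLinearMap 2 (AddMonoidHom.mk' (fun v => φ ⟨_, hconj (mm g) (φ.symm v)⟩) (fun v w => by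
      rw [← hφ]
      refine congrArg φ (Subtype.ext ?_)
      have : φ.symm (v + w) = φ.symm v * φ.symm w := by
        apply φ.injective; rw [hφ, φ.apply_symm_apply, φ.apply_symm_apply, φ.apply_symm_apply]
      simp [this, mul_assoc]))
  have hL : ∀ g (u : U), L g (φ u) = φ ⟨_, hconj (mm g) u⟩ := fun g u => by
    show φ ⟨_, hconj (mm g) (φ.symm (φ u))⟩ = _
    exact congrArg φ (Subtype.ext (by simp))
  let A : G → Matrix (Jx n) (Jx n) (ZMod 2) := fun g => LinearMap.toMatrix' (L g)
  have hA : ∀ g (u : U), A g *ᵥ φ u = φ ⟨_, hconj (mm g) u⟩ := fun g u => by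
    rw [LinearMap.toMatrix'_mulVec, hL]
  let F : G → Matrix (Ix n) (Ix n) (ZMod 2) := fun g => Matrix.reindex (jx n) (jx n)
    (Matrix.fromBlocks (A g) (Matrix.replicateCol Unit (φ ⟨uu g, huu g⟩)) 0 1)
  have hmm1 : mm 1 = 1 ∧ uu 1 = 1 := by
    obtain ⟨h1, h2⟩ := uniq (one_mem U) (huu 1) (one_mem M) (hmm 1) (by rw [one_mul, ← heq])
    exact ⟨h2.symm, h1.symm⟩
  have hmul : ∀ g g', mm (g * g') = mm g * mm g' ∧ uu (g * g') = uu g * (mm g * uu g' * (mm g)⁻¹) := by
    intro g g'
    obtain ⟨h1, h2⟩ := uniq (huu (g * g')) (mul_mem (huu g) (hconj (mm g) ⟨_, huu g'⟩)) (hmm (g * g'))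
      (mul_mem (hmm g) (hmm g')) (by rw [← heq (g * g')]; conv_lhs => rw [heq g, heq g']
                                     group)
    exact ⟨h2, h1⟩
  have hF1 : F 1 = 1 := by
    have h1 : A 1 = 1 := Matrix.ext_iff_mulVec.2 fun v => by
      obtain ⟨u, rfl⟩ := φ.surjective v
      rw [hA, Matrix.one_mulVec]
      exact congrArg φ (Subtype.ext (by simp [hmm1.1]))
    have h2 : φ ⟨uu 1, huu 1⟩ = 0 := by
      rw [← hφ1]; exact congrArg φ (Subtype.ext hmm1.2)
    show Matrix.reindex _ _ _ = _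
    rw [h1, h2]
    rw [show Matrix.replicateCol Unit (0 : Jx n → ZMod 2) = 0 from rfl, Matrix.fromBlocks_one]
    simp
  have hFmul : ∀ g g', F (g * g') = F g * F g' := by
    intro g g'
    have h1 : A (g * g') = A g * A g' := Matrix.ext_iff_mulVec.2 fun v => by
      obtain ⟨u, rfl⟩ := φ.surjective v
      rw [hA, ← Matrix.mulVec_mulVec, hA, hA]
      exact congrArg φ (Subtype.ext (by simp [(hmul g g').1, mul_assoc]))
    have h2 : φ ⟨uu (g * g'), huu _⟩ = A g *ᵥ φ ⟨uu g', huu g'⟩ + φ ⟨uu g, huu g⟩ := by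
      rw [hA, add_comm, ← hφ]
      exact congrArg φ (Subtype.ext (hmul g g').2)
    show Matrix.reindex _ _ _ = Matrix.reindex _ _ _ * Matrix.reindex _ _ _
    rw [Matrix.reindex_apply, Matrix.reindex_apply, Matrix.reindex_apply, Matrix.submatrix_mul_equiv,
      Matrix.fromBlocks_multiply, h1, h2, Matrix.replicateCol_add, Matrix.replicateCol_mulVec]
    simp
  let f : G →* Amb n := MonoidHom.toHomUnits ⟨⟨F, hF1⟩, hFmul⟩
  have hf : ∀ g, (f g : Matrix (Ix n) (Ix n) (ZMod 2)) = F g := fun _ => rfl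
  refine ⟨f, ?_, ?_, ?_⟩
  · rw [injective_iff_map_eq_one]
    intro g hg
    have h : F g = F 1 := by rw [← hf g, hg, hF1]; rfl
    have h' := (Matrix.reindex (jx n) (jx n)).injective h
    rw [Matrix.fromBlocks_inj] at h'
    obtain ⟨h1, h2, -, -⟩ := h'
    have hu : uu g = uu 1 := congrArg Subtype.val (φ.injective (Matrix.replicateCol_inj.1 h2))
    have hm : mm g = 1 := hfaith _ (hmm g) fun u hu' => by
      have := congrArg (fun X => X *ᵥ φ ⟨u, hu'⟩) h1
      simp only [hA] at this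
      simpa [hmm1.1] using congrArg Subtype.val (φ.injective this)
    rw [heq g, hu, hm, hmm1.2, one_mul]
  · obtain ⟨h1, h2⟩ := uniq (huu z) hz (hmm z) (one_mem M) (by rw [← heq, mul_one])
    refine Units.ext ?_
    rw [hf]
    have hA1 : A z = 1 := Matrix.ext_iff_mulVec.2 fun v => by
      obtain ⟨u, rfl⟩ := φ.surjective v
      rw [hA, Matrix.one_mulVec]
      exact congrArg φ (Subtype.ext (by simp [h2]))
    have hu : φ ⟨uu z, huu z⟩ = Pi.single (.inl ()) 1 := by
      rw [← hφz]; exact congrArg φ (Subtype.ext h1)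
    show Matrix.reindex _ _ _ = _
    rw [hA1, hu, zel, coe_rad]
    ext x y
    rcases x with i | l <;> rcases y with j | k
    · fin_cases i <;> fin_cases j <;> simp [mk, jx, Pi.single_apply]
    · fin_cases i <;> simp [mk, jx, Matrix.one_apply]
    · fin_cases j <;> simp [mk, jx, Pi.single_apply, Matrix.one_apply]
    · simp [mk, jx, Matrix.one_apply]
  · intro X hX
    obtain ⟨a, b, c, h, e⟩ := exists_params hX
    obtain ⟨a', b', c', h', e'⟩ := exists_params (inv_mem hX)
    let B : Matrix (Jx n) (Jx n) (ZMod 2) → Matrix (Ix n) (Ix n) (ZMod 2) → Prop := fun B X =>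
      ∃ col : Jx n → ZMod 2, X = Matrix.reindex (jx n) (jx n)
        (Matrix.fromBlocks B (Matrix.replicateCol Unit col) 0 1)
    have key : ∀ (a b : Fin n → ZMod 2) (c : ZMod 2) (h : Matrix (Fin n) (Fin n) (ZMod 2)),
        B (Matrix.fromBlocks 1 (Matrix.replicateRow Unit a) 0 h) (mk a b c h) := by
      intro a b c h
      refine ⟨Sum.elim (fun _ => c) b, ?_⟩
      ext x y
      rcases x with i | l <;> rcases y with j | k
      · fin_cases i <;> fin_cases j <;> simp [mk, jx]
      · fin_cases i <;> simp [mk, jx]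
      · fin_cases j <;> simp [mk, jx]
      · simp [mk, jx]
    set P := Matrix.fromBlocks (1 : Matrix Unit Unit (ZMod 2)) (Matrix.replicateRow Unit a) 0 h with hP
    set P' := Matrix.fromBlocks (1 : Matrix Unit Unit (ZMod 2)) (Matrix.replicateRow Unit a') 0 h' with hP'
    obtain ⟨col, hcol⟩ := key a b c h
    obtain ⟨col', hcol'⟩ := key a' b' c' h'
    have inv : P * P' = 1 ∧ P' * P = 1 := by
      have e1 := Units.mul_inv X
      have e2 := Units.inv_mul X
      rw [e, e', hcol, hcol', Matrix.reindex_apply, Matrix.reindex_apply, Matrix.submatrix_mul_equiv,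
        Matrix.fromBlocks_multiply, ← Matrix.submatrix_one_equiv (jx n).symm, ← Matrix.fromBlocks_one]
        at e1 e2
      have e1' := (Matrix.fromBlocks_inj.1 ((Matrix.reindex (jx n) (jx n)).injective e1)).1
      have e2' := (Matrix.fromBlocks_inj.1 ((Matrix.reindex (jx n) (jx n)).injective e2)).1
      exact ⟨by simpa using e1', by simpa using e2'⟩
    let ψ : U ≃* U :=
      { toFun := fun u => φ.symm (P *ᵥ φ u)
        invFun := fun u => φ.symm (P' *ᵥ φ u)
        left_inv := fun u => by simp [Matrix.mulVec_mulVec, inv.2]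
        right_inv := fun u => by simp [Matrix.mulVec_mulVec, inv.1]
        map_mul' := fun u u' => by apply φ.injective; simp [hφ, Matrix.mulVec_add] }
    obtain ⟨m, hm, hmact⟩ := hfull ψ
    refine ⟨φ.symm col * m, Units.ext ?_⟩
    obtain ⟨h1, h2⟩ := uniq (huu _) (φ.symm col).2 (hmm _) hm (heq ((φ.symm col : G) * m)).symm
    rw [hf, e, hcol]
    have hAP : A ((φ.symm col : G) * m) = P := Matrix.ext_iff_mulVec.2 fun v => by
      obtain ⟨u, rfl⟩ := φ.surjective v
      rw [hA, ← φ.apply_symm_apply (P *ᵥ φ u)]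
      exact congrArg φ (Subtype.ext (by rw [h2]; exact (hmact u).symm))
    have hu : φ ⟨uu ((φ.symm col : G) * m), huu _⟩ = col := by
      conv_rhs => rw [← φ.apply_symm_apply col]
      exact congrArg φ (Subtype.ext h1)
    show Matrix.reindex _ _ _ = _
    rw [hAP, hu]

end Cfsg.Agent.LargeExtraspecial.Transv
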