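import Cfsg.Agent.Lib.LargeExtraspecial.Pullback

/-!
# Transporting setups along inclusions
-/

set_option autoImplicit false

namespace Cfsg.Agent.LargeExtraspecial

variable {H G : Type*} [Group H] [Group G]

theorem Setup.map_injective {Q : Subgroup H} {z : H} (h : Setup Q z) (j : H →* G)
    (hj : Function.Injective j) (hr : Subgroup.centralizer ({j z} : Set G) ≤ j.range) :
    Setup (Q.map j) (j z) := by
  let e : Q ≃* Q.map j := Subgroup.equivMapOfInjective Q j hj
  refine ⟨isExtraspecial_equiv e h.extraspecial, ?_, ?_, ?_⟩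
  · rw [← MonoidHom.map_zpowers, ← h.center_eq, Subgroup.map_map]
    ext x
    constructor
    · rintro ⟨y, hy, rfl⟩
      refine ⟨e.symm y, Subgroup.mem_center_iff.2 fun w => ?_, ?_⟩
      · apply e.injective
        simpa using Subgroup.mem_center_iff.1 hy (e w)
      · exact congrArg Subtype.val (e.apply_symm_apply y)
    · rintro ⟨y, hy, rfl⟩
      refine ⟨e y, Subgroup.mem_center_iff.2 fun w => ?_, rfl⟩
      apply e.symm.injective
      simpa using Subgroup.mem_center_iff.1 hy (e.symm w)
  · refine le_antisymm (fun x hx => ?_) ?_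
    · rw [Subgroup.mem_centralizer_iff] at hx
      obtain ⟨y, rfl⟩ := hr (Subgroup.mem_centralizer_singleton_iff.2 (hx _ ⟨z, h.z_mem, rfl⟩).symm)
      rw [← MonoidHom.map_zpowers]
      refine ⟨y, ?_, rfl⟩
      rw [SetLike.mem_coe, ← h.centralizer_eq, Subgroup.mem_centralizer_iff]
      intro q hq
      apply hj
      rw [map_mul, map_mul]
      exact hx _ ⟨q, hq, rfl⟩
    · rw [Subgroup.zpowers_le, Subgroup.mem_centralizer_iff]
      rintro _ ⟨q, hq, rfl⟩
      rw [← map_mul, ← map_mul, (h.z_commute hq).eq]
  · intro x hx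
    obtain ⟨y, rfl⟩ := hr hx
    refine Subgroup.le_normalizer_map j ⟨y, h.centralizer_le ?_, rfl⟩
    rw [Subgroup.mem_centralizer_singleton_iff] at hx ⊢
    exact hj (by rw [map_mul, map_mul]; exact hx)

theorem centralizer_map_eq (j : H →* G) (hj : Function.Injective j) {z : H}
    (hr : Subgroup.centralizer ({j z} : Set G) ≤ j.range) :
    (Subgroup.centralizer ({z} : Set H)).map j = Subgroup.centralizer ({j z} : Set G) := by
  refine le_antisymm ?_ fun x hx => ?_
  · rintro _ ⟨y, hy, rfl⟩
    rw [SetLike.mem_coe, Subgroup.mem_centralizer_singleton_iff] at hy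
    rw [Subgroup.mem_centralizer_singleton_iff, ← map_mul, ← map_mul, hy]
  · obtain ⟨y, rfl⟩ := hr hx
    refine ⟨y, ?_, rfl⟩
    rw [Subgroup.mem_centralizer_singleton_iff] at hx
    rw [SetLike.mem_coe, Subgroup.mem_centralizer_singleton_iff]
    exact hj (by rw [map_mul, map_mul]; exact hx)

theorem map_pCore_centralizer (j : H →* G) (hj : Function.Injective j) {z : H}
    (hr : Subgroup.centralizer ({j z} : Set G) ≤ j.range) :
    (Cfsg.pCore 2 (Subgroup.centralizer ({j z} : Set G))).map
        (Subgroup.centralizer ({j z} : Set G)).subtype =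
      ((Cfsg.pCore 2 (Subgroup.centralizer ({z} : Set H))).map
        (Subgroup.centralizer ({z} : Set H)).subtype).map j := by
  let ι : Subgroup.centralizer ({z} : Set H) ≃* Subgroup.centralizer ({j z} : Set G) :=
    (Subgroup.equivMapOfInjective _ j hj).trans
      (MulEquiv.subgroupCongr (centralizer_map_eq j hj hr))
  rw [← Thompson.map_pCore_equiv ι, Subgroup.map_map, Subgroup.map_map]
  exact congrArg (fun ψ => Subgroup.map ψ (Cfsg.pCore 2 (Subgroup.centralizer ({z} : Set H))))
    (MonoidHom.ext fun c => rfl)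

end Cfsg.Agent.LargeExtraspecial
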