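import Cfsg.Agent.Lib.LargeExtraspecial.SectionApply
import Cfsg.Agent.Lib.Components.GenFitting
import Cfsg.Agent.Lib.Components.PermuteComponents
import Cfsg.Agent.Lib.Components.InvolutionOnLayer
import Cfsg.Agent.Lib.Involution.IndexTwo
import Cfsg.Agent.Lib.Fitting.Minimal

/-!
# The normal closure of the centre of a large extraspecial subgroup
-/

set_option autoImplicit false

namespace Cfsg.Agent.LargeExtraspecial

open Cfsg.Agent.Components

open scoped Pointwise commutatorElement

variable {G : Type*} [Group G] [Finite G]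
variable {Q : Subgroup G} {z : G}

/-- Every nontrivial normal subgroup contains `z`. -/
theorem Setup.mem_normal (h : Setup Q z) (hlarge : Cfsg.IsLargeExtraspecial Q) (N : Subgroup G)
    [hN : N.Normal] (hne : N ≠ ⊥) : z ∈ N := by
  by_contra hzN
  refine hne ?_
  have hNQ : ∀ x ∈ N, x ∈ Q → x = 1 := by
    intro x hxN hxQ
    by_contra hx1
    by_cases hxz : x ∈ Subgroup.zpowers z
    · rcases h.zpowers_cases hxz with e | e
      · exact hx1 e
      · exact hzN (e ▸ hxN)
    · obtain ⟨y, hy, e⟩ := h.exists_moving hxQ hxz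
      have := mul_mem (hN.conj_mem x hxN y) (inv_mem hxN)
      rw [e, mul_inv_cancel_right] at this
      exact hzN this
  have hfix : ∀ n ∈ N, z * n * z⁻¹ = n → n = 1 := by
    intro n hn e
    have hnz : Commute z n := mul_inv_eq_iff_eq_mul.1 e
    have hnC : n ∈ Subgroup.centralizer (Q : Set G) := by
      rw [Subgroup.mem_centralizer_iff]
      intro q hq
      have h1 : q * n * q⁻¹ * n⁻¹ = 1 := by
        refine hNQ _ (mul_mem (hN.conj_mem n hn q) (inv_mem hn)) ?_
        rw [show q * n * q⁻¹ * n⁻¹ = q * (n * q⁻¹ * n⁻¹) by group]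
        exact mul_mem hq (h.conj_mem hnz.symm (inv_mem hq))
      rwa [mul_inv_eq_one, mul_inv_eq_iff_eq_mul] at h1
    rw [h.centralizer_eq] at hnC
    rcases h.zpowers_cases hnC with e' | e'
    · exact e'
    · exact absurd (e' ▸ hn) hzN
  have hNn : Q ≤ Subgroup.normalizer (N : Set G) := by
    rw [Subgroup.normalizer_eq_top_iff.2 hN]; exact le_top
  have hinv := inverts_of_fixedPointFree h.z_mul_self (hNn h.z_mem) hfix
  refine hlarge.2.2.2 N ?_ hNn
  rw [← Nat.not_even_iff_odd]
  intro heven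
  haveI : Fact (Nat.Prime 2) := ⟨Nat.prime_two⟩
  obtain ⟨n, hn⟩ := exists_prime_orderOf_dvd_card' (G := N) 2 (even_iff_two_dvd.1 heven)
  have hnsq : (n : G) * n = 1 := by
    have := pow_orderOf_eq_one n
    rw [hn, pow_two] at this
    exact congrArg Subtype.val this
  have : (n : G) = 1 := hfix n n.2 (by rw [hinv n n.2, inv_eq_of_mul_eq_one_left hnsq])
  rw [show n = 1 from Subtype.ext this, orderOf_one] at hn
  omega

/-- No component commutes with `z`. -/
theorem Setup.component_moves (h : Setup Q z) {L : Subgroup G} (hL : Cfsg.IsComponent L)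
    (hzL : L ≤ Subgroup.centralizer ({z} : Set G)) : False := by
  haveI : Fact (Nat.Prime 2) := ⟨Nat.prime_two⟩
  haveI : Group.IsNilpotent Q := h.extraspecial.1.1.isNilpotent
  have hc := component_commutator_solvable hL (H := Q) inferInstance (hzL.trans h.centralizer_le)
  rw [Subgroup.commutator_eq_bot_iff_le_centralizer, h.centralizer_eq] at hc
  exact component_not_le_isSolvable hL (H := Subgroup.zpowers z) inferInstance hc

theorem Setup.layer_of_abelian (h : Setup Q z) (hlarge : Cfsg.IsLargeExtraspecial Q)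
    (hF : Cfsg.fittingSubgroup G ≠ ⊥) : Cfsg.layer G = ⊥ := by
  have hzF := h.mem_normal hlarge _ hF
  refine layer_eq_bot_iff.2 fun L hL => h.component_moves hL fun x hx => ?_
  rw [Subgroup.mem_centralizer_singleton_iff]
  exact (Subgroup.mem_centralizer_iff.1
    (layer_le_centralizer_fitting (component_le_layer hL hx)) z hzF).symm

/-- The data in the nonabelian case. -/
structure Semisimple (Q : Subgroup G) (z : G) (M : Subgroup G) : Prop where
  setup : Setup Q z
  normal : M.Normal
  z_mem : z ∈ M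
  centralizer : Subgroup.centralizer (M : Set G) = ⊥
  eq_layer : M = Cfsg.layer G

namespace Semisimple

variable {M : Subgroup G}

theorem comp_le (s : Semisimple Q z M) {L : Subgroup G} (hL : Cfsg.IsComponent L) : L ≤ M :=
  s.eq_layer ▸ component_le_layer hL

theorem eq_one (s : Semisimple Q z M) {x : G}
    (hx : ∀ L : Subgroup G, Cfsg.IsComponent L → ∀ l ∈ L, Commute x l) : x = 1 := by
  have : x ∈ Subgroup.centralizer (M : Set G) := by
    rw [Subgroup.mem_centralizer_iff]
    intro m hm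
    have hle : M ≤ Subgroup.centralizer ({x} : Set G) := by
      rw [s.eq_layer, layer_le_iff]
      exact fun L hL l hl => Subgroup.mem_centralizer_singleton_iff.2 (hx L hL l hl).symm.eq
    exact Subgroup.mem_centralizer_singleton_iff.1 (hle hm)
  rwa [s.centralizer, Subgroup.mem_bot] at this

theorem commute_of_ne {L L' : Subgroup G} (hL : Cfsg.IsComponent L) (hL' : Cfsg.IsComponent L')
    (hne : L ≠ L') {x y : G} (hx : x ∈ L) (hy : y ∈ L') : Commute x y :=
  (Subgroup.mem_centralizer_iff.1 (component_le_centralizer hL hL' hne hx) y hy).symm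

theorem eq_one_of_mem (s : Semisimple Q z M) {L : Subgroup G} (hL : Cfsg.IsComponent L) {x : G}
    (hx : x ∈ L) (hc : ∀ l ∈ L, Commute x l) : x = 1 :=
  s.eq_one fun L' hL' => by
    by_cases e : L' = L
    · exact e ▸ hc
    · exact fun l hl => commute_of_ne hL hL' (Ne.symm e) hx hl

/-- Decomposition along a component. -/
theorem decomp (s : Semisimple Q z M) {L : Subgroup G} (hL : Cfsg.IsComponent L) {m : G} (hm : m ∈ M) :
    ∃ l ∈ L, ∀ x ∈ L, Commute (l⁻¹ * m) x := by
  have hn : M ≤ Subgroup.normalizer (L : Set G) := s.eq_layer ▸ layer_le_normalizer hL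
  have hle : M ≤ L ⊔ Subgroup.centralizer (L : Set G) := by
    rw [s.eq_layer, layer_le_iff]
    intro L' hL'
    by_cases e : L' = L
    · exact e ▸ le_sup_left
    · exact le_sup_of_le_right (component_le_centralizer hL' hL e)
  have hCn : L ≤ Subgroup.normalizer (Subgroup.centralizer (L : Set G) : Set G) := by
    intro l hl
    rw [Subgroup.mem_normalizer_iff]
    intro c
    rw [Subgroup.mem_centralizer_iff, Subgroup.mem_centralizer_iff]
    constructor
    · intro hc x hx
      have := hc _ (mul_mem (mul_mem (inv_mem hl) hx) hl)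
      calc x * (l * c * l⁻¹) = l * (l⁻¹ * x * l * c) * l⁻¹ := by group
        _ = l * (c * (l⁻¹ * x * l)) * l⁻¹ := by rw [this]
        _ = l * c * l⁻¹ * x := by group
    · intro hc x hx
      have := hc _ (mul_mem (mul_mem hl hx) (inv_mem hl))
      calc x * c = l⁻¹ * (l * x * l⁻¹ * (l * c * l⁻¹)) * l := by group
        _ = l⁻¹ * (l * c * l⁻¹ * (l * x * l⁻¹)) * l := by rw [this]
        _ = c * x := by group
  have := hle hm
  rw [← SetLike.mem_coe, Subgroup.coe_mul_of_left_le_normalizer_right _ _ hCn] at this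
  obtain ⟨l, hl, c, hc, rfl⟩ := this
  refine ⟨l, hl, fun x hx => ?_⟩
  rw [inv_mul_cancel_left]
  exact (Subgroup.mem_centralizer_iff.1 hc x hx).symm

theorem decomp_unique (s : Semisimple Q z M) {L : Subgroup G} (hL : Cfsg.IsComponent L) {m l l' : G}
    (hl : l ∈ L) (hl' : l' ∈ L) (h : ∀ x ∈ L, Commute (l⁻¹ * m) x) (h' : ∀ x ∈ L, Commute (l'⁻¹ * m) x) :
    l = l' := by
  have := s.eq_one_of_mem hL (mul_mem (inv_mem hl) hl') fun x hx => by
    have := (h x hx).mul_left (h' x hx).inv_left
    rwa [show l⁻¹ * m * (l'⁻¹ * m)⁻¹ = l⁻¹ * l' by group] at this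
  rwa [inv_mul_eq_one] at this

theorem isSimple (s : Semisimple Q z M) {L : Subgroup G} (hL : Cfsg.IsComponent L) :
    IsSimpleGroup L ∧ ¬ IsMulCommutative L := by
  haveI := nontrivial_of_isQuasisimple hL.2
  refine ⟨⟨fun N hN => ?_⟩, not_isMulCommutative_of_isQuasisimple hL.2⟩
  refine (normal_eq_top_or_le_center hL.2 N).symm.imp (fun hc => ?_) id
  rw [eq_bot_iff]
  intro x hx
  rw [Subgroup.mem_bot]
  exact Subtype.ext (s.eq_one_of_mem hL x.2 fun l hl =>
    congrArg Subtype.val (Subgroup.mem_center_iff.1 (hc hx) ⟨l, hl⟩).symm)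

theorem z_not_commute (s : Semisimple Q z M) {L : Subgroup G} (hL : Cfsg.IsComponent L) :
    ¬ ∀ x ∈ L, Commute z x := fun h => s.setup.component_moves hL fun x hx =>
  Subgroup.mem_centralizer_singleton_iff.2 (h x hx).symm.eq

/-- The subgroup `C_L(z)`. -/
theorem commute_z_iff (s : Semisimple Q z M) {L : Subgroup G} (hL : Cfsg.IsComponent L) {z1 x : G}
    (h : ∀ y ∈ L, Commute (z1⁻¹ * z) y) (hx : x ∈ L) : Commute x z1 ↔ Commute x z := by
  constructor
  · intro e; simpa using e.mul_right (h x hx).symm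
  · intro e; simpa using e.mul_right (h x hx).symm.inv_right

theorem exists_moved (s : Semisimple Q z M) {L L' : Subgroup G} (hL : Cfsg.IsComponent L)
    (hL' : Cfsg.IsComponent L') (hne : L ≠ L') :
    ∃ u ∈ Q, L.map (MulAut.conj u).toMonoidHom ≠ L := by
  by_contra hall
  push Not at hall
  obtain ⟨z1, hz1, hz1c⟩ := s.decomp hL s.z_mem
  have hzL : z ∉ L := fun h => s.z_not_commute hL' fun x hx => commute_of_ne hL hL' hne h hx
  have hLQ : ∀ d ∈ L, d ∈ Q → d = 1 := by
    intro d hdL hdQ
    by_contra hd1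
    by_cases hdz : d ∈ Subgroup.zpowers z
    · rcases s.setup.zpowers_cases hdz with e | e
      · exact hd1 e
      · exact hzL (e ▸ hdL)
    · obtain ⟨q, hq, e⟩ := s.setup.exists_moving hdQ hdz
      have hmem : q * d * q⁻¹ ∈ L := by
        have hm : q * d * q⁻¹ ∈ L.map (MulAut.conj q).toMonoidHom := ⟨d, hdL, rfl⟩
        rwa [hall q hq] at hm
      have := mul_mem hmem (inv_mem hdL)
      rw [e, mul_inv_cancel_right] at this
      exact hzL this
  have hzc : Commute z1 z := (s.commute_z_iff hL hz1c hz1).1 (Commute.refl _)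
  have hcQ : z1 ∈ Subgroup.centralizer (Q : Set G) := by
    rw [Subgroup.mem_centralizer_iff]
    intro q hq
    have hmem : q * z1 * q⁻¹ ∈ L := by
      have hm : q * z1 * q⁻¹ ∈ L.map (MulAut.conj q).toMonoidHom := ⟨z1, hz1, rfl⟩
      rwa [hall q hq] at hm
    have h1 : q * z1 * q⁻¹ * z1⁻¹ = 1 := by
      refine hLQ _ (mul_mem hmem (inv_mem hz1)) ?_
      rw [show q * z1 * q⁻¹ * z1⁻¹ = q * (z1 * q⁻¹ * z1⁻¹) by group]
      exact mul_mem hq (s.setup.conj_mem hzc (inv_mem hq))
    rwa [mul_inv_eq_one, mul_inv_eq_iff_eq_mul] at h1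
  rw [s.setup.centralizer_eq] at hcQ
  rcases s.setup.zpowers_cases hcQ with e | e
  · refine s.z_not_commute hL fun x hx => ?_
    have := hz1c x hx
    rwa [e, inv_one, one_mul] at this
  · exact hzL (e ▸ hz1)

/-- The conclusion for a component `L` moved by `u ∈ Q`. -/
theorem two_components (s : Semisimple Q z M) {L : Subgroup G} (hL : Cfsg.IsComponent L) {u : G}
    (hu : u ∈ Q) (hne : L.map (MulAut.conj u).toMonoidHom ≠ L) :
    L ⊓ L.map (MulAut.conj u).toMonoidHom = ⊥ ∧
    (∀ x ∈ L, ∀ y ∈ L.map (MulAut.conj u).toMonoidHom, x * y = y * x) ∧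
    L ⊔ L.map (MulAut.conj u).toMonoidHom = M ∧
    ∃ z₁ ∈ L, z = z₁ * (u * z₁ * u⁻¹) ∧
      (∃ R : Sylow 2 ↥L, (R : Subgroup ↥L) = (Subgroup.centralizer ({z₁} : Set G)).subgroupOf L ∧
        (frattini ↥(R : Subgroup ↥L)).map ((L.subtype).comp (R : Subgroup ↥L).subtype) ≤
          Subgroup.zpowers z₁) ∧
      Q ≠ (Cfsg.pCore 2 ↥(Subgroup.centralizer ({z} : Set G))).map
        (Subgroup.centralizer ({z} : Set G)).subtype := by
  classical
  haveI : Fact (Nat.Prime 2) := ⟨Nat.prime_two⟩
  have hz2 := s.setup.z_mul_self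
  have huz : Commute u z := (s.setup.z_commute hu).symm
  set L2 := L.map (MulAut.conj u).toMonoidHom with hL2def
  have hL2 : Cfsg.IsComponent L2 := component_map_conj u hL
  have hcom : ∀ x ∈ L, ∀ y ∈ L2, Commute x y := fun x hx y hy => commute_of_ne hL hL2 (Ne.symm hne) hx hy
  obtain ⟨z1, hz1, hz1c⟩ := s.decomp hL s.z_mem
  set z2 := u * z1 * u⁻¹ with hz2def
  have hz2L : z2 ∈ L2 := ⟨z1, hz1, rfl⟩
  have hz2c : ∀ y ∈ L2, Commute (z2⁻¹ * z) y := by
    rintro _ ⟨y, hy, rfl⟩
    have := (hz1c y hy).map (MulAut.conj u).toMonoidHom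
    simp only [MulEquiv.coe_toMonoidHom, MulAut.conj_apply] at this
    rwa [show u * (z1⁻¹ * z) * u⁻¹ = z2⁻¹ * z by
      rw [hz2def]; calc u * (z1⁻¹ * z) * u⁻¹ = (u * z1 * u⁻¹)⁻¹ * (u * z * u⁻¹) := by group
        _ = _ := by rw [huz.eq, mul_inv_cancel_right]] at this
  have hz11 : z1 ≠ 1 := by
    intro e
    refine s.z_not_commute hL fun x hx => ?_
    have := hz1c x hx
    rwa [e, inv_one, one_mul] at this
  have hz21 : z2 ≠ 1 := fun e => hz11 (by simpa [hz2def] using e)
  -- the element `d x`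
  have hd : ∀ x ∈ L, Commute x z1 → x * (u * x⁻¹ * u⁻¹) ∈ Q ∧ u * x⁻¹ * u⁻¹ ∈ L2 := by
    intro x hx hc
    have hxz := (s.commute_z_iff hL hz1c hx).1 hc
    refine ⟨?_, ⟨x⁻¹, inv_mem hx, rfl⟩⟩
    rw [show x * (u * x⁻¹ * u⁻¹) = x * u * x⁻¹ * u⁻¹ by group]
    exact s.setup.comm_mem hxz hu
  have proj : ∀ a ∈ L, ∀ b ∈ L2, a * b = 1 → a = 1 := fun a ha b hb e =>
    s.eq_one_of_mem hL ha fun l hl => by
      rw [eq_inv_of_mul_eq_one_left e]; exact (hcom l hl _ (inv_mem hb)).symm
  have projz : ∀ a ∈ L, ∀ b ∈ L2, a * b ∈ Subgroup.zpowers z → a = 1 ∨ a = z1 := by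
    intro a ha b hb e
    rcases s.setup.zpowers_cases e with e | e
    · exact .inl (proj a ha b hb e)
    · refine .inr (s.decomp_unique hL ha hz1 (fun x hx => ?_) hz1c)
      rw [show a⁻¹ * z = b by rw [← e, inv_mul_cancel_left]]
      exact (hcom x hx b hb).symm
  have hz1sq : z1 * z1 = 1 := by
    refine s.decomp_unique hL (m := 1) (mul_mem hz1 hz1) (one_mem L) (fun x hx => ?_) (fun x _ => by simp)
    have hc : Commute z1 (z1⁻¹ * z) := (hz1c z1 hz1).symm
    have e2 : (z1 * z1)⁻¹ * 1 = (z1⁻¹ * z) * (z1⁻¹ * z) := by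
      have hzz : Commute z1 z := by simpa using (Commute.refl z1).mul_right hc
      calc (z1 * z1)⁻¹ * 1 = z1⁻¹ * z1⁻¹ * (z * z) := by rw [hz2, mul_inv_rev]
        _ = z1⁻¹ * (z1⁻¹ * z) * z := by group
        _ = z1⁻¹ * (z * z1⁻¹) * z := by rw [hzz.inv_left.eq]
        _ = _ := by group
    rw [e2]; exact (hz1c x hx).mul_left (hz1c x hx)
  -- the group `R`
  set R : Subgroup L := (Subgroup.centralizer ({z1} : Set G)).subgroupOf L with hRdef
  have hRm : ∀ x : L, x ∈ R ↔ Commute (x : G) z1 := fun x => by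
    rw [hRdef, Subgroup.mem_subgroupOf, Subgroup.mem_centralizer_singleton_iff]; rfl
  have hsqR : ∀ x ∈ L, Commute x z1 → x * x = 1 ∨ x * x = z1 := by
    intro x hx hc
    obtain ⟨hdQ, hy⟩ := hd x hx hc
    refine projz _ (mul_mem hx hx) _ (mul_mem hy hy) ?_
    rw [(hcom x hx _ hy).mul_mul_mul_comm]
    exact s.setup.sq_mem hdQ
  have hfour : ∀ x ∈ L, Commute x z1 → x ^ 4 = 1 := by
    intro x hx hc
    rw [show (4 : ℕ) = 2 * 2 from rfl, pow_mul, pow_two, pow_two]
    rcases hsqR x hx hc with e | e <;> rw [e]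
    · rw [one_mul]
    · exact hz1sq
  have hRp : IsPGroup 2 R := fun x => ⟨2, Subtype.ext (Subtype.ext (by
    push_cast; exact hfour _ x.1.2 ((hRm _).1 x.2)))⟩
  have hz1R : (⟨z1, hz1⟩ : L) ∈ R := (hRm _).2 (Commute.refl _)
  -- centralizer orders
  let c : L → ℕ := fun x => Nat.card (Subgroup.centralizer ({x} : Set L))
  have hcR : R = Subgroup.centralizer ({(⟨z1, hz1⟩ : L)} : Set L) := by
    ext x
    rw [hRm, Subgroup.mem_centralizer_singleton_iff]
    exact ⟨fun e => Subtype.ext e.eq, fun e => congrArg Subtype.val e⟩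
  have cmap : ∀ (φ : L ≃* L) (x : L), c (φ x) = c x := by
    intro φ x
    refine (Nat.card_congr (φ.toEquiv.subtypeEquiv fun y => ?_)).symm
    change y ∈ Subgroup.centralizer _ ↔ φ y ∈ Subgroup.centralizer _
    rw [Subgroup.mem_centralizer_singleton_iff, Subgroup.mem_centralizer_singleton_iff, ← map_mul,
      ← map_mul, φ.injective.eq_iff]
  have cinv : ∀ x : L, c x⁻¹ = c x := by
    intro x
    show Nat.card (Subgroup.centralizer _) = Nat.card (Subgroup.centralizer _)
    congr 2
    ext y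
    rw [Subgroup.mem_centralizer_singleton_iff, Subgroup.mem_centralizer_singleton_iff]
    exact Commute.inv_right_iff
  have auto : ∀ n : G, L.map (MulAut.conj n).toMonoidHom = L → ∃ φ : L ≃* L, ∀ y : L, (φ y : G) = n * y * n⁻¹ :=
    fun n hn => ⟨(Subgroup.equivMapOfInjective L _ (MulAut.conj n).injective).trans
      (MulEquiv.subgroupCongr hn), fun y => rfl⟩
  -- moving `d x`
  have move : ∀ x : L, x ∈ R → x ≠ 1 → (x : G) ≠ z1 →
      c (x * ⟨z1, hz1⟩) = c x ∧ ∀ L' : Subgroup G, Cfsg.IsComponent L' → L' = L ∨ L' = L2 := by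
    intro x hxR hx1 hxz
    have hc := (hRm x).1 hxR
    obtain ⟨hdQ, hy⟩ := hd x x.2 hc
    set y := u * (x : G)⁻¹ * u⁻¹ with hydef
    have hdz : (x : G) * y ∉ Subgroup.zpowers z := fun e =>
      (projz _ x.2 _ hy e).elim (fun e' => hx1 (Subtype.ext e')) hxz
    obtain ⟨q, hq, hqe⟩ := s.setup.exists_moving hdQ hdz
    have hqi : ∀ L' : Subgroup G, Cfsg.IsComponent L' →
        (∀ l ∈ L', Commute (z * ((x : G) * y)) l) ∨
          L'.map (MulAut.conj q⁻¹).toMonoidHom = L ∨ L'.map (MulAut.conj q⁻¹).toMonoidHom = L2 := by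
      intro L' hL'
      by_contra hcon
      push Not at hcon
      obtain ⟨⟨l, hl, hnl⟩, h1, h2⟩ := hcon
      apply hnl
      have hL'' := component_map_conj q⁻¹ hL'
      have hl' : q⁻¹ * l * q ∈ L'.map (MulAut.conj q⁻¹).toMonoidHom := ⟨l, hl, by simp⟩
      have hcc : Commute ((x : G) * y) (q⁻¹ * l * q) :=
        (commute_of_ne hL hL'' (Ne.symm h1) x.2 hl').mul_left
          (commute_of_ne hL2 hL'' (Ne.symm h2) hy hl')
      have := hcc.map (MulAut.conj q).toMonoidHom
      simp only [MulEquiv.coe_toMonoidHom, MulAut.conj_apply, hqe] at this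
      rwa [show q * (q⁻¹ * l * q) * q⁻¹ = l by group] at this
    have hm1 : ∀ l ∈ L, Commute ((x : G) * z1)⁻¹ l → Commute (z * ((x : G) * y)) l →
        Commute ((x : G) * z1) l := fun l _ h1 _ => Commute.inv_left_iff.1 h1
    have hnL : ¬ ∀ l ∈ L, Commute (z * ((x : G) * y)) l := by
      intro hall
      apply hxz
      have h1 : z1 * (x : G) = 1 := by
        refine s.eq_one_of_mem hL (mul_mem hz1 x.2) fun l hl => ?_
        have e : z * ((x : G) * y) = (z1 * x) * ((z1⁻¹ * z) * y) := by
          have := ((hz1c _ x.2).eq)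
          calc z * ((x : G) * y) = z1 * ((z1⁻¹ * z) * x) * y := by group
            _ = z1 * (x * (z1⁻¹ * z)) * y := by rw [this]
            _ = _ := by group
        have h2 := (hall l hl).mul_left (((hz1c l hl).mul_left (hcom l hl y hy).symm).inv_left)
        rwa [e, mul_inv_cancel_right] at h2
      rw [eq_inv_of_mul_eq_one_right h1, inv_eq_of_mul_eq_one_left hz1sq]
    have hnL2 : ¬ ∀ l ∈ L2, Commute (z * ((x : G) * y)) l := by
      intro hall
      apply hxz
      have h1 : z2 * y = 1 := by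
        refine s.eq_one_of_mem hL2 (mul_mem hz2L hy) fun l hl => ?_
        have e : z * ((x : G) * y) = (z2 * y) * ((z2⁻¹ * z) * x) := by
          have := ((hz2c _ hy).eq)
          calc z * ((x : G) * y) = z * (y * x) := by rw [(hcom _ x.2 _ hy).eq]
            _ = z2 * ((z2⁻¹ * z) * y) * x := by group
            _ = z2 * (y * (z2⁻¹ * z)) * x := by rw [this]
            _ = _ := by group
        have h2 := (hall l hl).mul_left (((hz2c l hl).mul_left (hcom _ x.2 l hl)).inv_left)
        rwa [e, mul_inv_cancel_right] at h2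
      rw [hz2def, hydef, show u * z1 * u⁻¹ * (u * (x : G)⁻¹ * u⁻¹) = u * (z1 * (x : G)⁻¹) * u⁻¹ by group,
        conj_eq_one_iff, mul_inv_eq_one] at h1
      exact h1.symm
    have qL := (hqi L hL).resolve_left hnL
    have qL2 := (hqi L2 hL2).resolve_left hnL2
    have inj := Subgroup.map_injective (f := (MulAut.conj q⁻¹).toMonoidHom) (MulAut.conj q⁻¹).injective
    refine ⟨?_, fun L' hL' => ?_⟩
    · have hz2eq : z * ((x : G) * y) = (z1 * x) * ((z1⁻¹ * z) * y) := by
        have := ((hz1c _ x.2).eq)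
        calc z * ((x : G) * y) = z1 * ((z1⁻¹ * z) * x) * y := by group
          _ = z1 * (x * (z1⁻¹ * z)) * y := by rw [this]
          _ = _ := by group
      have hqz : Commute q z := (s.setup.z_commute hq).symm
      have key : ∀ n : G, ∀ a : L, ∀ b : G, L.map (MulAut.conj n).toMonoidHom = L →
          n * ((a : G) * b) * n⁻¹ = z * ((x : G) * y) → (∀ l ∈ L, Commute b l) → c a = c (⟨z1, hz1⟩ * x) := by
        intro n a b hn hab hb
        obtain ⟨φ, hφ⟩ := auto n hn
        rw [← cmap φ a]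
        congr 1
        refine Subtype.ext (s.decomp_unique hL (m := z * ((x : G) * y)) (φ a).2 (mul_mem hz1 x.2) ?_ ?_)
        · intro l hl
          rw [hφ, ← hab, show (n * (a : G) * n⁻¹)⁻¹ * (n * ((a : G) * b) * n⁻¹) = n * b * n⁻¹ by group]
          rw [← hn] at hl
          obtain ⟨l', hl', rfl⟩ := hl
          exact (hb l' hl').map (MulAut.conj n).toMonoidHom
        · intro l hl
          rw [hz2eq, Subgroup.coe_mul, inv_mul_cancel_left]
          exact (hz1c l hl).mul_left (hcom l hl y hy).symm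
      have hcomm' : x * ⟨z1, hz1⟩ = (⟨z1, hz1⟩ : L) * x := Subtype.ext hc.eq
      rw [hcomm']
      rcases qL with e | e
      · refine (key q x y ?_ hqe fun l hl => (hcom l hl y hy).symm).symm
        conv_lhs => rw [← e]
        rw [map_conj_map_conj, mul_inv_cancel, map_conj_one]
      · rw [← cinv x]
        refine (key (q * u) ⟨(x : G)⁻¹, inv_mem x.2⟩ (u⁻¹ * (x : G) * u) ?_ ?_ ?_).symm
        · rw [← map_conj_map_conj]
          show (L2).map _ = L
          rw [← e, map_conj_map_conj, mul_inv_cancel, map_conj_one]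
        · rw [← hqe]
          show q * u * ((x : G)⁻¹ * (u⁻¹ * (x : G) * u)) * (q * u)⁻¹ = _
          rw [hydef]
          calc q * u * ((x : G)⁻¹ * (u⁻¹ * x * u)) * (q * u)⁻¹
              = q * (u * (x : G)⁻¹ * u⁻¹ * x) * q⁻¹ := by group
            _ = q * (x * (u * (x : G)⁻¹ * u⁻¹)) * q⁻¹ := by rw [(hcom _ x.2 _ hy).eq]
        · intro l hl
          have := (hcom (x : G) x.2 (u * l * u⁻¹) ⟨l, hl, rfl⟩).map (MulAut.conj u⁻¹).toMonoidHom
          simp only [MulEquiv.coe_toMonoidHom, MulAut.conj_apply, inv_inv] at this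
          rwa [show u⁻¹ * (u * l * u⁻¹) * u = l by group] at this
    · by_contra hcon
      push Not at hcon
      have qL' : L'.map (MulAut.conj q⁻¹).toMonoidHom = L ∨ L'.map (MulAut.conj q⁻¹).toMonoidHom = L2 := by
        refine (hqi L' hL').resolve_left fun hall => s.z_not_commute hL' fun l hl => ?_
        have h2 := (hall l hl).mul_left ((commute_of_ne hL hL' (Ne.symm hcon.1) x.2 hl).mul_left
          (commute_of_ne hL2 hL' (Ne.symm hcon.2) hy hl)).inv_left
        rwa [mul_inv_cancel_right] at h2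
      rcases qL with e1 | e1 <;> rcases qL2 with e2 | e2 <;> rcases qL' with e3 | e3
      all_goals first
        | exact hne (inj (e2.trans e1.symm))
        | exact hcon.1 (inj (e3.trans e1.symm))
        | exact hcon.2 (inj (e3.trans e2.symm))
  -- `R` is a Sylow subgroup
  obtain ⟨P, hP⟩ := hRp.exists_le_sylow
  have hPR : (P : Subgroup L) = R := by
    by_contra hne'
    have hlt : R.subgroupOf P < ⊤ := lt_top_iff_ne_top.2 fun e =>
      hne' (le_antisymm (Subgroup.subgroupOf_eq_top.1 e) hP)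
    haveI : Group.IsNilpotent (P : Subgroup L) := P.2.isNilpotent
    obtain ⟨N, hNlt, hNmem⟩ : ∃ N : Subgroup L, R < N ∧ IsPGroup 2 N ∧
        N ≤ Subgroup.normalizer (R : Set L) := by
      have h1 := Group.normalizerCondition_of_isNilpotent (R.subgroupOf P) hlt
      refine ⟨(Subgroup.normalizer ((R.subgroupOf P) : Set P)).map (P : Subgroup L).subtype, ?_, ?_, ?_⟩
      · have h2 := Subgroup.map_subtype_lt_map_subtype.2 h1
        rwa [Subgroup.map_subgroupOf_eq_of_le hP] at h2
      · exact (P.2.to_subgroup _).map _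
      · have h3 := Subgroup.le_normalizer_map (H := R.subgroupOf P) (P : Subgroup L).subtype
        rwa [Subgroup.map_subgroupOf_eq_of_le hP] at h3
    obtain ⟨hNp, hNn⟩ := hNmem
    have hRN := hNlt.le
    -- the translation closed set
    let s' : L → Prop := fun h => h ∈ R ∧ (h = 1 ∨ c h = Nat.card R)
    let A : Set L := {a | ∃ n ∈ N, a = n * ⟨z1, hz1⟩ * n⁻¹}
    have hA : ∀ a ∈ A, a ∈ R ∧ a * a = 1 ∧ c a = Nat.card R := by
      rintro _ ⟨n, hn, rfl⟩
      refine ⟨(Subgroup.mem_normalizer_iff.1 (hNn hn) _).1 hz1R, ?_, ?_⟩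
      · rw [show n * (⟨z1, hz1⟩ : L) * n⁻¹ * (n * ⟨z1, hz1⟩ * n⁻¹) = n * (⟨z1, hz1⟩ * ⟨z1, hz1⟩) * n⁻¹ by group,
          show (⟨z1, hz1⟩ : L) * ⟨z1, hz1⟩ = 1 from Subtype.ext hz1sq]
        group
      · rw [hcR]; exact cmap (MulAut.conj n) ⟨z1, hz1⟩
    have step : ∀ h, s' h → ∀ a ∈ A, s' (h * a) := by
      rintro h ⟨hhR, hh⟩ a ha
      obtain ⟨haR, ha2, hac⟩ := hA a ha
      refine ⟨mul_mem hhR haR, ?_⟩
      by_cases h1 : h = 1
      · exact .inr (by rw [h1, one_mul, hac])
      by_cases h2 : h = a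
      · exact .inl (by rw [h2, ha2])
      right
      obtain ⟨n, hn, rfl⟩ := ha
      have hx : n⁻¹ * h * n ∈ R := by
        have := (Subgroup.mem_normalizer_iff.1 (inv_mem (hNn hn)) h).1 hhR
        rwa [inv_inv] at this
      have e1 : c (n⁻¹ * h * n) = c h := by
        rw [← cmap (MulAut.conj n) (n⁻¹ * h * n)]; congr 1; simp [mul_assoc]
      have e2 : c (h * (n * ⟨z1, hz1⟩ * n⁻¹)) = c (n⁻¹ * h * n * ⟨z1, hz1⟩) := by
        rw [← cmap (MulAut.conj n) (n⁻¹ * h * n * ⟨z1, hz1⟩)]; congr 1; simp [mul_assoc]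
      rw [e2, (move _ hx ?_ ?_).1, e1]
      · exact hh.resolve_left h1
      · intro e; apply h1
        calc h = n * (n⁻¹ * h * n) * n⁻¹ := by group
          _ = 1 := by rw [e]; group
      · intro e; apply h2
        calc h = n * (n⁻¹ * h * n) * n⁻¹ := by group
          _ = _ := by rw [show n⁻¹ * h * n = (⟨z1, hz1⟩ : L) from Subtype.ext e]
    have all : ∀ h ∈ Subgroup.closure A, s' h := fun h hh => by
      induction hh using Subgroup.closure_induction_right with
      | one => exact ⟨one_mem _, .inl rfl⟩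
      | mul_right x hx a ha ih => exact step x ih a ha
      | mul_inv_cancel x hx a ha ih =>
        rw [inv_eq_of_mul_eq_one_left (hA a ha).2.1]; exact step x ih a ha
    haveI : Group.IsNilpotent N := hNp.isNilpotent
    have hle : Subgroup.closure A ≤ N := (Subgroup.closure_le _).2 fun a ha => hRN (hA a ha).1
    haveI hnor : ((Subgroup.closure A).subgroupOf N).Normal := by
      refine ⟨fun h hh n => ?_⟩
      rw [Subgroup.mem_subgroupOf] at hh ⊢
      have : Subgroup.closure A ≤ (Subgroup.closure A).comap (MulAut.conj (n : L)).toMonoidHom := by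
        rw [Subgroup.closure_le]
        rintro _ ⟨m, hm, rfl⟩
        refine Subgroup.subset_closure ⟨n * m, mul_mem n.2 hm, ?_⟩
        simp [mul_assoc]
      simpa using this hh
    have hneb : (Subgroup.closure A).subgroupOf N ≠ ⊥ := fun e => by
      have hmem : (⟨⟨z1, hz1⟩, hRN hz1R⟩ : N) ∈ (Subgroup.closure A).subgroupOf N :=
        Subgroup.subset_closure ⟨1, one_mem N, by simp⟩
      rw [e, Subgroup.mem_bot] at hmem
      exact hz11 (congrArg (fun t : N => ((t : L) : G)) hmem)
    obtain ⟨⟨h, hhN⟩, hhm, hh1⟩ := (Subgroup.bot_or_exists_ne_one _).resolve_left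
      (Fitting.inf_center_ne_bot hneb)
    obtain ⟨hh2, hh3⟩ := Subgroup.mem_inf.1 hhm
    obtain ⟨-, hs'⟩ := all h hh2
    have hN_le : N ≤ Subgroup.centralizer ({h} : Set L) := fun n hn =>
      Subgroup.mem_centralizer_singleton_iff.2
        (congrArg Subtype.val (Subgroup.mem_center_iff.1 hh3 ⟨n, hn⟩))
    have hcard := Subgroup.card_le_of_le hN_le
    rcases hs' with e | e
    · exact hh1 (Subtype.ext e)
    · change Nat.card N ≤ c h at hcard
      rw [e] at hcard
      exact hne' (absurd (Subgroup.eq_of_le_of_card_ge hRN hcard) hNlt.ne)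
  -- some element of `R` outside `⟨z₁⟩`
  obtain ⟨x, hxR, hx1, hxz⟩ : ∃ x ∈ R, x ≠ 1 ∧ (x : G) ≠ z1 := by
    by_contra hall
    push Not at hall
    have hRz : R = Subgroup.zpowers (⟨z1, hz1⟩ : L) := by
      refine le_antisymm (fun x hx => ?_) (Subgroup.zpowers_le.2 hz1R)
      by_cases e : x = 1
      · rw [e]; exact one_mem _
      · rw [show x = ⟨z1, hz1⟩ from Subtype.ext (hall x hx e)]; exact Subgroup.mem_zpowers _
    have hev : Even (Nat.card L) := by
      rw [even_iff_two_dvd]
      have : orderOf (⟨z1, hz1⟩ : L) = 2 :=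
        orderOf_eq_prime (Subtype.ext (by push_cast; rw [pow_two]; exact hz1sq))
          fun e => hz11 (congrArg Subtype.val e)
      rw [← this]; exact orderOf_dvd_natCard _
    have hcyc : IsCyclic (P : Subgroup L) := by
      rw [hPR, hRz]; infer_instance
    obtain ⟨H, hH⟩ := Involution.exists_index_two_of_cyclic_sylow hev P hcyc
    haveI := Subgroup.normal_of_index_eq_two hH
    obtain ⟨hsimp, hnab⟩ := s.isSimple hL
    rcases hsimp.eq_bot_or_eq_top_of_normal H inferInstance with e | e
    · rw [e, Subgroup.index_bot] at hH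
      exact hnab (by
        haveI : Fact (Nat.Prime 2) := ⟨Nat.prime_two⟩
        haveI := isCyclic_of_prime_card hH
        exact inferInstance)
    · rw [e, Subgroup.index_top] at hH; omega
  have hall2 : ∀ L' : Subgroup G, Cfsg.IsComponent L' → L' = L ∨ L' = L2 := (move x hxR hx1 hxz).2
  have hinf : L ⊓ L2 = ⊥ := by
    rw [eq_bot_iff]
    intro a ha
    rw [Subgroup.mem_bot]
    exact s.eq_one_of_mem hL ha.1 fun l hl => (hcom l hl a ha.2).symm
  have hsup : L ⊔ L2 = M := le_antisymm (sup_le (s.comp_le hL) (s.comp_le hL2)) (by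
    rw [s.eq_layer, layer_le_iff]
    intro L' hL'
    rcases hall2 L' hL' with e | e <;> rw [e]
    exacts [le_sup_left, le_sup_right])
  have hzprod : z = z1 * z2 := by
    refine mul_inv_eq_one.1 (s.eq_one (x := z * (z1 * z2)⁻¹) fun L' hL' l hl => ?_)
    have e1 : z * (z1 * z2)⁻¹ = (z1⁻¹ * z) * z2⁻¹ := by
      have hzz : Commute z1 z := (s.commute_z_iff hL hz1c hz1).1 (Commute.refl _)
      have hzz2 : Commute z1 z2 := hcom _ hz1 _ hz2L
      rw [hzz2.eq, mul_inv_rev, ← mul_assoc, hzz.inv_left.eq]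
    have e2 : z * (z1 * z2)⁻¹ = (z2⁻¹ * z) * z1⁻¹ := by
      have hzz : Commute z2 z := by
        have h1 := (hz2c z2 hz2L).symm
        simpa using (Commute.refl z2).mul_right h1
      rw [mul_inv_rev, ← mul_assoc, hzz.inv_left.eq]
    rcases hall2 L' hL' with e | e <;> subst e
    · rw [e1]; exact (hz1c l hl).mul_left (hcom l hl _ (inv_mem hz2L)).symm
    · rw [e2]; exact (hz2c l hl).mul_left (hcom _ (inv_mem hz1) l hl)
  refine ⟨hinf, fun a ha b hb => (hcom a ha b hb).eq, hsup, z1, hz1, hzprod, ⟨P, hPR, ?_⟩, ?_⟩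
  · rintro _ ⟨r, hr, rfl⟩
    let K : Subgroup (P : Subgroup L) :=
      (Subgroup.zpowers z1).comap (L.subtype.comp (P : Subgroup L).subtype)
    have hrc : ∀ r : (P : Subgroup L), Commute ((r : L) : G) z1 := fun r => (hRm _).1 (hPR ▸ r.2)
    haveI : K.Normal := ⟨fun k hk r => by
      have hk' : ((k : L) : G) ∈ Subgroup.zpowers z1 := hk
      obtain ⟨i, hi⟩ := hk'
      refine ⟨i, ?_⟩
      show z1 ^ i = ((r : L) : G) * ((k : L) : G) * ((r : L) : G)⁻¹
      simp only at hi
      rw [← hi, ((hrc r).zpow_right i).eq, mul_inv_cancel_right]⟩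
    have hcase : ∀ a : G, a = 1 ∨ a = z1 → a ∈ Subgroup.zpowers z1 := by
      rintro a (rfl | rfl)
      · exact one_mem _
      · exact Subgroup.mem_zpowers _
    refine PGroup.frattini_le_of_quotient (p := 2) (N := K) ?_ (fun y => ?_) hr
    · rw [commutator_def, Subgroup.commutator_le]
      intro a _ b _
      refine hcase _ ?_
      set a' : G := ((a : L) : G)
      set b' : G := ((b : L) : G)
      obtain ⟨ha, hya⟩ := hd a' a.1.2 (hrc a)
      obtain ⟨hb, hyb⟩ := hd b' b.1.2 (hrc b)
      refine projz _ (⁅(a : L), (b : L)⁆).2 _ (?_ :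
        ⁅u * a'⁻¹ * u⁻¹, u * b'⁻¹ * u⁻¹⁆ ∈ L2) ?_
      · rw [commutatorElement_def]
        exact mul_mem (mul_mem (mul_mem hya hyb) (inv_mem hya)) (inv_mem hyb)
      · rcases s.setup.comm_cases ha hb with e | e
        all_goals
          rw [show (L.subtype.comp (P : Subgroup L).subtype) ⁅a, b⁆ = ⁅a', b'⁆ by simp [commutatorElement_def, a', b'],
            ← commutator_mul_mul_of_commute (hcom _ a.1.2 _ hya) (hcom _ a.1.2 _ hyb) (hcom _ b.1.2 _ hya) (hcom _ b.1.2 _ hyb), commutatorElement_def]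
          erw [e]
        · exact one_mem _
        · exact Subgroup.mem_zpowers _
    · exact hcase _ (by
        simpa [pow_two] using hsqR _ y.1.2 (hrc y))
  · intro hQeq
    haveI := s.normal
    set C := Subgroup.centralizer ({z} : Set G)
    have hMC : IsPGroup 2 (M.subgroupOf C) := by
      rintro ⟨⟨m, hmC⟩, hm⟩
      rw [Subgroup.mem_subgroupOf] at hm
      refine ⟨2, Subtype.ext (Subtype.ext ?_)⟩
      push_cast
      obtain ⟨a, ha, hac⟩ := s.decomp hL hm
      obtain ⟨b, hb, hbc⟩ := s.decomp hL2 hm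
      have hmab : m = a * b := by
        refine mul_inv_eq_one.1 (s.eq_one (x := m * (a * b)⁻¹) fun L' hL' l hl => ?_)
        have hmb : Commute b (b⁻¹ * m) := (hbc b hb).symm
        have hma : Commute a (a⁻¹ * m) := (hac a ha).symm
        have hbm : Commute b m := by simpa using (Commute.refl b).mul_right hmb
        have ham : Commute a m := by simpa using (Commute.refl a).mul_right hma
        have e1 : m * (a * b)⁻¹ = (a⁻¹ * m) * b⁻¹ := by
          rw [(hcom a ha b hb).eq, mul_inv_rev, ← mul_assoc, ham.inv_left.eq]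
        have e2 : m * (a * b)⁻¹ = (b⁻¹ * m) * a⁻¹ := by
          rw [mul_inv_rev, ← mul_assoc, hbm.inv_left.eq]
        rcases hall2 L' hL' with e | e <;> subst e
        · rw [e1]; exact (hac l hl).mul_left (hcom l hl _ (inv_mem hb)).symm
        · rw [e2]; exact (hbc l hl).mul_left (hcom _ (inv_mem ha) l hl)
      have hmz : Commute m z := Subgroup.mem_centralizer_singleton_iff.1 hmC
      have hva : Commute a z1 := by
        have h1 : m * z * m⁻¹ = z := by rw [hmz.eq, mul_inv_cancel_right]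
        rw [hmab] at h1
        refine mul_inv_eq_iff_eq_mul.1 (s.decomp_unique hL (m := z) (mul_mem (mul_mem ha hz1) (inv_mem ha))
          hz1 (fun l hl => ?_) hz1c)
        have e : (a * z1 * a⁻¹)⁻¹ * z = b * z2 * b⁻¹ := by
          rw [inv_mul_eq_iff_eq_mul]
          conv_lhs => rw [← h1, hzprod]
          have hab := hcom a ha b hb
          have h2 := hcom z1 hz1 b hb
          have h3 : Commute a⁻¹ (b * z2 * b⁻¹) :=
            hcom _ (inv_mem ha) _ (mul_mem (mul_mem hb hz2L) (inv_mem hb))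
          calc a * b * (z1 * z2) * (a * b)⁻¹ = a * (b * z1) * z2 * b⁻¹ * a⁻¹ := by group
            _ = a * (z1 * b) * z2 * b⁻¹ * a⁻¹ := by rw [h2.eq]
            _ = a * z1 * (b * z2 * b⁻¹ * a⁻¹) := by group
            _ = a * z1 * (a⁻¹ * (b * z2 * b⁻¹)) := by rw [h3.eq]
            _ = _ := by group
        rw [e]
        exact (hcom l hl _ (mul_mem (mul_mem hb hz2L) (inv_mem hb))).symm
      have hvb : ∃ a' ∈ L, Commute a' z1 ∧ b = u * a' * u⁻¹ := by
        obtain ⟨a', ha', e'⟩ := hb
        change u * a' * u⁻¹ = b at e'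
        refine ⟨a', ha', ?_, e'.symm⟩
        have hbz : Commute b z := by
          have hbm : b = a⁻¹ * m := by rw [hmab, inv_mul_cancel_left]
          rw [hbm]
          exact ((s.commute_z_iff hL hz1c ha).1 hva).inv_left.mul_left hmz
        refine (s.commute_z_iff hL hz1c ha').2 ?_
        have := hbz.map (MulAut.conj u⁻¹).toMonoidHom
        simp only [MulEquiv.coe_toMonoidHom, MulAut.conj_apply, inv_inv, ← e'] at this
        rwa [show u⁻¹ * (u * a' * u⁻¹) * u = a' by group, huz.inv_left.eq,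
          show z * u⁻¹ * u = z by group] at this
      obtain ⟨a', ha', hva', rfl⟩ := hvb
      rw [hmab, (hcom a ha _ hb).mul_pow, hfour a ha hva, conj_pow,
        hfour a' ha' hva']
      group
    have hxC : (x : G) ∈ C := Subgroup.mem_centralizer_singleton_iff.2
      ((s.commute_z_iff hL hz1c x.2).1 ((hRm x).1 hxR)).eq
    have hxQ : (x : G) ∈ Q := by
      rw [hQeq]
      refine ⟨⟨x, hxC⟩, ?_, rfl⟩
      haveI : (M.subgroupOf C).Normal := inferInstance
      exact Thompson.le_pCore inferInstance hMC (s.comp_le hL x.2)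
    have hxz' : (x : G) ∉ Subgroup.zpowers z := by
      intro e
      rcases s.setup.zpowers_cases e with e | e
      · exact hx1 (Subtype.ext e)
      · refine s.z_not_commute hL2 fun l hl => ?_
        rw [← e]; exact hcom _ x.2 l hl
    obtain ⟨q, hq, hqe⟩ := s.setup.exists_moving hxQ hxz'
    have hmem : z * (x : G) ∈ L.map (MulAut.conj q).toMonoidHom := ⟨x, x.2, hqe⟩
    rcases hall2 _ (component_map_conj q hL) with e | e <;> rw [e] at hmem
    · refine s.z_not_commute hL2 fun l hl => ?_
      have := (hcom _ hmem l hl).mul_left (hcom _ (inv_mem x.2) l hl)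
      rwa [mul_inv_cancel_right] at this
    · refine hxz ?_
      have hall' : ∀ l ∈ L, Commute (z * (x : G)) l := fun l hl => (hcom l hl _ hmem).symm
      have h1 : z1 * (x : G) = 1 := by
        refine s.eq_one_of_mem hL (mul_mem hz1 x.2) fun l hl => ?_
        have e : z * (x : G) = (z1 * x) * (z1⁻¹ * z) := by
          have := ((hz1c _ x.2).eq)
          calc z * (x : G) = z1 * ((z1⁻¹ * z) * x) := by group
            _ = z1 * (x * (z1⁻¹ * z)) := by rw [this]
            _ = _ := by group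
        have h2 := (hall' l hl).mul_left (hz1c l hl).inv_left
        rwa [e, mul_inv_cancel_right] at h2
      rw [eq_inv_of_mul_eq_one_right h1, inv_eq_of_mul_eq_one_left hz1sq]

end Semisimple

/-- The structure theorem for the normal closure of `z`. -/
theorem Setup.normalClosure_cases (h : Setup Q z) (hlarge : Cfsg.IsLargeExtraspecial Q) (M : Subgroup G)
    (hM : M = Subgroup.normalClosure ({z} : Set G)) :
    (IsMulCommutative M ∧ Cfsg.generalizedFittingSubgroup G = Cfsg.pCore 2 G) ∨
      (M = Cfsg.generalizedFittingSubgroup G ∧ IsSimpleGroup M ∧ ¬ IsMulCommutative M) ∨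
      (M = Cfsg.generalizedFittingSubgroup G ∧ ∃ (L : Subgroup G) (u : G), u ∈ Q ∧ IsSimpleGroup L ∧
        ¬ IsMulCommutative L ∧ L ⊓ L.map (MulAut.conj u).toMonoidHom = ⊥ ∧
        (∀ x ∈ L, ∀ y ∈ L.map (MulAut.conj u).toMonoidHom, x * y = y * x) ∧
        L ⊔ L.map (MulAut.conj u).toMonoidHom = M ∧
        ∃ z₁ ∈ L, z = z₁ * (u * z₁ * u⁻¹) ∧
          (∃ R : Sylow 2 ↥L, (R : Subgroup ↥L) = (Subgroup.centralizer ({z₁} : Set G)).subgroupOf L ∧
            (frattini ↥(R : Subgroup ↥L)).map ((L.subtype).comp (R : Subgroup ↥L).subtype) ≤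
              Subgroup.zpowers z₁) ∧
          Q ≠ (Cfsg.pCore 2 ↥(Subgroup.centralizer ({z} : Set G))).map
            (Subgroup.centralizer ({z} : Set G)).subtype) := by
  haveI hMn : M.Normal := hM ▸ Subgroup.normalClosure_normal
  have hzM : z ∈ M := hM ▸ Subgroup.subset_normalClosure rfl
  have hmin : ∀ N : Subgroup G, N.Normal → N ≠ ⊥ → M ≤ N := fun N hN hne =>
    hM ▸ Subgroup.normalClosure_le_normal (Set.singleton_subset_iff.2 (h.mem_normal hlarge N (hN := hN) hne))
  haveI : Fact (Nat.Prime 2) := ⟨Nat.prime_two⟩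
  by_cases hF : Cfsg.fittingSubgroup G = ⊥
  · right
    have hFst : Cfsg.generalizedFittingSubgroup G = Cfsg.layer G := by
      rw [Cfsg.generalizedFittingSubgroup, hF, sup_bot_eq]
    have hCM : Subgroup.centralizer (M : Set G) = ⊥ := by
      by_contra hne
      have hle := hmin _ inferInstance hne
      letI : CommGroup M := { (inferInstance : Group M) with
        mul_comm := fun a b => Subtype.ext (Subgroup.mem_centralizer_iff.1 (hle b.2) a a.2) }
      have hle' : M ≤ Cfsg.fittingSubgroup G := Fitting.le_fitting hMn inferInstance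
      rw [hF, le_bot_iff] at hle'
      exact h.z_ne_one (by rw [← Subgroup.mem_bot, ← hle']; exact hzM)
    have hlayer : M = Cfsg.layer G := by
      have hne : Cfsg.layer G ≠ ⊥ := by
        rw [← hFst, Ne, generalizedFitting_eq_bot_iff]
        exact fun hs => h.z_ne_one (Subsingleton.elim _ _)
      refine le_antisymm (hmin _ inferInstance hne) (layer_le_iff.2 fun L hL => ?_)
      refine (component_le_or_commutator_eq_bot_of_normal hL M).resolve_right fun e => ?_
      rw [Subgroup.commutator_eq_bot_iff_le_centralizer, hCM, le_bot_iff] at e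
      exact component_ne_bot hL e
    have s : Semisimple Q z M := ⟨h, hMn, hzM, hCM, hlayer⟩
    obtain ⟨L, hL⟩ : ∃ L : Subgroup G, Cfsg.IsComponent L := by
      by_contra hall
      push Not at hall
      rw [hlayer, layer_eq_bot_iff.2 hall, Subgroup.mem_bot] at hzM
      exact h.z_ne_one hzM
    obtain ⟨hs1, hs2⟩ := s.isSimple hL
    by_cases hone : ∀ L' : Subgroup G, Cfsg.IsComponent L' → L' = L
    · left
      obtain rfl : M = L := le_antisymm (by rw [hlayer, layer_le_iff]; exact fun L' hL' => (hone L' hL').le)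
        (s.comp_le hL)
      exact ⟨hlayer.trans hFst.symm, hs1, hs2⟩
    · right
      push Not at hone
      obtain ⟨L', hL', hne⟩ := hone
      obtain ⟨u, hu, hmove⟩ := s.exists_moved hL hL' hne.symm
      obtain ⟨h1, h2, h3, h4⟩ := s.two_components hL hu hmove
      exact ⟨hlayer.trans hFst.symm, L, u, hu, hs1, hs2, h1, h2, h3, h4⟩
  · left
    have hle := hmin _ inferInstance hF
    haveI : Group.IsNilpotent (Cfsg.fittingSubgroup G) := Fitting.fitting_isNilpotent
    have hO : Cfsg.pPrimeCore 2 G = ⊥ := by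
      refine hlarge.2.2.2 _ ?_ (by rw [Subgroup.normalizer_eq_top_iff.2 inferInstance]; exact le_top)
      exact Nat.coprime_two_right.1 Thompson.card_pPrimeCore_coprime
    refine ⟨?_, ?_⟩
    · haveI : Group.IsNilpotent M := Group.nilpotent_of_mulEquiv (Subgroup.subgroupOfEquivOfLe hle)
      haveI : Nontrivial M := ⟨⟨⟨z, hzM⟩, 1, fun e => h.z_ne_one (congrArg Subtype.val e)⟩⟩
      have hD : ((commutator M).map M.subtype) = ⊥ := by
        by_contra hne
        have := hmin _ inferInstance hne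
        refine (Group.IsSolvable.commutator_lt_top_of_nontrivial (G := M)).ne ?_
        rw [eq_top_iff]
        intro x _
        obtain ⟨y, hy, e⟩ := this x.2
        rwa [show y = x from Subtype.ext e] at hy
      refine ⟨⟨fun a b => ?_⟩⟩
      have : ⁅a, b⁆ ∈ commutator M := Subgroup.commutator_mem_commutator (Subgroup.mem_top a) (Subgroup.mem_top b)
      rw [Subgroup.map_eq_bot_iff_of_injective _ M.subtype_injective] at hD
      rw [hD, Subgroup.mem_bot] at this
      exact commutatorElement_eq_one_iff_mul_comm.1 this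
    · rw [Cfsg.generalizedFittingSubgroup, h.layer_of_abelian hlarge hF, bot_sup_eq,
        fitting_eq_pCore_of_pPrimeCore_eq_bot hO]

end Cfsg.Agent.LargeExtraspecial
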