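import Cfsg.Agent.Lib.LargeExtraspecial.Basic

/-!
# Two large extraspecial subgroups whose centres commute

`Pair Q R z s`: setups `(Q, z)`, `(R, s)` conjugate to each other with `s ∈ Q ∖ {z}` and `|Q| ≥ 32`.
-/

set_option autoImplicit false

namespace Cfsg.Agent.LargeExtraspecial

open scoped Pointwise

variable {G : Type*} [Group G]

/-- The subgroup of elements of `Q` commuting with `s`. -/
def fixIn (Q : Subgroup G) (s : G) : Subgroup G := Q ⊓ Subgroup.centralizer ({s} : Set G)

theorem mem_fixIn {Q : Subgroup G} {s x : G} : x ∈ fixIn Q s ↔ x ∈ Q ∧ Commute x s := by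
  rw [fixIn, Subgroup.mem_inf, Subgroup.mem_centralizer_singleton_iff]; rfl

namespace Setup

variable {Q : Subgroup G} {z : G}

theorem exists_moving (h : Setup Q z) {s : G} (hs : s ∈ Q) (hs' : s ∉ Subgroup.zpowers z) :
    ∃ x ∈ Q, x * s * x⁻¹ = z * s := by
  by_contra hall
  push Not at hall
  exact hs' (h.mem_zpowers_of_center hs fun y hy =>
    ((mul_inv_eq_iff_eq_mul.1 ((h.conj_cases hy hs).resolve_right (hall y hy))).symm :
      s * y = y * s))

theorem conj_mem (h : Setup Q z) {c x : G} (hc : Commute c z) (hx : x ∈ Q) : c * x * c⁻¹ ∈ Q :=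
  (Subgroup.mem_normalizer_iff.1
    (h.centralizer_le (Subgroup.mem_centralizer_singleton_iff.2 hc.eq)) x).1 hx

theorem comm_mem (h : Setup Q z) {c x : G} (hc : Commute c z) (hx : x ∈ Q) :
    c * x * c⁻¹ * x⁻¹ ∈ Q :=
  mul_mem (h.conj_mem hc hx) (inv_mem hx)

theorem eq_of_conj (h : Setup Q z) {R : Subgroup G} (h' : Setup R z) {g : G}
    (hR : R = Q.map (MulAut.conj g).toMonoidHom) (hg : g * z * g⁻¹ = z) : R = Q := by
  have hgc : Commute g z := mul_inv_eq_iff_eq_mul.1 hg
  refine le_antisymm ?_ ?_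
  · rw [hR]; rintro _ ⟨x, hx, rfl⟩; exact h.conj_mem hgc hx
  · intro x hx
    rw [hR, Subgroup.mem_map_equiv, MulAut.conj_symm_apply]
    have := h.conj_mem hgc.inv_left hx
    rwa [inv_inv] at this

/-- If `a b` commute with `s` and centralize all centre-elements then `a ∈ {1, z, s, z s}`. -/
theorem center_fixIn [Finite G] (h : Setup Q z) {s : G} (hs : s ∈ Q) (hs' : s ∉ Subgroup.zpowers z)
    {a : G} (ha : a ∈ Q) (hac : ∀ y ∈ Q, Commute y s → Commute a y) :
    a ∈ Subgroup.zpowers z ∨ a * s ∈ Subgroup.zpowers z := by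
  obtain ⟨x, hx, hxs⟩ := h.exists_moving hs hs'
  have dich : ∀ y ∈ Q, Commute y s ∨ Commute (x * y) s := by
    intro y hy
    rcases h.conj_cases hy hs with e | e
    · exact Or.inl (mul_inv_eq_iff_eq_mul.1 e)
    · right
      refine mul_inv_eq_iff_eq_mul.1 ?_
      rw [show x * y * s * (x * y)⁻¹ = x * (y * s * y⁻¹) * x⁻¹ by group, e,
        show x * (z * s) * x⁻¹ = (x * z * x⁻¹) * (x * s * x⁻¹) by group, hxs,
        ← (h.z_commute hx).eq, mul_inv_cancel_right, ← mul_assoc, h.z_mul_self, one_mul]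
  by_cases hax : Commute a x
  · left
    refine h.mem_zpowers_of_center ha fun y hy => ?_
    rcases dich y hy with e | e
    · exact hac y hy e
    · have := (hax.inv_right).mul_right (hac _ (mul_mem hx hy) e)
      rwa [inv_mul_cancel_left] at this
  · right
    have key : ∀ {a}, a ∈ Q → ¬ Commute a x → x * a * x⁻¹ = z * a := fun {a} ha hax =>
      (h.conj_cases hx ha).resolve_left fun e => hax (mul_inv_eq_iff_eq_mul.1 e).symm
    have hasx : Commute (a * s) x := by
      refine (mul_inv_eq_iff_eq_mul.1 ?_ : x * (a * s) = a * s * x).symm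
      rw [show x * (a * s) * x⁻¹ = (x * a * x⁻¹) * (x * s * x⁻¹) by group, key ha hax, hxs,
        show z * a * (z * s) = z * (a * z) * s by simp only [mul_assoc], ← (h.z_commute ha).eq,
        ← mul_assoc, h.z_mul_self, one_mul]
    refine h.mem_zpowers_of_center (mul_mem ha hs) fun y hy => ?_
    rcases dich y hy with e | e
    · exact (hac y hy e).mul_left e.symm
    · have := hasx.inv_right.mul_right ((hac _ (mul_mem hx hy) e).mul_left e.symm)
      rwa [inv_mul_cancel_left] at this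

theorem exists_noncommute_fixIn [Finite G] (h : Setup Q z) (hcard : 32 ≤ Nat.card Q) {s : G}
    (hs : s ∈ Q) (hs' : s ∉ Subgroup.zpowers z) :
    ∃ a ∈ fixIn Q s, ∃ b ∈ fixIn Q s, a * b * a⁻¹ * b⁻¹ = z := by
  classical
  by_contra hall
  push Not at hall
  obtain ⟨x, hx, hxs⟩ := h.exists_moving hs hs'
  let S : Finset G := [1, z, s, z * s, x⁻¹, x⁻¹ * z, x⁻¹ * s, x⁻¹ * (z * s)].toFinset
  have hcs : ∀ y ∈ Q, y ∈ S := by
    intro y hy
    have hcent : ∀ a ∈ fixIn Q s, a = 1 ∨ a = z ∨ a = s ∨ a = z * s := by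
      intro a ha
      obtain ⟨haQ, has⟩ := mem_fixIn.1 ha
      rcases h.center_fixIn hs hs' haQ (fun y hy hys => by
        have := (h.comm_cases haQ hy).resolve_right (hall a ha y (mem_fixIn.2 ⟨hy, hys⟩))
        rw [mul_inv_eq_one, mul_inv_eq_iff_eq_mul] at this
        exact this) with e | e
      · rcases h.zpowers_cases e with e | e <;> simp [e]
      · have hsi : s⁻¹ = s ∨ s⁻¹ = z * s := by
          rcases h.zpowers_cases (h.sq_mem hs) with e' | e'
          · exact Or.inl (inv_eq_of_mul_eq_one_left e')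
          · right
            apply inv_eq_of_mul_eq_one_right
            rw [← mul_assoc, ← (h.z_commute hs).eq, mul_assoc, e', h.z_mul_self]
        rcases h.zpowers_cases e with e | e <;>
          have e1 := eq_mul_inv_of_mul_eq e <;> rcases hsi with e2 | e2 <;> rw [e2] at e1 <;>
          simp [e1, ← mul_assoc, h.z_mul_self]
    rcases h.conj_cases hy hs with e | e
    · rcases hcent y (mem_fixIn.2 ⟨hy, mul_inv_eq_iff_eq_mul.1 e⟩) with e1 | e1 | e1 | e1 <;>
        simp [S, e1]
    · have hxy : x * y ∈ fixIn Q s := mem_fixIn.2 ⟨mul_mem hx hy, mul_inv_eq_iff_eq_mul.1 (by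
        rw [show x * y * s * (x * y)⁻¹ = x * (y * s * y⁻¹) * x⁻¹ by group, e,
          show x * (z * s) * x⁻¹ = (x * z * x⁻¹) * (x * s * x⁻¹) by group, hxs,
          ← (h.z_commute hx).eq, mul_inv_cancel_right, ← mul_assoc, h.z_mul_self, one_mul])⟩
      rcases hcent _ hxy with e1 | e1 | e1 | e1 <;>
        have e2 := eq_inv_mul_of_mul_eq e1 <;> simp [S, e2]
  have h1 : Nat.card Q ≤ 8 := by
    calc Nat.card Q = (Q : Set G).ncard := rfl
      _ ≤ (S : Set G).ncard := Set.ncard_le_ncard (fun y hy => hcs y hy) (Finset.finite_toSet S)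
      _ = S.card := Set.ncard_coe_finset S
      _ ≤ 8 := List.toFinset_card_le _
  omega

end Setup

/-- Conjugate setups with commuting distinct centres, `s` in `Q`. -/
structure Pair (Q R : Subgroup G) (z s : G) : Prop where
  left : Setup Q z
  right : Setup R s
  conj : ∃ g : G, g * z * g⁻¹ = s ∧ R = Q.map (MulAut.conj g).toMonoidHom
  mem : s ∈ Q
  ne : s ≠ z
  card : 32 ≤ Nat.card Q

namespace Pair

variable {Q R : Subgroup G} {z s : G}

theorem not_mem (h : Pair Q R z s) : s ∉ Subgroup.zpowers z := fun e =>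
  (h.left.zpowers_cases e).elim h.right.z_ne_one h.ne

theorem comm (h : Pair Q R z s) : Commute z s := h.left.z_commute h.mem

variable [Finite G]

/-- Some element of `R` fixes `s` and sends `z` to `z s`. -/
theorem exists_moving_right (h : Pair Q R z s) : ∃ t ∈ R, t * z * t⁻¹ = z * s := by
  by_cases hzR : z ∈ R
  · obtain ⟨t, ht, e⟩ := h.right.exists_moving hzR (fun e => (h.right.zpowers_cases e).elim
      h.left.z_ne_one (fun e' => h.ne e'.symm))
    exact ⟨t, ht, e.trans h.comm.eq.symm⟩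
  by_contra hall
  push Not at hall
  have hzs : z * s ∉ R := fun e => hzR (by
    have := mul_mem e h.right.z_mem
    rwa [mul_assoc, h.right.z_mul_self, mul_one] at this)
  obtain ⟨a, ha, b, hb, hab⟩ := h.left.exists_noncommute_fixIn h.card h.mem h.not_mem
  -- the elements of `R` fixing `z` modulo `s`
  have hW : ∀ c ∈ R, z * c * z⁻¹ * c⁻¹ ∈ Subgroup.zpowers s → Commute c z := by
    intro c hc e
    rcases h.right.zpowers_cases e with e | e
    · rw [mul_inv_eq_one, mul_inv_eq_iff_eq_mul] at e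
      exact e.symm
    · exfalso
      apply hall c hc
      have e2 : c * z = s * (z * c) := by
        rw [mul_inv_eq_iff_eq_mul, mul_inv_eq_iff_eq_mul] at e
        calc c * z = s * s * (c * z) := by rw [h.right.z_mul_self, one_mul]
          _ = s * (s * c * z) := by simp only [mul_assoc]
          _ = _ := by rw [← e]
      rw [e2, ← mul_assoc, mul_inv_cancel_right, h.comm.eq]
  -- `C_Q(s)` fixes `C_R(z)` modulo `s`
  have hXC : ∀ x ∈ fixIn Q s, ∀ c ∈ R, Commute c z → x * c * x⁻¹ * c⁻¹ ∈ Subgroup.zpowers s := by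
    intro x hx c hc hcz
    obtain ⟨hxQ, hxs⟩ := mem_fixIn.1 hx
    set e := x * c * x⁻¹ * c⁻¹ with he
    have heR : e ∈ R := h.right.comm_mem hxs hc
    have heQ : e ∈ Q := by
      rw [he, show x * c * x⁻¹ * c⁻¹ = x * (c * x⁻¹ * c⁻¹) by group]
      exact mul_mem hxQ (h.left.conj_mem hcz (inv_mem hxQ))
    have hes : Commute e s := (h.right.z_commute heR).symm
    -- `e` is central in `C_Q(s)`
    rcases h.left.center_fixIn h.mem h.not_mem heQ (fun y hy hys => by
      have h1 : y * e * y⁻¹ * e⁻¹ = 1 := by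
        rcases h.left.comm_cases hy heQ with e' | e'
        · exact e'
        · exfalso; exact hzR (e' ▸ h.right.comm_mem hys heR)
      rw [mul_inv_eq_one, mul_inv_eq_iff_eq_mul] at h1
      exact h1.symm) with e' | e'
    · rcases h.left.zpowers_cases e' with e' | e'
      · rw [e']; exact one_mem _
      · exact absurd (e' ▸ heR) hzR
    · rcases h.left.zpowers_cases e' with e' | e'
      · rw [eq_inv_of_mul_eq_one_left e']; exact inv_mem (Subgroup.mem_zpowers s)
      · exact absurd (e' ▸ mul_mem heR h.right.z_mem) hzR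
  -- work modulo `s`: `C_Q(s)` moves every element of `R` by elements fixed by `z`
  have hzR' : ∀ t ∈ R, z * t * z⁻¹ ∈ R := fun t ht => h.right.conj_mem h.comm ht
  have central : ∀ w ∈ Subgroup.zpowers s, ∀ y ∈ R, Commute w y := fun w hw y hy => by
    rcases h.right.zpowers_cases hw with rfl | rfl
    · exact Commute.one_left y
    · exact h.right.z_commute hy
  have hmove : ∀ x ∈ fixIn Q s, ∀ t ∈ R, Commute (x * t * x⁻¹ * t⁻¹) z := by
    intro x hx t ht
    obtain ⟨hxQ, hxs⟩ := mem_fixIn.1 hx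
    have hxz : Commute x z := (h.left.z_commute hxQ).symm
    set c0 := t⁻¹ * (z * t * z⁻¹) with hc0
    have hc0R : c0 ∈ R := mul_mem (inv_mem ht) (hzR' t ht)
    have hc0z : Commute c0 z := by
      refine hW c0 hc0R ?_
      have e1 : z * c0 * z⁻¹ = c0⁻¹ := by
        simp only [hc0, mul_inv_rev, inv_inv, h.left.z_inv, mul_assoc, h.left.z_mul_self, mul_one]
      rw [e1, show c0⁻¹ * c0⁻¹ = (c0 * c0)⁻¹ by group]
      exact inv_mem (h.right.sq_mem hc0R)
    set e := x * t * x⁻¹ * t⁻¹ with he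
    have heR : e ∈ R := h.right.comm_mem hxs ht
    refine hW e heR ?_
    set u := x * c0 * x⁻¹ * c0⁻¹ with hu
    have hus : u ∈ Subgroup.zpowers s := hXC x hx c0 hc0R hc0z
    have hzx : z * x * z⁻¹ = x := by rw [hxz.symm.eq, mul_inv_cancel_right]
    have e1 : z * e * z⁻¹ = x * (z * t * z⁻¹) * x⁻¹ * (z * t * z⁻¹)⁻¹ := by
      calc z * e * z⁻¹ = (z * x * z⁻¹) * (z * t * z⁻¹) * (z * x * z⁻¹)⁻¹ * (z * t * z⁻¹)⁻¹ := by
            rw [he]; group
        _ = _ := by rw [hzx]
    have e2 : z * t * z⁻¹ = t * c0 := by rw [hc0, mul_inv_cancel_left]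
    have e3 : x * (t * c0) * x⁻¹ * (t * c0)⁻¹ = x * t * x⁻¹ * u * t⁻¹ := by rw [hu]; group
    rw [e1, e2, e3]
    have e4 : x * t * x⁻¹ * u * t⁻¹ = e * u := by
      rw [mul_assoc (x * t * x⁻¹) u, (central u hus _ (inv_mem ht)).eq, ← mul_assoc, ← he]
    rw [e4, (central u hus e heR).eq.symm, mul_inv_cancel_right]
    exact hus
  have hzfix : ∀ t ∈ R, Commute t z := by
    intro t ht
    refine hW t ht ?_
    obtain ⟨haQ, has⟩ := mem_fixIn.1 ha
    obtain ⟨hbQ, hbs⟩ := mem_fixIn.1 hb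
    set ea := a * t * a⁻¹ * t⁻¹ with hea
    set eb := b * t * b⁻¹ * t⁻¹ with heb
    have heaR : ea ∈ R := h.right.comm_mem has ht
    have hebR : eb ∈ R := h.right.comm_mem hbs ht
    set ua := a * eb * a⁻¹ * eb⁻¹ with hua
    set ub := b * ea * b⁻¹ * ea⁻¹ with hub
    have hua' : ua ∈ Subgroup.zpowers s := hXC a ha eb hebR (hmove b hb t ht)
    have hub' : ub ∈ Subgroup.zpowers s := hXC b hb ea heaR (hmove a ha t ht)
    set uc := ea * eb * ea⁻¹ * eb⁻¹ with huc
    have huc' : uc ∈ Subgroup.zpowers s := by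
      rcases h.right.comm_cases heaR hebR with e | e <;> rw [huc, e]
      · exact one_mem _
      · exact Subgroup.mem_zpowers s
    have e1 : a * b * t * (a * b)⁻¹ = ua * eb * ea * t := by rw [hua, heb, hea]; group
    have e2 : b * a * t * (b * a)⁻¹ = ub * ea * eb * t := by rw [hub, hea, heb]; group
    have hzab : z * t * z⁻¹ = (a * b * a⁻¹ * b⁻¹) * t * (a * b * a⁻¹ * b⁻¹)⁻¹ := by rw [hab]
    have hzt : z * (b * a * t * (b * a)⁻¹) * z⁻¹ = a * b * t * (a * b)⁻¹ := by
      rw [← hab]; group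
    have hza : Commute z a := h.left.z_commute haQ
    have hzb : Commute z b := h.left.z_commute hbQ
    have hfixz : ∀ w ∈ Subgroup.zpowers s, z * w * z⁻¹ = w := fun w hw => by
      rcases h.right.zpowers_cases hw with rfl | rfl
      · group
      · rw [h.comm.eq, mul_inv_cancel_right]
    have he : ∀ w, Commute w z → z * w * z⁻¹ = w := fun w hw => by
      rw [hw.eq.symm, mul_inv_cancel_right]
    rw [e1, e2, show z * (ub * ea * eb * t) * z⁻¹ =
      (z * ub * z⁻¹) * (z * ea * z⁻¹) * (z * eb * z⁻¹) * (z * t * z⁻¹) by group,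
      hfixz ub hub', he ea (hmove a ha t ht), he eb (hmove b hb t ht)] at hzt
    have e5 : z * t * z⁻¹ * t⁻¹ = (ub * ea * eb)⁻¹ * (ua * eb * ea) := by
      calc z * t * z⁻¹ * t⁻¹ = (ub * ea * eb)⁻¹ * (ub * ea * eb * (z * t * z⁻¹)) * t⁻¹ := by group
        _ = (ub * ea * eb)⁻¹ * (ua * eb * ea * t) * t⁻¹ := by rw [hzt]
        _ = _ := by group
    have e6 : ea * eb = uc * (eb * ea) := by rw [huc]; group
    have e7 : (ub * ea * eb)⁻¹ * (ua * eb * ea) = (eb * ea)⁻¹ * ((ub * uc)⁻¹ * ua) * (eb * ea) := by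
      rw [mul_assoc ub ea eb, e6]; group
    have hsub : (ub * uc)⁻¹ * ua ∈ Subgroup.zpowers s := mul_mem (inv_mem (mul_mem hub' huc')) hua'
    rw [e5, e7, (central _ hsub _ (mul_mem hebR heaR)).symm.inv_left.eq, mul_assoc, inv_mul_cancel,
      mul_one]
    exact hsub
  have hmem : z ∈ Subgroup.centralizer (R : Set G) :=
    Subgroup.mem_centralizer_iff.2 fun t ht => (hzfix t ht).eq
  rw [h.right.centralizer_eq] at hmem
  exact (h.right.zpowers_cases hmem).elim h.left.z_ne_one fun e => h.ne e.symm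

/-- An element exchanging `z` and `s`, and hence `Q` and `R`. -/
theorem exists_swap (h : Pair Q R z s) : ∃ k : G, k * z * k⁻¹ = s ∧ k * s * k⁻¹ = z ∧
    R = Q.map (MulAut.conj k).toMonoidHom := by
  obtain ⟨t, ht, htz⟩ := h.exists_moving_right
  obtain ⟨x, hx, hxs⟩ := h.left.exists_moving h.mem h.not_mem
  have hts : t * s * t⁻¹ = s := by rw [← (h.right.z_commute ht).eq, mul_inv_cancel_right]
  have hxz : x * z * x⁻¹ = z := by rw [← (h.left.z_commute hx).eq, mul_inv_cancel_right]
  have e1 : t * x * t * z * (t * x * t)⁻¹ = s := by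
    calc t * x * t * z * (t * x * t)⁻¹ = t * (x * (t * z * t⁻¹) * x⁻¹) * t⁻¹ := by group
      _ = t * ((x * z * x⁻¹) * (x * s * x⁻¹)) * t⁻¹ := by rw [htz]; group
      _ = s := by rw [hxz, hxs, ← mul_assoc z z s, h.left.z_mul_self, one_mul, hts]
  refine ⟨t * x * t, e1, ?_, ?_⟩
  · calc t * x * t * s * (t * x * t)⁻¹ = t * (x * (t * s * t⁻¹) * x⁻¹) * t⁻¹ := by group
      _ = t * (z * s) * t⁻¹ := by rw [hts, hxs]
      _ = (t * z * t⁻¹) * (t * s * t⁻¹) := by group
      _ = z := by rw [htz, hts, mul_assoc, h.right.z_mul_self, mul_one]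
  · obtain ⟨g, hg, hR⟩ := h.conj
    have hk : (t * x * t)⁻¹ * g * z * ((t * x * t)⁻¹ * g)⁻¹ = z := by
      rw [show (t * x * t)⁻¹ * g * z * ((t * x * t)⁻¹ * g)⁻¹ =
        (t * x * t)⁻¹ * (g * z * g⁻¹) * (t * x * t) by group, hg]
      conv_rhs => rw [show z = (t * x * t)⁻¹ * (t * x * t * z * (t * x * t)⁻¹) * (t * x * t) by group]
      rw [e1]
    have hQk := h.left.eq_of_conj (R := Q.map (MulAut.conj ((t * x * t)⁻¹ * g)).toMonoidHom)
      (g := (t * x * t)⁻¹ * g) (by
        have := h.left.conj ((t * x * t)⁻¹ * g)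
        rwa [hk] at this) rfl hk
    conv_rhs => rw [← hQk]
    rw [hR, Subgroup.map_map]
    congr 1
    ext y
    simp [mul_assoc]

theorem z_mem_right (h : Pair Q R z s) : z ∈ R := by
  obtain ⟨k, -, hk, hR⟩ := h.exists_swap
  rw [hR]; exact ⟨s, h.mem, hk⟩

theorem symm (h : Pair Q R z s) : Pair R Q s z := by
  obtain ⟨k, hkz, hks, hR⟩ := h.exists_swap
  refine ⟨h.right, h.left, ⟨k, hks, ?_⟩, h.z_mem_right, h.ne.symm, ?_⟩
  · have hk2 : (k * k) * z * (k * k)⁻¹ = z := by
      rw [show k * k * z * (k * k)⁻¹ = k * (k * z * k⁻¹) * k⁻¹ by group, hkz, hks]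
    have h2 := h.left.conj (k * k)
    rw [hk2] at h2
    rw [hR, Subgroup.map_map]
    refine (h.left.eq_of_conj h2 rfl hk2).symm.trans ?_
    congr 1
    ext y
    simp [mul_assoc]
  · rw [hR, Subgroup.card_map_of_injective (MulAut.conj k).injective]; exact h.card

/-- `Q` is large. -/
theorem large (h : Pair Q R z s) : Cfsg.IsLargeExtraspecial Q :=
  h.left.large_of_involution h.mem h.not_mem h.right.z_mul_self h.right.le_centralizer
    (fun _ hc _ ht => h.right.conj_mem (Subgroup.mem_centralizer_singleton_iff.1 hc) ht)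
    h.right.extraspecial.1.1 h.z_mem_right

theorem fix_z (h : Pair Q R z s) {c : G}
    (hc : c ∈ Subgroup.centralizer (({z, s} : Set G))) : Commute c z ∧ Commute c s :=
  ⟨(Subgroup.mem_centralizer_iff.1 hc z (by simp)).symm,
    (Subgroup.mem_centralizer_iff.1 hc s (by simp)).symm⟩

theorem fixIn_le (h : Pair Q R z s) : fixIn Q s ≤ Subgroup.centralizer ({z, s} : Set G) := by
  intro x hx
  obtain ⟨hxQ, hxs⟩ := mem_fixIn.1 hx
  rw [Subgroup.mem_centralizer_iff]
  intro y hy
  rcases hy with e | e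
  · rw [e]; exact (h.left.z_commute hxQ).eq
  · rw [Set.mem_singleton_iff.1 e]; exact hxs.symm.eq

/-- The group generated by the two centralizers. -/
def base (Q R : Subgroup G) (z s : G) : Subgroup G := fixIn R z ⊔ fixIn Q s

theorem base_le (h : Pair Q R z s) : base Q R z s ≤ Subgroup.centralizer ({z, s} : Set G) := by
  refine sup_le ?_ h.fixIn_le
  rw [Set.pair_comm]; exact h.symm.fixIn_le

theorem fixIn_le_normalizer (h : Pair Q R z s) :
    fixIn R z ≤ Subgroup.normalizer ((fixIn Q s : Subgroup G) : Set G) := by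
  intro c hc
  obtain ⟨hcz, hcs⟩ := h.fix_z (by rw [Set.pair_comm]; exact h.symm.fixIn_le hc)
  rw [Subgroup.mem_normalizer_iff]
  intro x
  constructor
  · intro hx
    obtain ⟨hxQ, hxs⟩ := mem_fixIn.1 hx
    refine mem_fixIn.2 ⟨h.left.conj_mem hcz hxQ, ?_⟩
    have := (Commute.conj_iff c).2 hxs
    rwa [hcs.eq, mul_inv_cancel_right] at this
  · intro hx
    obtain ⟨hxQ, hxs⟩ := mem_fixIn.1 hx
    have h1 := h.left.conj_mem hcz.inv_left hxQ
    have h2 := (Commute.conj_iff c⁻¹).2 hxs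
    rw [hcs.inv_left.eq, inv_inv] at h2
    have e : c⁻¹ * (c * x * c⁻¹) * c⁻¹⁻¹ = x := by group
    rw [e] at h1
    rw [inv_inv] at e
    rw [e, mul_assoc, inv_mul_cancel, mul_one] at h2
    exact mem_fixIn.2 ⟨h1, h2⟩

theorem base_mem (h : Pair Q R z s) {r : G} (hr : r ∈ base Q R z s) :
    ∃ a ∈ fixIn R z, ∃ b ∈ fixIn Q s, a * b = r := by
  have e := Subgroup.coe_mul_of_left_le_normalizer_right (fixIn R z) (fixIn Q s) h.fixIn_le_normalizer
  have hr' : r ∈ ((fixIn R z : Subgroup G) : Set G) * ((fixIn Q s : Subgroup G) : Set G) := by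
    rw [← e]; exact hr
  exact Set.mem_mul.1 hr'

theorem isPGroup_base (h : Pair Q R z s) : IsPGroup 2 (base Q R z s) :=
  (h.right.extraspecial.1.1.to_le inf_le_left).to_sup_of_normal_right'
    (h.left.extraspecial.1.1.to_le inf_le_left) h.fixIn_le_normalizer

end Pair

end Cfsg.Agent.LargeExtraspecial
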