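import Cfsg.Agent.Lib.LargeExtraspecial.Pair

/-!
# The subgroup generated by two large extraspecial subgroups

Modulo `base`, the group `Q ⊔ R` is the symmetric group of degree 3, acting on the three involutions
of `V = ⟨z, s⟩`.
-/

set_option autoImplicit false

namespace Cfsg.Agent.LargeExtraspecial

variable {G : Type*} [Group G]

namespace Pair

variable {Q R : Subgroup G} {z s : G}

/-- The four-group. -/
def four (z s : G) : Subgroup G := Subgroup.closure ({z, s} : Set G)

/-- The three involutions of the four-group. -/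
def pts (z s : G) : Fin 3 → G := ![z, s, z * s]

theorem centralizer_four (z s : G) :
    Subgroup.centralizer ((four z s : Subgroup G) : Set G) = Subgroup.centralizer ({z, s} : Set G) := by
  rw [four, Subgroup.centralizer_closure]

theorem mem_pair {c : G} :
    c ∈ Subgroup.centralizer ({z, s} : Set G) ↔ Commute c z ∧ Commute c s := by
  refine ⟨fun hc => ⟨(Subgroup.mem_centralizer_iff.1 hc z (by simp)).symm,
    (Subgroup.mem_centralizer_iff.1 hc s (by simp)).symm⟩, fun ⟨h1, h2⟩ => ?_⟩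
  rw [Subgroup.mem_centralizer_iff]
  intro y hy
  rcases hy with e | e
  · rw [e]; exact h1.symm.eq
  · rw [Set.mem_singleton_iff.1 e]; exact h2.symm.eq

variable [Finite G]

theorem mem_four (h : Pair Q R z s) {v : G} (hv : v ∈ four z s) :
    v = 1 ∨ ∃ i, pts z s i = v := by
  have hz := h.left.z_mul_self
  have hs := h.right.z_mul_self
  let V : Subgroup G :=
    { carrier := {v | v = 1 ∨ v = z ∨ v = s ∨ v = z * s}
      one_mem' := Or.inl rfl
      mul_mem' := by
        intro a b ha hb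
        have e1 : s * z = z * s := h.comm.eq.symm
        have e2 : z * (z * s) = s := by rw [← mul_assoc, hz, one_mul]
        have e3 : s * (z * s) = z := by rw [← mul_assoc, e1, mul_assoc, hs, mul_one]
        have e4 : z * s * z = s := by rw [mul_assoc, e1, e2]
        have e5 : z * s * s = z := by rw [mul_assoc, hs, mul_one]
        have e6 : z * s * (z * s) = 1 := by rw [← mul_assoc, e4, hs]
        rcases ha with rfl | rfl | rfl | rfl <;> rcases hb with rfl | rfl | rfl | rfl <;>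
          simp [Set.mem_setOf_eq, hz, hs, e1, e2, e3, e4, e5, e6]
      inv_mem' := by
        intro a ha
        rcases ha with rfl | rfl | rfl | rfl <;>
          simp [h.left.z_inv, h.right.z_inv, mul_inv_rev, h.comm.eq] }
  have hle : four z s ≤ V := (Subgroup.closure_le _).2 fun y hy => by
    rcases hy with e | e
    · exact Or.inr (Or.inl e)
    · exact Or.inr (Or.inr (Or.inl e))
  rcases hle hv with e | e | e | e
  · exact Or.inl e
  · exact Or.inr ⟨0, e.symm⟩
  · exact Or.inr ⟨1, e.symm⟩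
  · exact Or.inr ⟨2, e.symm⟩

omit [Finite G] in
theorem pts_mem (i : Fin 3) : pts z s i ∈ four z s := by
  have h1 : z ∈ four z s := Subgroup.subset_closure (Or.inl rfl)
  have h2 : s ∈ four z s := Subgroup.subset_closure (Or.inr rfl)
  fin_cases i
  · exact h1
  · exact h2
  · exact mul_mem h1 h2

theorem pts_ne_one (h : Pair Q R z s) (i : Fin 3) : pts z s i ≠ 1 := by
  fin_cases i
  · exact h.left.z_ne_one
  · exact h.right.z_ne_one
  · intro e
    have e' : z * s = 1 := e
    rw [mul_eq_one_iff_eq_inv, h.right.z_inv] at e'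
    exact h.ne e'.symm

theorem pts_injective (h : Pair Q R z s) : Function.Injective (pts z s) := by
  intro i j e
  have h1 : z ≠ s := h.ne.symm
  have h2 : z ≠ z * s := fun e => h.right.z_ne_one (by simpa using e.symm)
  have h3 : s ≠ z * s := fun e => h.left.z_ne_one (by simpa using e.symm)
  fin_cases i <;> fin_cases j <;> simp [pts, h1, h2, h3, h1.symm, h2.symm, h3.symm] at e ⊢

theorem exists_perm (h : Pair Q R z s) (y : Subgroup.normalizer ((four z s : Subgroup G) : Set G))
    (i : Fin 3) : ∃ j, pts z s j = (y : G) * pts z s i * (y : G)⁻¹ := by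
  rcases h.mem_four ((Subgroup.mem_normalizer_iff.1 y.2 _).1 (pts_mem i)) with e | e
  · exact absurd (conj_eq_one_iff.1 e) (h.pts_ne_one i)
  · exact e

/-- The action of the normalizer of the four-group on its involutions. -/
noncomputable def perm (h : Pair Q R z s) :
    Subgroup.normalizer ((four z s : Subgroup G) : Set G) →* Equiv.Perm (Fin 3) :=
  MonoidHom.toHomPerm
    { toFun := fun y i => (h.exists_perm y i).choose
      map_one' := funext fun i => h.pts_injective (by
        rw [(h.exists_perm 1 i).choose_spec, Subgroup.coe_one, one_mul, inv_one, mul_one]; rfl)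
      map_mul' := fun y y' => funext fun i => h.pts_injective (by
        show pts z s _ = pts z s ((h.exists_perm y _).choose)
        rw [(h.exists_perm (y * y') i).choose_spec, (h.exists_perm y _).choose_spec,
          (h.exists_perm y' i).choose_spec]
        push_cast
        group) }
where
  MonoidHom.toHomPerm {M : Type _} [Group M] {α : Type _} (f : M →* Function.End α) :
      M →* Equiv.Perm α := f.toHomPerm

theorem perm_spec (h : Pair Q R z s) (y : Subgroup.normalizer ((four z s : Subgroup G) : Set G))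
    (i : Fin 3) : pts z s (h.perm y i) = (y : G) * pts z s i * (y : G)⁻¹ :=
  (h.exists_perm y i).choose_spec

theorem perm_eq_one_iff (h : Pair Q R z s) (y : Subgroup.normalizer ((four z s : Subgroup G) : Set G)) :
    h.perm y = 1 ↔ (y : G) ∈ Subgroup.centralizer ({z, s} : Set G) := by
  rw [mem_pair]
  constructor
  · intro e
    have h0 := h.perm_spec y 0
    have h1 := h.perm_spec y 1
    rw [e] at h0 h1
    exact ⟨(eq_mul_inv_iff_mul_eq.1 h0).symm, (eq_mul_inv_iff_mul_eq.1 h1).symm⟩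
  · rintro ⟨h1, h2⟩
    ext1 i
    apply h.pts_injective
    rw [h.perm_spec]
    show _ = pts z s i
    have : Commute (y : G) (pts z s i) := by
      fin_cases i
      · exact h1
      · exact h2
      · exact h1.mul_right h2
    rw [this.eq, mul_inv_cancel_right]

theorem left_le_normalizer (h : Pair Q R z s) :
    Q ≤ Subgroup.normalizer ((four z s : Subgroup G) : Set G) := by
  intro x hx
  have key : ∀ w ∈ Q, ∀ v ∈ four z s, w * v * w⁻¹ ∈ four z s := by
    intro w hw v hv
    have hz : z ∈ four z s := Subgroup.subset_closure (Or.inl rfl)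
    have hs : s ∈ four z s := Subgroup.subset_closure (Or.inr rfl)
    have hle : four z s ≤ (four z s).comap (MulAut.conj w).toMonoidHom := by
      conv_lhs => rw [four]
      rw [Subgroup.closure_le]
      intro y hy
      show w * y * w⁻¹ ∈ four z s
      rcases hy with e | e
      · rw [e, ← (h.left.z_commute hw).eq, mul_inv_cancel_right]; exact hz
      · rw [Set.mem_singleton_iff.1 e]
        rcases h.left.conj_cases hw h.mem with e' | e' <;> rw [e']
        · exact hs
        · exact mul_mem hz hs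
    exact hle hv
  rw [Subgroup.mem_normalizer_iff]
  refine fun v => ⟨key x hx v, fun hv => ?_⟩
  have := key x⁻¹ (inv_mem hx) _ hv
  simpa [mul_assoc] using this

omit [Finite G] in
theorem four_comm (z s : G) : four s z = four z s := by rw [four, four, Set.pair_comm]

theorem join_le_normalizer (h : Pair Q R z s) :
    Q ⊔ R ≤ Subgroup.normalizer ((four z s : Subgroup G) : Set G) := by
  refine sup_le h.left_le_normalizer ?_
  have := h.symm.left_le_normalizer
  rwa [four_comm] at this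

theorem exists_frame (h : Pair Q R z s) :
    ∃ x ∈ Q, ∃ t ∈ R, x * s * x⁻¹ = z * s ∧ t * z * t⁻¹ = z * s := by
  obtain ⟨t, ht, e⟩ := h.exists_moving_right
  obtain ⟨x, hx, e'⟩ := h.left.exists_moving h.mem h.not_mem
  exact ⟨x, hx, t, ht, e', e⟩

theorem perm_frame (h : Pair Q R z s) {x t : G} (hx : x ∈ Q) (ht : t ∈ R)
    (hxs : x * s * x⁻¹ = z * s) (htz : t * z * t⁻¹ = z * s)
    (hx' : x ∈ Subgroup.normalizer ((four z s : Subgroup G) : Set G))
    (ht' : t ∈ Subgroup.normalizer ((four z s : Subgroup G) : Set G)) :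
    h.perm ⟨x, hx'⟩ = Equiv.swap 1 2 ∧ h.perm ⟨t, ht'⟩ = Equiv.swap 0 2 := by
  have hxz : x * z * x⁻¹ = z := by rw [← (h.left.z_commute hx).eq, mul_inv_cancel_right]
  have hts : t * s * t⁻¹ = s := by rw [← (h.right.z_commute ht).eq, mul_inv_cancel_right]
  constructor <;> ext1 i <;> apply h.pts_injective <;> rw [h.perm_spec] <;> fin_cases i <;>
    simp only [pts, Equiv.swap_apply_def, Fin.mk_one, Fin.zero_eta, Fin.reduceFinMk,
      Matrix.cons_val_zero, Matrix.cons_val_one, Matrix.cons_val_two, Matrix.head_cons,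
      Matrix.tail_cons, Fin.reduceEq, if_false, if_true, one_ne_zero, zero_ne_one]
  · exact hxz
  · exact hxs
  · rw [show x * (z * s) * x⁻¹ = (x * z * x⁻¹) * (x * s * x⁻¹) by group, hxz, hxs, ← mul_assoc,
      h.left.z_mul_self, one_mul]
  · exact htz
  · exact hts
  · rw [show t * (z * s) * t⁻¹ = (t * z * t⁻¹) * (t * s * t⁻¹) by group, htz, hts, mul_assoc,
      h.right.z_mul_self, mul_one]

theorem perm_join_surjective (h : Pair Q R z s) (σ : Equiv.Perm (Fin 3)) :
    ∃ y : Subgroup.normalizer ((four z s : Subgroup G) : Set G), (y : G) ∈ Q ⊔ R ∧ h.perm y = σ := by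
  obtain ⟨x, hx, t, ht, hxs, htz⟩ := h.exists_frame
  have hxX : x ∈ Q ⊔ R := Subgroup.mem_sup_left hx
  have htX : t ∈ Q ⊔ R := Subgroup.mem_sup_right ht
  let X : Subgroup.normalizer ((four z s : Subgroup G) : Set G) := ⟨x, h.join_le_normalizer hxX⟩
  let T : Subgroup.normalizer ((four z s : Subgroup G) : Set G) := ⟨t, h.join_le_normalizer htX⟩
  obtain ⟨e1, e2⟩ := h.perm_frame hx ht hxs htz X.2 T.2
  have all : ∀ σ : Equiv.Perm (Fin 3), σ = 1 ∨ σ = Equiv.swap 1 2 ∨ σ = Equiv.swap 0 2 ∨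
      σ = Equiv.swap 1 2 * Equiv.swap 0 2 ∨ σ = Equiv.swap 0 2 * Equiv.swap 1 2 ∨
      σ = Equiv.swap 1 2 * Equiv.swap 0 2 * Equiv.swap 1 2 := by decide
  rcases all σ with e | e | e | e | e | e <;> subst e
  · exact ⟨1, one_mem _, map_one _⟩
  · exact ⟨X, hxX, e1⟩
  · exact ⟨T, htX, e2⟩
  · exact ⟨X * T, mul_mem hxX htX, by rw [map_mul, e1, e2]⟩
  · exact ⟨T * X, mul_mem htX hxX, by rw [map_mul, e1, e2]⟩
  · exact ⟨X * T * X, mul_mem (mul_mem hxX htX) hxX, by rw [map_mul, map_mul, e1, e2]⟩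

theorem relIndex_four (h : Pair Q R z s) :
    (Subgroup.centralizer ((four z s : Subgroup G) : Set G)).relIndex
      (Subgroup.normalizer ((four z s : Subgroup G) : Set G)) = 6 := by
  have hker : h.perm.ker = (Subgroup.centralizer ((four z s : Subgroup G) : Set G)).subgroupOf
      (Subgroup.normalizer ((four z s : Subgroup G) : Set G)) := by
    ext y
    rw [MonoidHom.mem_ker, h.perm_eq_one_iff, Subgroup.mem_subgroupOf, centralizer_four]
  rw [Subgroup.relIndex, ← hker, Subgroup.index_ker, MonoidHom.range_eq_top.2 fun σ => by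
    obtain ⟨y, -, e⟩ := h.perm_join_surjective σ; exact ⟨y, e⟩,
    Subgroup.card_top, Nat.card_eq_fintype_card, Fintype.card_perm, Fintype.card_fin]
  rfl

theorem left_normalizes_base (h : Pair Q R z s) {x r : G} (hx : x ∈ Q) (hr : r ∈ base Q R z s) :
    x * r * x⁻¹ ∈ base Q R z s := by
  obtain ⟨a, ha, b, hb, rfl⟩ := h.base_mem hr
  have hin : ∀ y ∈ Subgroup.centralizer ({z, s} : Set G),
      x * y * x⁻¹ ∈ Subgroup.centralizer ({z, s} : Set G) := by
    intro y hy
    rw [← centralizer_four] at hy ⊢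
    rw [Subgroup.mem_centralizer_iff] at hy ⊢
    intro v hv
    have hv' : x⁻¹ * v * x ∈ four z s := by
      have := (Subgroup.mem_normalizer_iff.1 (inv_mem (h.left_le_normalizer hx)) v).1 hv
      rwa [inv_inv] at this
    calc v * (x * y * x⁻¹) = x * (x⁻¹ * v * x * y) * x⁻¹ := by group
      _ = x * (y * (x⁻¹ * v * x)) * x⁻¹ := by rw [hy _ hv']
      _ = x * y * x⁻¹ * v := by group
  have hfixQ : ∀ q, q ∈ Q → q ∈ Subgroup.centralizer ({z, s} : Set G) → q ∈ fixIn Q s :=
    fun q hq hc => mem_fixIn.2 ⟨hq, (mem_pair.1 hc).2⟩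
  obtain ⟨hbQ, hbs⟩ := mem_fixIn.1 hb
  have h1 : x * b * x⁻¹ ∈ fixIn Q s :=
    hfixQ _ (mul_mem (mul_mem hx hbQ) (inv_mem hx)) (hin b (h.fixIn_le hb))
  have haC : a ∈ Subgroup.centralizer ({z, s} : Set G) := h.base_le (Subgroup.mem_sup_left ha)
  have h2 : x * a * x⁻¹ * a⁻¹ ∈ fixIn Q s := by
    refine hfixQ _ ?_ (mul_mem (hin a haC) (inv_mem haC))
    rw [show x * a * x⁻¹ * a⁻¹ = x * (a * x⁻¹ * a⁻¹) by group]
    exact mul_mem hx (h.left.conj_mem (mem_pair.1 haC).1 (inv_mem hx))
  rw [show x * (a * b) * x⁻¹ = (x * a * x⁻¹ * a⁻¹) * a * (x * b * x⁻¹) by group]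
  exact mul_mem (mul_mem (Subgroup.mem_sup_right h2) (Subgroup.mem_sup_left ha))
    (Subgroup.mem_sup_right h1)

omit [Finite G] in
theorem base_comm (Q R : Subgroup G) (z s : G) : base R Q s z = base Q R z s := sup_comm _ _

theorem join_normalizes_base (h : Pair Q R z s) {y r : G} (hy : y ∈ Q ⊔ R) (hr : r ∈ base Q R z s) :
    y * r * y⁻¹ ∈ base Q R z s := by
  revert r
  rw [sup_eq_closure] at hy
  induction hy using Subgroup.closure_induction'' with
  | one => intro r hr; simpa using hr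
  | mem y hy =>
    intro r hr
    rcases hy with hy | hy
    · exact h.left_normalizes_base hy hr
    · rw [← base_comm] at hr ⊢; exact h.symm.left_normalizes_base hy hr
  | inv_mem y hy =>
    intro r hr
    rcases hy with hy | hy
    · exact h.left_normalizes_base (inv_mem hy) hr
    · rw [← base_comm] at hr ⊢; exact h.symm.left_normalizes_base (inv_mem hy) hr
  | mul a b _ _ iha ihb =>
    intro r hr
    rw [show a * b * r * (a * b)⁻¹ = a * (b * r * b⁻¹) * a⁻¹ by group]
    exact iha (ihb hr)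
where
  sup_eq_closure {H K : Subgroup G} : H ⊔ K = Subgroup.closure ((H : Set G) ∪ K) := by
    rw [Subgroup.closure_union, Subgroup.closure_eq, Subgroup.closure_eq]

theorem braid_mod_base (h : Pair Q R z s) {x t : G} (hx : x ∈ Q) (ht : t ∈ R)
    (hxs : x * s * x⁻¹ = z * s) (htz : t * z * t⁻¹ = z * s) :
    (x * t * x⁻¹)⁻¹ * (t * x * t⁻¹) ∈ base Q R z s := by
  obtain ⟨k, hk, -, hR⟩ := h.exists_swap
  have hsetx : Setup (R.map (MulAut.conj x).toMonoidHom) (z * s) := hxs ▸ h.right.conj x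
  have hsett : Setup (Q.map (MulAut.conj t).toMonoidHom) (z * s) := htz ▸ h.left.conj t
  have heq : R.map (MulAut.conj x).toMonoidHom = Q.map (MulAut.conj t).toMonoidHom := by
    refine hsett.eq_of_conj hsetx (g := x * k * t⁻¹) ?_ ?_
    · rw [hR, Subgroup.map_map, Subgroup.map_map]
      congr 1
      ext y
      simp [mul_assoc]
    · rw [show x * k * t⁻¹ * (z * s) * (x * k * t⁻¹)⁻¹ = x * (k * (t⁻¹ * (z * s) * t) * k⁻¹) * x⁻¹ by
        group]
      conv_lhs => rw [← htz]
      rw [show t⁻¹ * (t * z * t⁻¹) * t = z by group, hk, hxs]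
  have hxz : x * z * x⁻¹ = z := by rw [← (h.left.z_commute hx).eq, mul_inv_cancel_right]
  have hts : t * s * t⁻¹ = s := by rw [← (h.right.z_commute ht).eq, mul_inv_cancel_right]
  set e := (x * t * x⁻¹)⁻¹ * (t * x * t⁻¹) with he
  have heR : e ∈ R.map (MulAut.conj x).toMonoidHom := by
    refine mul_mem (inv_mem ⟨t, ht, rfl⟩) ?_
    rw [heq]; exact ⟨x, hx, rfl⟩
  have hxinv : x⁻¹ * z * x = z := by
    conv_lhs => rw [← hxz]
    group
  have htinv : t⁻¹ * z * t = z * s := by
    have ht2 : Commute (t * t) z := by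
      rcases h.right.zpowers_cases (h.right.sq_mem ht) with e | e <;> rw [e]
      · exact Commute.one_left z
      · exact h.comm.symm
    rw [← htz]
    calc t⁻¹ * z * t = t⁻¹ * (z * (t * t)) * t⁻¹ := by group
      _ = t⁻¹ * (t * t * z) * t⁻¹ := by rw [ht2.eq]
      _ = _ := by group
  have h1 : t * x * t⁻¹ * z * (t * x * t⁻¹)⁻¹ = s := by
    calc t * x * t⁻¹ * z * (t * x * t⁻¹)⁻¹ = t * (x * (t⁻¹ * z * t) * x⁻¹) * t⁻¹ := by group
      _ = t * ((x * z * x⁻¹) * (x * s * x⁻¹)) * t⁻¹ := by rw [htinv]; group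
      _ = s := by rw [hxz, hxs, ← mul_assoc z z s, h.left.z_mul_self, one_mul, hts]
  have h2 : x * t * x⁻¹ * z * (x * t * x⁻¹)⁻¹ = s := by
    calc x * t * x⁻¹ * z * (x * t * x⁻¹)⁻¹ = x * (t * (x⁻¹ * z * x) * t⁻¹) * x⁻¹ := by group
      _ = (x * z * x⁻¹) * (x * s * x⁻¹) := by rw [hxinv, htz]; group
      _ = s := by rw [hxz, hxs, ← mul_assoc, h.left.z_mul_self, one_mul]
  have hez : Commute e z := by
    refine mul_inv_eq_iff_eq_mul.1 ?_
    calc e * z * e⁻¹ =
          (x * t * x⁻¹)⁻¹ * (t * x * t⁻¹ * z * (t * x * t⁻¹)⁻¹) * (x * t * x⁻¹) := by rw [he]; group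
      _ = (x * t * x⁻¹)⁻¹ * (x * t * x⁻¹ * z * (x * t * x⁻¹)⁻¹) * (x * t * x⁻¹) := by rw [h1, h2]
      _ = z := by group
  obtain ⟨r, hr, hre⟩ := heR
  have hre' : x * r * x⁻¹ = e := hre
  rw [← hre']
  refine h.join_normalizes_base (Subgroup.mem_sup_left hx)
    (Subgroup.mem_sup_left (mem_fixIn.2 ⟨hr, ?_⟩))
  rw [← hre'] at hez
  rw [← Commute.conj_iff x, hxz]
  exact hez

theorem join_inf_centralizer (h : Pair Q R z s) :
    (Q ⊔ R) ⊓ Subgroup.centralizer ({z, s} : Set G) = base Q R z s := by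
  refine le_antisymm ?_ (le_inf (sup_le (inf_le_left.trans le_sup_right) (inf_le_left.trans le_sup_left))
    h.base_le)
  rintro y ⟨hy, hyC⟩
  obtain ⟨x, hx, t, ht, hxs, htz⟩ := h.exists_frame
  have hxX : x ∈ Q ⊔ R := Subgroup.mem_sup_left hx
  have htX : t ∈ Q ⊔ R := Subgroup.mem_sup_right ht
  set B := base Q R z s with hB
  let reps : List G := [1, x, t, x * t, t * x, x * t * x]
  have conjB : ∀ u ∈ Q ⊔ R, ∀ r ∈ B, u * r * u⁻¹ ∈ B := fun u hu r hr =>
    h.join_normalizes_base hu hr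
  -- closure under left multiplication by `x` and `t`
  have hsqx : x * x ∈ B := Subgroup.mem_sup_right (mem_fixIn.2 ⟨mul_mem hx hx, by
    rcases h.left.zpowers_cases (h.left.sq_mem hx) with e | e <;> rw [e]
    · exact Commute.one_left s
    · exact h.comm⟩)
  have hsqt : t * t ∈ B := Subgroup.mem_sup_left (mem_fixIn.2 ⟨mul_mem ht ht, by
    rcases h.right.zpowers_cases (h.right.sq_mem ht) with e | e <;> rw [e]
    · exact Commute.one_left z
    · exact h.comm.symm⟩)
  have hbr : t * x * t * (x * t * x)⁻¹ ∈ B := by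
    have h1 := h.braid_mod_base hx ht hxs htz
    set e := (x * t * x⁻¹)⁻¹ * (t * x * t⁻¹) with he
    have : t * x * t * (x * t * x)⁻¹ = (x * t * x⁻¹) * e * (x * t * x⁻¹)⁻¹ *
        ((x * t * x⁻¹) * (t * t) * (x * t * x⁻¹)⁻¹) *
        ((x * t) * (x * x)⁻¹ * (x * t)⁻¹) := by rw [he]; group
    rw [this]
    exact mul_mem (mul_mem (conjB _ (mul_mem (mul_mem hxX htX) (inv_mem hxX)) _ h1)
      (conjB _ (mul_mem (mul_mem hxX htX) (inv_mem hxX)) _ hsqt))
      (conjB _ (mul_mem hxX htX) _ (inv_mem hsqx))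
  have step : ∀ g, (g = x ∨ g = t) → ∀ u ∈ reps, ∃ r ∈ B, ∃ v ∈ reps, g * u = r * v := by
    intro g hg u hu
    simp only [reps, List.mem_cons, List.not_mem_nil, or_false] at hu
    rcases hg with hg | hg <;> rw [hg]
    · rcases hu with e | e | e | e | e | e <;> rw [e]
      · exact ⟨1, one_mem B, x, by simp [reps], by simp⟩
      · exact ⟨x * x, hsqx, 1, by simp [reps], by simp⟩
      · exact ⟨1, one_mem B, x * t, by simp [reps], by simp⟩
      · exact ⟨x * x, hsqx, t, by simp [reps], by simp only [mul_assoc]⟩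
      · exact ⟨1, one_mem B, x * t * x, by simp [reps], by simp [mul_assoc]⟩
      · exact ⟨x * x, hsqx, t * x, by simp [reps], by simp only [mul_assoc]⟩
    · rcases hu with e | e | e | e | e | e <;> rw [e]
      · exact ⟨1, one_mem B, t, by simp [reps], by simp⟩
      · exact ⟨1, one_mem B, t * x, by simp [reps], by simp⟩
      · exact ⟨t * t, hsqt, 1, by simp [reps], by simp⟩
      · exact ⟨_, hbr, x * t * x, by simp [reps], by group⟩
      · exact ⟨t * t, hsqt, x, by simp [reps], by simp only [mul_assoc]⟩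
      · refine ⟨t * x * t * (x * t * x)⁻¹ * ((x * t) * (x * x) * (x * t)⁻¹),
          mul_mem hbr (conjB _ (mul_mem hxX htX) _ hsqx), x * t, by simp [reps], by group⟩
  have gen : ∀ g ∈ (Q : Set G) ∪ R, ∃ r ∈ B, g = r ∨ ∃ u, (u = x ∨ u = t) ∧ g = r * u := by
    rintro g (hg | hg)
    · rcases h.left.conj_cases hg h.mem with e | e
      · exact ⟨g, Subgroup.mem_sup_right (mem_fixIn.2 ⟨hg, mul_inv_eq_iff_eq_mul.1 e⟩), Or.inl rfl⟩
      · refine ⟨g * x⁻¹, Subgroup.mem_sup_right (mem_fixIn.2 ⟨mul_mem hg (inv_mem hx),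
          mul_inv_eq_iff_eq_mul.1 ?_⟩), Or.inr ⟨x, Or.inl rfl, by simp⟩⟩
        have hxs' : x⁻¹ * s * x = z * s := by
          calc x⁻¹ * s * x = x⁻¹ * (z * (z * s)) * x := by
                rw [← mul_assoc z z s, h.left.z_mul_self, one_mul]
            _ = x⁻¹ * (z * (x * s * x⁻¹)) * x := by rw [hxs]
            _ = x⁻¹ * (x * z * x⁻¹ * (x * s * x⁻¹)) * x := by
                rw [← (h.left.z_commute hx).eq, mul_inv_cancel_right]
            _ = z * s := by group
        calc g * x⁻¹ * s * (g * x⁻¹)⁻¹ = g * (x⁻¹ * s * x) * g⁻¹ := by group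
          _ = (g * z * g⁻¹) * (g * s * g⁻¹) := by rw [hxs']; group
          _ = s := by
              rw [← (h.left.z_commute hg).eq, mul_inv_cancel_right, e, ← mul_assoc,
                h.left.z_mul_self, one_mul]
    · rcases h.right.conj_cases hg h.z_mem_right with e | e
      · exact ⟨g, Subgroup.mem_sup_left (mem_fixIn.2 ⟨hg, mul_inv_eq_iff_eq_mul.1 e⟩), Or.inl rfl⟩
      · refine ⟨g * t⁻¹, Subgroup.mem_sup_left (mem_fixIn.2 ⟨mul_mem hg (inv_mem ht),
          mul_inv_eq_iff_eq_mul.1 ?_⟩), Or.inr ⟨t, Or.inr rfl, by simp⟩⟩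
        have hts : t * s * t⁻¹ = s := by rw [← (h.right.z_commute ht).eq, mul_inv_cancel_right]
        have htz' : t⁻¹ * z * t = s * z := by
          calc t⁻¹ * z * t = t⁻¹ * (z * (s * s)) * t := by rw [h.right.z_mul_self, mul_one]
            _ = t⁻¹ * (z * s * s) * t := by rw [← mul_assoc z s s]
            _ = t⁻¹ * (t * z * t⁻¹ * (t * s * t⁻¹)) * t := by rw [htz, hts]
            _ = z * s := by group
            _ = s * z := h.comm.eq
        calc g * t⁻¹ * z * (g * t⁻¹)⁻¹ = g * (t⁻¹ * z * t) * g⁻¹ := by group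
          _ = (g * s * g⁻¹) * (g * z * g⁻¹) := by rw [htz']; group
          _ = z := by
              rw [← (h.right.z_commute hg).eq, mul_inv_cancel_right, e, ← mul_assoc,
                h.right.z_mul_self, one_mul]
  have cover : ∃ r ∈ B, ∃ u ∈ reps, y = r * u := by
    rw [join_normalizes_base.sup_eq_closure] at hy
    have hy' : y ∈ Submonoid.closure ((Q : Set G) ∪ R) := by
      rw [← Subgroup.closure_toSubmonoid_of_finite]; exact hy
    clear hyC hy
    induction hy' using Submonoid.closure_induction_left with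
    | one => exact ⟨1, one_mem B, 1, by simp [reps], by simp⟩
    | mul_left g hg y' _ ih =>
      obtain ⟨r', hr', u', hu', rfl⟩ := ih
      obtain ⟨r, hr, e | ⟨w, hw, e⟩⟩ := gen g hg
      · exact ⟨r * r', mul_mem hr hr', u', hu', by rw [e, mul_assoc]⟩
      · obtain ⟨r'', hr'', v, hv, e'⟩ := step w hw u' hu'
        have hwX : w ∈ Q ⊔ R := by rcases hw with e'' | e'' <;> rw [e''] <;> assumption
        refine ⟨r * (w * r' * w⁻¹) * r'', mul_mem (mul_mem hr (conjB w hwX r' hr')) hr'', v, hv, ?_⟩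
        rw [e, show r * w * (r' * u') = r * (w * r' * w⁻¹) * (w * u') by group, e']
        simp only [mul_assoc]
  obtain ⟨r, hr, u, hu, rfl⟩ := cover
  have huX : u ∈ Q ⊔ R := by
    simp only [reps, List.mem_cons, List.not_mem_nil, or_false] at hu
    rcases hu with rfl | rfl | rfl | rfl | rfl | rfl
    exacts [one_mem _, hxX, htX, mul_mem hxX htX, mul_mem htX hxX, mul_mem (mul_mem hxX htX) hxX]
  have huC : u ∈ Subgroup.centralizer ({z, s} : Set G) := by
    have := mul_mem (inv_mem (h.base_le hr)) hyC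
    rwa [inv_mul_cancel_left] at this
  obtain ⟨e1, e2⟩ := h.perm_frame hx ht hxs htz (h.join_le_normalizer hxX) (h.join_le_normalizer htX)
  set X' : Subgroup.normalizer ((four z s : Subgroup G) : Set G) := ⟨x, h.join_le_normalizer hxX⟩
  set T' : Subgroup.normalizer ((four z s : Subgroup G) : Set G) := ⟨t, h.join_le_normalizer htX⟩
  simp only [reps, List.mem_cons, List.not_mem_nil, or_false] at hu
  have bad : ∀ (v : Subgroup.normalizer ((four z s : Subgroup G) : Set G)), (v : G) = u →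
      h.perm v ≠ 1 → False := fun v hv hne =>
    hne ((h.perm_eq_one_iff v).2 (hv ▸ huC))
  rcases hu with e | e | e | e | e | e
  · rw [e, mul_one]; exact hr
  · exact (bad X' e.symm (by rw [e1]; decide)).elim
  · exact (bad T' e.symm (by rw [e2]; decide)).elim
  · exact (bad (X' * T') e.symm (by rw [map_mul, e1, e2]; decide)).elim
  · exact (bad (T' * X') e.symm (by rw [map_mul, e1, e2]; decide)).elim
  · exact (bad (X' * T' * X') e.symm (by rw [map_mul, map_mul, e1, e2]; decide)).elim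

theorem normalizer_four (h : Pair Q R z s) :
    Subgroup.normalizer ((four z s : Subgroup G) : Set G) =
      (Q ⊔ R) ⊔ Subgroup.centralizer ({z, s} : Set G) := by
  refine le_antisymm (fun y hy => ?_) (sup_le h.join_le_normalizer ?_)
  · obtain ⟨u, hu, e⟩ := h.perm_join_surjective (h.perm ⟨y, hy⟩)
    have hc : (u : G)⁻¹ * y ∈ Subgroup.centralizer ({z, s} : Set G) :=
      (h.perm_eq_one_iff (u⁻¹ * ⟨y, hy⟩)).1 (by rw [map_mul, map_inv, e, inv_mul_cancel])
    have := mul_mem (Subgroup.mem_sup_left (T := Subgroup.centralizer ({z, s} : Set G)) hu)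
      (Subgroup.mem_sup_right hc)
    rwa [mul_inv_cancel_left] at this
  · rw [← centralizer_four]
    exact Subgroup.centralizer_le_normalizer _

theorem centralizer_conj (h : Pair Q R z s) {c : G} (hc : c ∈ Subgroup.centralizer ({z, s} : Set G))
    {x : G} (hx : x ∈ Q ⊔ R) : c * x * c⁻¹ ∈ Q ⊔ R := by
  have hle : Q ⊔ R ≤ (Q ⊔ R).comap (MulAut.conj c).toMonoidHom := sup_le
    (fun q hq => Subgroup.mem_sup_left (h.left.conj_mem (mem_pair.1 hc).1 hq))
    (fun q hq => Subgroup.mem_sup_right (h.right.conj_mem (mem_pair.1 hc).2 hq))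
  exact hle hx

theorem normalizer_four_conj (h : Pair Q R z s) {y : G}
    (hy : y ∈ Subgroup.normalizer ((four z s : Subgroup G) : Set G)) {x : G} (hx : x ∈ Q ⊔ R) :
    y * x * y⁻¹ ∈ Q ⊔ R := by
  obtain ⟨u, hu, e⟩ := h.perm_join_surjective (h.perm ⟨y, hy⟩)
  have hc : (u : G)⁻¹ * y ∈ Subgroup.centralizer ({z, s} : Set G) :=
    (h.perm_eq_one_iff (u⁻¹ * ⟨y, hy⟩)).1 (by rw [map_mul, map_inv, e, inv_mul_cancel])
  have h1 := h.centralizer_conj hc hx
  have h2 := mul_mem (mul_mem hu h1) (inv_mem hu)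
  rwa [show (u : G) * ((u : G)⁻¹ * y * x * ((u : G)⁻¹ * y)⁻¹) * (u : G)⁻¹ = y * x * y⁻¹ by group] at h2

theorem commutator_mem_base (h : Pair Q R z s) {x : G} (hx : x ∈ Q ⊔ R) {c : G}
    (hc : c ∈ Subgroup.centralizer ({z, s} : Set G)) : x * c * x⁻¹ * c⁻¹ ∈ base Q R z s := by
  rw [← h.join_inf_centralizer]
  refine Subgroup.mem_inf.2 ⟨?_, ?_⟩
  · rw [show x * c * x⁻¹ * c⁻¹ = x * (c * x⁻¹ * c⁻¹) by group]
    exact mul_mem hx (h.centralizer_conj hc (inv_mem hx))
  · refine mul_mem ?_ (inv_mem hc)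
    rw [← centralizer_four] at hc ⊢
    rw [Subgroup.mem_centralizer_iff] at hc ⊢
    intro v hv
    have hv' : x⁻¹ * v * x ∈ four z s := by
      have := (Subgroup.mem_normalizer_iff.1 (inv_mem (h.join_le_normalizer hx)) v).1 hv
      rwa [inv_inv] at this
    calc v * (x * c * x⁻¹) = x * (x⁻¹ * v * x * c) * x⁻¹ := by group
      _ = x * (c * (x⁻¹ * v * x)) * x⁻¹ := by rw [hc _ hv']
      _ = x * c * x⁻¹ * v := by group

/-- `(Q ⊔ R) / base` is the symmetric group of degree 3 and `base` is the 2-core. -/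
theorem join_quotient (h : Pair Q R z s) :
    (∃ hn : ((base Q R z s).subgroupOf (Q ⊔ R)).Normal,
      Nonempty (↥(Q ⊔ R) ⧸ (base Q R z s).subgroupOf (Q ⊔ R) ≃* Equiv.Perm (Fin 3))) ∧
    base Q R z s = (Cfsg.pCore 2 ↥(Q ⊔ R)).map (Q ⊔ R).subtype := by
  haveI : Fact (Nat.Prime 2) := ⟨Nat.prime_two⟩
  let ψ : ↥(Q ⊔ R) →* Equiv.Perm (Fin 3) := h.perm.comp (Subgroup.inclusion h.join_le_normalizer)
  have hker : ψ.ker = (base Q R z s).subgroupOf (Q ⊔ R) := by
    ext y
    rw [MonoidHom.mem_ker, Subgroup.mem_subgroupOf, ← h.join_inf_centralizer]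
    simp only [ψ, MonoidHom.comp_apply, h.perm_eq_one_iff]
    exact ⟨fun e => ⟨y.2, e⟩, fun e => e.2⟩
  have hsurj : Function.Surjective ψ := fun σ => by
    obtain ⟨u, hu, e⟩ := h.perm_join_surjective σ
    exact ⟨⟨u, hu⟩, e⟩
  haveI hn : ((base Q R z s).subgroupOf (Q ⊔ R)).Normal := hker ▸ inferInstance
  refine ⟨⟨hn, ⟨(QuotientGroup.quotientMulEquivOfEq hker.symm).trans
    (QuotientGroup.quotientKerEquivOfSurjective ψ hsurj)⟩⟩, le_antisymm ?_ ?_⟩
  · intro r hr
    have hrX : r ∈ Q ⊔ R := (h.join_inf_centralizer.ge hr).1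
    refine ⟨⟨r, hrX⟩, Thompson.le_pCore hn (h.isPGroup_base.of_equiv
      (Subgroup.subgroupOfEquivOfLe (h.join_inf_centralizer ▸ inf_le_left)).symm) hr, rfl⟩
  · rintro _ ⟨y, hy, rfl⟩
    haveI : (Cfsg.pCore 2 ↥(Q ⊔ R)).Normal := Thompson.instPCoreNormal
    by_contra hne
    have hy1 : ψ y ≠ 1 := fun e => hne (by
      have : y ∈ ψ.ker := e
      rwa [hker] at this)
    have key : ∀ σ : Equiv.Perm (Fin 3), σ ≠ 1 → ∃ τ : Equiv.Perm (Fin 3),
        σ * τ * σ⁻¹ * τ⁻¹ ≠ 1 ∧ (σ * τ * σ⁻¹ * τ⁻¹) ^ 3 = 1 := by decide +kernel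
    obtain ⟨τ, h1, h3⟩ := key _ hy1
    obtain ⟨v, rfl⟩ := hsurj τ
    have hcm : y * v * y⁻¹ * v⁻¹ ∈ Cfsg.pCore 2 ↥(Q ⊔ R) := by
      have := mul_mem hy ((inferInstance : (Cfsg.pCore 2 ↥(Q ⊔ R)).Normal).conj_mem _ (inv_mem hy) v)
      simpa [mul_assoc] using this
    obtain ⟨i, hi⟩ := Thompson.isPGroup_pCore (p := 2) (G := ↥(Q ⊔ R)) ⟨_, hcm⟩
    have h2 : (ψ y * ψ v * (ψ y)⁻¹ * (ψ v)⁻¹) ^ 2 ^ i = 1 := by
      have := congrArg (fun w : Cfsg.pCore 2 ↥(Q ⊔ R) => ψ w) hi
      simpa using this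
    exact h1 (orderOf_eq_one_iff.1 (Nat.eq_one_of_dvd_coprimes
      ((by norm_num : Nat.Coprime 3 2).pow_right i) (orderOf_dvd_of_pow_eq_one h3)
      (orderOf_dvd_of_pow_eq_one h2)))

end Pair

end Cfsg.Agent.LargeExtraspecial
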