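import Cfsg.Agent.Lib.LargeExtraspecial.PairQuotient

/-!
# The radical of a pair
-/

set_option autoImplicit false

namespace Cfsg.Agent.LargeExtraspecial

variable {G : Type*} [Group G]

open scoped commutatorElement

namespace Pair

variable {Q R : Subgroup G} {z s : G}

theorem four_le_base [Finite G] (h : Pair Q R z s) : four z s ≤ base Q R z s :=
  (Subgroup.closure_le _).2 fun y hy => by
    rcases hy with e | e
    · rw [e]; exact Subgroup.mem_sup_right (mem_fixIn.2 ⟨h.left.z_mem, h.comm⟩)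
    · rw [Set.mem_singleton_iff.1 e]
      exact Subgroup.mem_sup_right (mem_fixIn.2 ⟨h.mem, Commute.refl s⟩)

variable [Finite G]

theorem zpowers_le_four (h : Pair Q R z s) {w : G} (hw : w ∈ Subgroup.zpowers z) : w ∈ four z s := by
  rcases h.left.zpowers_cases hw with e | e <;> rw [e]
  · exact one_mem _
  · exact Subgroup.subset_closure (Or.inl rfl)

theorem inter_le (h : Pair Q R z s) : Q ⊓ R ≤ fixIn Q s ∧ Q ⊓ R ≤ fixIn R z :=
  ⟨fun e he => mem_fixIn.2 ⟨he.1, (h.right.z_commute he.2).symm⟩,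
    fun e he => mem_fixIn.2 ⟨he.2, (h.left.z_commute he.1).symm⟩⟩

theorem fixIn_inf (h : Pair Q R z s) : fixIn R z ⊓ fixIn Q s = Q ⊓ R :=
  le_antisymm (fun _ he => ⟨(mem_fixIn.1 he.2).1, (mem_fixIn.1 he.1).1⟩)
    (le_inf h.inter_le.2 h.inter_le.1)

theorem inter_elementary (h : Pair Q R z s) : Cfsg.IsElementaryAbelian 2 (Q ⊓ R) := by
  have both : ∀ w ∈ Subgroup.zpowers z, w ∈ Subgroup.zpowers s → w = 1 := fun w h1 h2 => by
    rcases h.left.zpowers_cases h1 with e | e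
    · exact e
    · rcases h.right.zpowers_cases h2 with e' | e'
      · exact e'
      · exact absurd (e'.symm.trans e) h.ne
  refine ⟨⟨⟨fun a b => Subtype.ext ?_⟩⟩, fun a ha => ?_⟩
  · have h1 : (a : G) * b * (a : G)⁻¹ * (b : G)⁻¹ ∈ Subgroup.zpowers z := by
      rcases h.left.comm_cases a.2.1 b.2.1 with e | e <;> rw [e]
      · exact one_mem _
      · exact Subgroup.mem_zpowers z
    have h2 : (a : G) * b * (a : G)⁻¹ * (b : G)⁻¹ ∈ Subgroup.zpowers s := by
      rcases h.right.comm_cases a.2.2 b.2.2 with e | e <;> rw [e]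
      · exact one_mem _
      · exact Subgroup.mem_zpowers s
    have := both _ h1 h2
    rw [mul_inv_eq_one, mul_inv_eq_iff_eq_mul] at this
    exact this
  · rw [pow_two]; exact both _ (h.left.sq_mem ha.1) (h.right.sq_mem ha.2)

theorem comm_inter_left (h : Pair Q R z s) {x e : G} (hx : x ∈ Q) (he : e ∈ Q ⊓ R) :
    x * e * x⁻¹ * e⁻¹ ∈ four z s := by
  rcases h.left.comm_cases hx he.1 with e' | e' <;> rw [e']
  · exact one_mem _
  · exact Subgroup.subset_closure (Or.inl rfl)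

theorem comm_inter (h : Pair Q R z s) {x e : G} (hx : x ∈ Q ⊔ R) (he : e ∈ Q ⊓ R) :
    x * e * x⁻¹ * e⁻¹ ∈ four z s := by
  rw [join_normalizes_base.sup_eq_closure] at hx
  induction hx using Subgroup.closure_induction'' with
  | one => simp
  | mem y hy =>
    rcases hy with hy | hy
    · exact h.comm_inter_left hy he
    · rw [← four_comm]; exact h.symm.comm_inter_left hy ⟨he.2, he.1⟩
  | inv_mem y hy =>
    rcases hy with hy | hy
    · exact h.comm_inter_left (inv_mem hy) he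
    · rw [← four_comm]; exact h.symm.comm_inter_left (inv_mem hy) ⟨he.2, he.1⟩
  | mul a b ha hb iha ihb =>
    have haN : a ∈ Subgroup.normalizer ((four z s : Subgroup G) : Set G) := by
      refine h.join_le_normalizer ?_
      rw [join_normalizes_base.sup_eq_closure]; exact ha
    rw [show a * b * e * (a * b)⁻¹ * e⁻¹ = a * (b * e * b⁻¹ * e⁻¹) * a⁻¹ * (a * e * a⁻¹ * e⁻¹) by group]
    exact mul_mem ((Subgroup.mem_normalizer_iff.1 haN _).1 ihb) iha

theorem commutator_inter_le (h : Pair Q R z s) : ⁅Q ⊔ R, Q ⊓ R⁆ ≤ four z s := by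
  rw [Subgroup.commutator_le]
  intro x hx e he
  rw [commutatorElement_def]
  exact h.comm_inter hx he

theorem base_le_join (h : Pair Q R z s) : base Q R z s ≤ Q ⊔ R :=
  h.join_inf_centralizer.ge.trans inf_le_left

theorem base_conj_inter (h : Pair Q R z s) {r e : G} (hr : r ∈ base Q R z s) (he : e ∈ Q ⊓ R) :
    r * e * r⁻¹ ∈ Q ⊓ R :=
  ⟨h.left.conj_mem (mem_pair.1 (h.base_le hr)).1 he.1,
    h.right.conj_mem (mem_pair.1 (h.base_le hr)).2 he.2⟩

theorem base_comm_sq_mem (h : Pair Q R z s) {x y : G} (hx : x ∈ base Q R z s) (hy : y ∈ base Q R z s) :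
    x * y * x⁻¹ * y⁻¹ ∈ Q ⊓ R ∧ x ^ 2 ∈ Q ⊓ R := by
  have four_le : four z s ≤ Q ⊓ R := (Subgroup.closure_le _).2 fun y hy => by
    rcases hy with e | e
    · rw [e]; exact ⟨h.left.z_mem, h.z_mem_right⟩
    · rw [Set.mem_singleton_iff.1 e]; exact ⟨h.mem, h.right.z_mem⟩
  have hz : ∀ w ∈ Subgroup.zpowers z, w ∈ Q ⊓ R := fun w hw => four_le (h.zpowers_le_four hw)
  have hs : ∀ w ∈ Subgroup.zpowers s, w ∈ Q ⊓ R := fun w hw => four_le (by
    rw [← four_comm]; exact h.symm.zpowers_le_four hw)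
  have cQR : ∀ a ∈ fixIn R z, ∀ b ∈ fixIn Q s, a * b * a⁻¹ * b⁻¹ ∈ Q ⊓ R := by
    intro a ha b hb
    obtain ⟨haR, haz⟩ := mem_fixIn.1 ha
    obtain ⟨hbQ, hbs⟩ := mem_fixIn.1 hb
    refine ⟨h.left.comm_mem haz hbQ, ?_⟩
    rw [show a * b * a⁻¹ * b⁻¹ = a * (b * a⁻¹ * b⁻¹) by group]
    exact mul_mem haR (h.right.conj_mem hbs (inv_mem haR))
  -- work in the quotient by `Q ⊓ R`
  let B := base Q R z s
  haveI hN : ((Q ⊓ R).subgroupOf B).Normal := ⟨fun e he r => by
    rw [Subgroup.mem_subgroupOf] at he ⊢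
    push_cast
    exact h.base_conj_inter r.2 he⟩
  let π := QuotientGroup.mk' ((Q ⊓ R).subgroupOf B)
  have key : ∀ u : B, ∃ a : B, ∃ b : B, (a : G) ∈ fixIn R z ∧ (b : G) ∈ fixIn Q s ∧ u = a * b := by
    intro u
    obtain ⟨a, ha, b, hb, e⟩ := h.base_mem u.2
    exact ⟨⟨a, Subgroup.mem_sup_left ha⟩, ⟨b, Subgroup.mem_sup_right hb⟩, ha, hb, Subtype.ext e.symm⟩
  have toPi : ∀ u v : B, (u : G) * v * (u : G)⁻¹ * (v : G)⁻¹ ∈ Q ⊓ R → Commute (π u) (π v) := by
    intro u v huv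
    have : π (u * v * u⁻¹ * v⁻¹) = 1 := (QuotientGroup.eq_one_iff _).2 (by
      rw [Subgroup.mem_subgroupOf]; simpa using huv)
    simp only [map_mul, map_inv] at this
    rw [mul_inv_eq_one, mul_inv_eq_iff_eq_mul] at this
    exact this
  have sqA : ∀ a : B, (a : G) ∈ fixIn R z → π a * π a = 1 := fun a ha => by
    rw [← map_mul]
    exact (QuotientGroup.eq_one_iff _).2 (by
      rw [Subgroup.mem_subgroupOf]; exact hs _ (h.right.sq_mem (mem_fixIn.1 ha).1))
  have sqB : ∀ b : B, (b : G) ∈ fixIn Q s → π b * π b = 1 := fun b hb => by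
    rw [← map_mul]
    exact (QuotientGroup.eq_one_iff _).2 (by
      rw [Subgroup.mem_subgroupOf]; exact hz _ (h.left.sq_mem (mem_fixIn.1 hb).1))
  have cA : ∀ a a' : B, (a : G) ∈ fixIn R z → (a' : G) ∈ fixIn R z → Commute (π a) (π a') :=
    fun a a' ha ha' => toPi a a' (by
      rcases h.right.comm_cases (mem_fixIn.1 ha).1 (mem_fixIn.1 ha').1 with e | e <;> rw [e]
      · exact one_mem _
      · exact hs _ (Subgroup.mem_zpowers s))
  have cB : ∀ b b' : B, (b : G) ∈ fixIn Q s → (b' : G) ∈ fixIn Q s → Commute (π b) (π b') :=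
    fun b b' hb hb' => toPi b b' (by
      rcases h.left.comm_cases (mem_fixIn.1 hb).1 (mem_fixIn.1 hb').1 with e | e <;> rw [e]
      · exact one_mem _
      · exact hz _ (Subgroup.mem_zpowers z))
  have cAB : ∀ a b : B, (a : G) ∈ fixIn R z → (b : G) ∈ fixIn Q s → Commute (π a) (π b) :=
    fun a b ha hb => toPi a b (cQR _ ha _ hb)
  obtain ⟨a, b, ha, hb, e1⟩ := key ⟨x, hx⟩
  obtain ⟨a', b', ha', hb', e2⟩ := key ⟨y, hy⟩
  constructor
  · have hcomm : Commute (π ⟨x, hx⟩) (π ⟨y, hy⟩) := by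
      rw [e1, e2, map_mul, map_mul]
      exact ((cA a a' ha ha').mul_right (cAB a b' ha hb')).mul_left
        ((cAB a' b ha' hb).symm.mul_right (cB b b' hb hb'))
    have h1 : π (⟨x, hx⟩ * ⟨y, hy⟩ * ⟨x, hx⟩⁻¹ * ⟨y, hy⟩⁻¹) = 1 := by
      simp only [map_mul, map_inv]
      rw [hcomm.eq]; group
    exact (QuotientGroup.eq_one_iff (N := (Q ⊓ R).subgroupOf B) _).1 h1
  · have h1 : π ((⟨x, hx⟩ : B) ^ 2) = 1 := by
      rw [map_pow, e1, map_mul, (cAB a b ha hb).mul_pow, pow_two, pow_two, sqA a ha, sqB b hb, one_mul]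
    exact (QuotientGroup.eq_one_iff (N := (Q ⊓ R).subgroupOf B) _).1 h1

theorem center_base (h : Pair Q R z s) :
    (Subgroup.center (base Q R z s)).map (base Q R z s).subtype = four z s := by
  refine le_antisymm ?_ fun v hv => ⟨⟨v, h.four_le_base hv⟩, Subgroup.mem_center_iff.2 fun r =>
    Subtype.ext ?_, rfl⟩
  swap
  · have := h.base_le r.2
    rw [← centralizer_four] at this
    exact ((Subgroup.mem_centralizer_iff.1 this) v hv).symm
  rintro _ ⟨u, hu, rfl⟩
  rw [SetLike.mem_coe, Subgroup.mem_center_iff] at hu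
  obtain ⟨b, hb, a, ha, hba⟩ := h.base_mem u.2
  obtain ⟨hbR, hbz⟩ := mem_fixIn.1 hb
  obtain ⟨haQ, has⟩ := mem_fixIn.1 ha
  have hbs : Commute b s := (h.right.z_commute hbR).symm
  have hu' : ∀ r ∈ base Q R z s, Commute (b * a) r := fun r hr => by
    rw [hba]; exact (congrArg Subtype.val (hu ⟨r, hr⟩)).symm
  -- `b` fixes `C_Q(s)` modulo `z`
  have hfix : ∀ y ∈ fixIn Q s, b * y * b⁻¹ * y⁻¹ ∈ Subgroup.zpowers z := by
    intro y hy
    have h1 : a * (a⁻¹ * y * a) * a⁻¹ * (a⁻¹ * y * a)⁻¹ ∈ Subgroup.zpowers z := by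
      have hy' : a⁻¹ * y * a ∈ Q := mul_mem (mul_mem (inv_mem haQ) (mem_fixIn.1 hy).1) haQ
      rcases h.left.comm_cases haQ hy' with e | e <;> rw [e]
      · exact one_mem _
      · exact Subgroup.mem_zpowers z
    have h2 : b * y * b⁻¹ = a⁻¹ * y * a := by
      have hy' : a⁻¹ * y * a ∈ base Q R z s :=
        Subgroup.mem_sup_right (mul_mem (mul_mem (inv_mem ha) hy) ha)
      have := (hu' _ hy').eq
      calc b * y * b⁻¹ = b * a * (a⁻¹ * y * a) * (b * a)⁻¹ := by group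
        _ = (a⁻¹ * y * a) * (b * a) * (b * a)⁻¹ := by rw [this]
        _ = a⁻¹ * y * a := mul_inv_cancel_right _ _
    rw [h2, show a⁻¹ * y * a * y⁻¹ = (a * (a⁻¹ * y * a) * a⁻¹ * (a⁻¹ * y * a)⁻¹)⁻¹ by group]
    exact inv_mem h1
  obtain ⟨x, hx, hxs⟩ := h.left.exists_moving h.mem h.not_mem
  have hxz : x * z * x⁻¹ = z := by rw [← (h.left.z_commute hx).eq, mul_inv_cancel_right]
  set a0 := x⁻¹ * (b * x * b⁻¹) with ha0
  have ha0Q : a0 ∈ Q := mul_mem (inv_mem hx) (h.left.conj_mem hbz hx)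
  have hx0 : b * x * b⁻¹ = x * a0 := by rw [ha0, mul_inv_cancel_left]
  have hzfix : ∀ w ∈ Subgroup.zpowers z, b * w * b⁻¹ = w ∧ ∀ q ∈ Q, Commute w q := by
    intro w hw
    rcases h.left.zpowers_cases hw with e | e <;> rw [e]
    · exact ⟨by group, fun q _ => Commute.one_left q⟩
    · exact ⟨by rw [hbz.eq, mul_inv_cancel_right], fun q hq => h.left.z_commute hq⟩
  have hcomm : ∀ y ∈ fixIn Q s, Commute a0 y := by
    intro y hy
    obtain ⟨hyQ, hys⟩ := mem_fixIn.1 hy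
    -- compare commutators with `x`
    set w := b * y * b⁻¹ * y⁻¹ with hw
    have hwz := hfix y hy
    set c := x * y * x⁻¹ * y⁻¹ with hc
    have hcz : c ∈ Subgroup.zpowers z := by
      rcases h.left.comm_cases hx hyQ with e | e <;> rw [hc, e]
      · exact one_mem _
      · exact Subgroup.mem_zpowers z
    have hby : b * y * b⁻¹ = w * y := by rw [hw, inv_mul_cancel_right]
    have e1 : b * (x * y * x⁻¹ * y⁻¹) * b⁻¹ = c := (hzfix c hcz).1
    have e2 : b * (x * y * x⁻¹ * y⁻¹) * b⁻¹ = x * a0 * y * (x * a0)⁻¹ * y⁻¹ := by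
      calc b * (x * y * x⁻¹ * y⁻¹) * b⁻¹ =
            (b * x * b⁻¹) * (b * y * b⁻¹) * (b * x * b⁻¹)⁻¹ * (b * y * b⁻¹)⁻¹ := by group
        _ = x * a0 * (w * y) * (x * a0)⁻¹ * (w * y)⁻¹ := by rw [hx0, hby]
        _ = (x * a0 * w * (x * a0)⁻¹) * ((x * a0) * y * (x * a0)⁻¹) * y⁻¹ * w⁻¹ := by group
        _ = w * ((x * a0) * y * (x * a0)⁻¹ * y⁻¹) * w⁻¹ := by
            rw [← ((hzfix w hwz).2 _ (mul_mem hx ha0Q)).eq, mul_inv_cancel_right]; group
        _ = _ := by
            have hq : x * a0 * y * (x * a0)⁻¹ * y⁻¹ ∈ Q :=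
              mul_mem (mul_mem (mul_mem (mul_mem hx ha0Q) hyQ) (inv_mem (mul_mem hx ha0Q))) (inv_mem hyQ)
            rw [((hzfix w hwz).2 _ hq).eq, mul_inv_cancel_right]
    rw [e1, hc] at e2
    have e3 : x * y * x⁻¹ = x * a0 * y * (x * a0)⁻¹ := mul_right_cancel e2
    have e4 : y = a0 * y * a0⁻¹ := by
      calc y = x⁻¹ * (x * y * x⁻¹) * x := by group
        _ = x⁻¹ * (x * a0 * y * (x * a0)⁻¹) * x := by rw [e3]
        _ = a0 * y * a0⁻¹ := by group
    exact mul_inv_eq_iff_eq_mul.1 e4.symm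
  -- `a0` lies in `⟨z⟩`
  have ha0z : a0 ∈ Subgroup.zpowers z := by
    rcases h.left.center_fixIn h.mem h.not_mem ha0Q (fun y hy hys => hcomm y (mem_fixIn.2 ⟨hy, hys⟩))
      with e | e
    · exact e
    · exfalso
      have hbx2 : b * (x * x) * b⁻¹ = x * x := (hzfix _ (h.left.sq_mem hx)).1
      obtain ⟨w, hw, hw'⟩ : ∃ w ∈ Subgroup.zpowers z, a0 = w * s :=
        ⟨a0 * s, e, by rw [mul_assoc, h.right.z_mul_self, mul_one]⟩
      have hwc := (hzfix w hw).2
      rw [show b * (x * x) * b⁻¹ = (b * x * b⁻¹) * (b * x * b⁻¹) by group, hx0, hw'] at hbx2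
      have e5 : x * (w * s) * (x * (w * s)) = (w * w) * ((x * s * x⁻¹) * (x * x) * s) := by
        rw [show x * (w * s) * (x * (w * s)) = (x * w) * s * ((x * w) * s) by group,
          ← (hwc x hx).eq,
          show w * x * s * (w * x * s) = w * ((x * s) * w) * (x * s) by group,
          ← (hwc _ (mul_mem hx h.mem)).eq]
        group
      have hw2 : w * w = 1 := by
        rcases h.left.zpowers_cases hw with e' | e' <;> rw [e']
        · exact one_mul 1
        · exact h.left.z_mul_self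
      rw [e5, hw2, one_mul, hxs] at hbx2
      have hxx : Commute s (x * x) := ((hzfix _ (h.left.sq_mem hx)).2 s h.mem).symm
      apply h.left.z_ne_one
      calc z = z * (s * s) * ((x * x) * (x * x)⁻¹) := by rw [h.right.z_mul_self]; group
        _ = z * s * (s * (x * x)) * (x * x)⁻¹ := by group
        _ = z * s * ((x * x) * s) * (x * x)⁻¹ := by rw [hxx.eq]
        _ = z * s * (x * x) * s * (x * x)⁻¹ := by group
        _ = 1 := by rw [hbx2, mul_inv_cancel]
  have hbQ : b ∈ Q := by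
    refine h.left.inner_of_commutator_mem fun y hy => ?_
    rcases h.left.conj_cases hy h.mem with e | e
    · exact hfix y (mem_fixIn.2 ⟨hy, mul_inv_eq_iff_eq_mul.1 e⟩)
    · have hxy : x * y ∈ fixIn Q s := mem_fixIn.2 ⟨mul_mem hx hy, mul_inv_eq_iff_eq_mul.1 (by
        rw [show x * y * s * (x * y)⁻¹ = x * (y * s * y⁻¹) * x⁻¹ by group, e,
          show x * (z * s) * x⁻¹ = (x * z * x⁻¹) * (x * s * x⁻¹) by group, hxz, hxs, ← mul_assoc,
          h.left.z_mul_self, one_mul])⟩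
      have h1 := hfix _ hxy
      rw [show b * (x * y) * b⁻¹ * (x * y)⁻¹ = (b * x * b⁻¹) * (b * y * b⁻¹ * y⁻¹) * x⁻¹ by group,
        hx0] at h1
      set w := b * y * b⁻¹ * y⁻¹
      have h2 : x⁻¹ * (x * a0 * w * x⁻¹) * x = x * a0 * w * x⁻¹ := by
        rw [← ((hzfix _ h1).2 _ (inv_mem hx)).eq, inv_mul_cancel_right]
      have h3 : a0 * w ∈ Subgroup.zpowers z := by
        rw [show a0 * w = x⁻¹ * (x * a0 * w * x⁻¹) * x by group, h2]; exact h1
      have := mul_mem (inv_mem ha0z) h3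
      rwa [inv_mul_cancel_left] at this
  -- so `b * a` lies in the centre of `C_Q(s)`
  show (u : G) ∈ four z s
  rw [← hba]
  have hV : ∀ w ∈ Subgroup.zpowers z, w ∈ four z s := fun w hw => h.zpowers_le_four hw
  rcases h.left.center_fixIn h.mem h.not_mem (mul_mem hbQ haQ)
    (fun y hy hys => hu' y (Subgroup.mem_sup_right (mem_fixIn.2 ⟨hy, hys⟩))) with e | e
  · exact hV _ e
  · have := mul_mem (hV _ e) (inv_mem (Subgroup.subset_closure (Or.inr rfl) : s ∈ four z s))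
    rwa [mul_inv_cancel_right] at this

theorem inter_le_second (h : Pair Q R z s) :
    Q ⊓ R ≤ (Subgroup.upperCentralSeries (base Q R z s) 2).map (base Q R z s).subtype := by
  intro e he
  refine ⟨⟨e, Subgroup.mem_sup_right (h.inter_le.1 he)⟩, ?_, rfl⟩
  rw [SetLike.mem_coe, Subgroup.mem_upperCentralSeries_succ_iff]
  intro r
  rw [Subgroup.upperCentralSeries_one]
  have hmem : e * r * e⁻¹ * (r : G)⁻¹ ∈ four z s := by
    rw [show e * r * e⁻¹ * (r : G)⁻¹ = ((r : G) * e * (r : G)⁻¹ * e⁻¹)⁻¹ by group]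
    exact inv_mem (h.comm_inter (h.base_le_join r.2) he)
  rw [← h.center_base] at hmem
  obtain ⟨c, hc, hce⟩ := hmem
  have heq : ⁅(⟨e, Subgroup.mem_sup_right (h.inter_le.1 he)⟩ : base Q R z s), r⁆ = c :=
    Subtype.ext hce.symm
  exact heq ▸ hc

theorem third_eq_top (h : Pair Q R z s) : Subgroup.upperCentralSeries (base Q R z s) 3 = ⊤ := by
  rw [eq_top_iff]
  intro u _
  rw [Subgroup.mem_upperCentralSeries_succ_iff]
  intro r
  obtain ⟨c, hc, hce⟩ := h.inter_le_second (h.base_comm_sq_mem u.2 r.2).1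
  have heq : ⁅u, r⁆ = c := Subtype.ext hce.symm
  exact heq ▸ hc

end Pair

end Cfsg.Agent.LargeExtraspecial
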