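import Cfsg.Agent.Lib.LargeExtraspecial.Sections
import Cfsg.Agent.S5433

/-!
# Simplicity, and large extraspecial subgroups in sections
-/

set_option autoImplicit false

namespace Cfsg.Agent.LargeExtraspecial

open scoped Pointwise

open scoped commutatorElement

variable {G : Type*} [Group G] [Finite G]

theorem Setup.normalizer_le (Q : Subgroup G) {z : G} (h : Setup Q z) :
    Subgroup.normalizer (Q : Set G) ≤ Subgroup.centralizer ({z} : Set G) := by
  intro x hx
  have hxz : x * z * x⁻¹ ∈ Subgroup.zpowers z := by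
    refine h.mem_zpowers_of_center ((Subgroup.mem_normalizer_iff.1 hx z).1 h.z_mem) fun y hy => ?_
    have hy' : x⁻¹ * y * x ∈ Q := by
      have := (Subgroup.mem_normalizer_iff.1 (inv_mem hx) y).1 hy
      rwa [inv_inv] at this
    have := (Commute.conj_iff x).2 (h.z_commute hy')
    rwa [show x * (x⁻¹ * y * x) * x⁻¹ = y by group] at this
  rw [Subgroup.mem_centralizer_singleton_iff]
  rcases h.zpowers_cases hxz with e | e
  · exact absurd (conj_eq_one_iff.1 e) h.z_ne_one
  · exact mul_inv_eq_iff_eq_mul.1 e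

/-- A normal subgroup containing `z` is everything when `C(z)` is generated by conjugates of an
abelian closure; and every nontrivial normal subgroup contains `z`. -/
theorem Setup.isSimple {Q : Subgroup G} {z : G} (h : Setup Q z)
    (hlarge : Cfsg.IsLargeExtraspecial Q)
    (hgen : ∀ N : Subgroup G, N.Normal → z ∈ N → Subgroup.centralizer ({z} : Set G) ≤ N) :
    IsSimpleGroup G := by
  haveI : Nontrivial G := ⟨⟨z, 1, h.z_ne_one⟩⟩
  refine ⟨fun N hN => ?_⟩
  by_cases hzN : z ∈ N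
  · right
    haveI := hN
    have hC := hgen N hN hzN
    have hfr := Cfsg.Agent.S5433.result Q hlarge N (h.le_centralizer.trans hC)
    rw [← hfr]
    exact (sup_eq_left.2 ((h.normalizer_le Q).trans hC)).symm
  · left
    have hNQ : ∀ x ∈ N, x ∈ Q → x = 1 := by
      intro x hxN hxQ
      by_contra hx1
      by_cases hxz : x ∈ Subgroup.zpowers z
      · rcases h.zpowers_cases hxz with e | e
        · exact hx1 e
        · exact hzN (e ▸ hxN)
      · obtain ⟨y, hy, e⟩ := h.exists_moving hxQ hxz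
        have := mul_mem (hN.conj_mem x hxN y) (inv_mem hxN)
        rw [e, mul_inv_cancel_right] at this
        exact hzN this
    have hfix : ∀ n ∈ N, z * n * z⁻¹ = n → n = 1 := by
      intro n hn e
      have hnz : Commute z n := mul_inv_eq_iff_eq_mul.1 e
      have hnC : n ∈ Subgroup.centralizer (Q : Set G) := by
        rw [Subgroup.mem_centralizer_iff]
        intro q hq
        have h1 : q * n * q⁻¹ * n⁻¹ = 1 := by
          refine hNQ _ (mul_mem (hN.conj_mem n hn q) (inv_mem hn)) ?_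
          rw [show q * n * q⁻¹ * n⁻¹ = q * (n * q⁻¹ * n⁻¹) by group]
          exact mul_mem hq (h.conj_mem hnz.symm (inv_mem hq))
        rwa [mul_inv_eq_one, mul_inv_eq_iff_eq_mul] at h1
      rw [h.centralizer_eq] at hnC
      rcases h.zpowers_cases hnC with e' | e'
      · exact e'
      · exact absurd (e' ▸ hn) hzN
    have hNn : Q ≤ Subgroup.normalizer (N : Set G) := by
      rw [Subgroup.normalizer_eq_top_iff.2 hN]; exact le_top
    have hinv := inverts_of_fixedPointFree h.z_mul_self (hNn h.z_mem) hfix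
    refine hlarge.2.2.2 N ?_ hNn
    rw [← Nat.not_even_iff_odd]
    intro heven
    haveI : Fact (Nat.Prime 2) := ⟨Nat.prime_two⟩
    obtain ⟨n, hn⟩ := exists_prime_orderOf_dvd_card' (G := N) 2 (even_iff_two_dvd.1 heven)
    have hnsq : (n : G) * n = 1 := by
      have := pow_orderOf_eq_one n
      rw [hn, pow_two] at this
      exact congrArg Subtype.val this
    have : (n : G) = 1 := hfix n n.2 (by rw [hinv n n.2, inv_eq_of_mul_eq_one_left hnsq])
    rw [show n = 1 from Subtype.ext this, orderOf_one] at hn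
    omega

theorem simple_of_generation {z : G} (hz : orderOf z = 2) {Q : Subgroup G}
    (hQC : Q ≤ Subgroup.centralizer ({z} : Set G))
    (hF : (Cfsg.generalizedFittingSubgroup ↥(Subgroup.centralizer ({z} : Set G))).map
      (Subgroup.centralizer ({z} : Set G)).subtype = Q)
    (hQ : Cfsg.IsExtraspecial 2 Q) (hcard : 32 ≤ Nat.card Q) (K U : Subgroup G)
    (hU : U = Subgroup.closure {x : G | ∃ k ∈ K, x = k * z * k⁻¹}) (hUab : IsMulCommutative U)
    (hgen : Subgroup.closure {x : G | ∃ c ∈ Subgroup.centralizer ({z} : Set G), ∃ u ∈ U, x = c * u * c⁻¹} =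
      Subgroup.centralizer ({z} : Set G))
    (h3 : (∃ k ∈ K, k * z * k⁻¹ ∈ Q ∧ k * z * k⁻¹ ≠ z) ∨ ∃ u ∈ U ⊓ Q, u ∉ Subgroup.zpowers z ∧
      (∃ hz' : z ∈ Subgroup.centralizer ({u} : Set G),
        (⟨z, hz'⟩ : ↥(Subgroup.centralizer ({u} : Set G))) ∈
          Cfsg.pCore 2 ↥(Subgroup.centralizer ({u} : Set G)))) :
    IsSimpleGroup G ∧ Cfsg.IsLargeExtraspecial Q := by
  haveI : Fact (Nat.Prime 2) := ⟨Nat.prime_two⟩
  have h := setup_of_centralizer hz hQC hF hQ
  have hlarge : Cfsg.IsLargeExtraspecial Q := by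
    rcases h3 with ⟨k, -, hk, hne⟩ | ⟨u, ⟨huU, huQ⟩, hu, hz', hT⟩
    · exact (h.pair hcard hk hne).large
    · have hu2 : u * u = 1 := by
        have key : ∀ v ∈ U, v ∈ U ∧ v * v = 1 := by
          intro v hv
          refine ⟨hv, ?_⟩
          rw [hU] at hv
          induction hv using Subgroup.closure_induction with
          | mem v hv =>
            obtain ⟨k, -, rfl⟩ := hv
            rw [show k * z * k⁻¹ * (k * z * k⁻¹) = k * (z * z) * k⁻¹ by group, h.z_mul_self]; group
          | one => exact one_mul 1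
          | mul a b ha hb iha ihb =>
            have hab : a * b = b * a := congrArg Subtype.val
              (hUab.is_comm.comm (⟨a, hU ▸ ha⟩ : U) ⟨b, hU ▸ hb⟩)
            rw [← pow_two, (show Commute a b from hab).mul_pow, pow_two, pow_two, iha, ihb, one_mul]
          | inv a _ iha => rw [← mul_inv_rev, iha, inv_one]
        exact (key u huU).2
      refine h.large_of_involution huQ hu hu2 (Subgroup.map_subtype_le _) ?_
        (Thompson.isPGroup_pCore.map _) ⟨_, hT, rfl⟩
      rintro c hc _ ⟨t, ht, rfl⟩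
      exact ⟨⟨c, hc⟩ * t * ⟨c, hc⟩⁻¹, Thompson.instPCoreNormal.conj_mem t ht _, rfl⟩
  refine ⟨h.isSimple hlarge fun N hN hzN => ?_, hlarge⟩
  rw [← hgen, Subgroup.closure_le]
  rintro _ ⟨c, -, u, hu, rfl⟩
  refine hN.conj_mem u ?_ c
  have : U ≤ N := hU ▸ (Subgroup.closure_le _).2 (by rintro _ ⟨k, -, rfl⟩; exact hN.conj_mem z hzN k)
  exact this hu

/-- The section by an odd subgroup of the centralizer. -/
theorem large_in_odd_quotient {z : G} {Q : Subgroup G} (h : Setup Q z) (A : Subgroup G)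
    (hA : A ≤ Subgroup.centralizer ({z} : Set G)) (hAodd : Odd (Nat.card A)) (R : Subgroup G)
    (hR : R = Q ⊓ Subgroup.centralizer (A : Set G)) (hR32 : 32 ≤ Nat.card R)
    (hO : (Cfsg.oddCore ↥(Subgroup.centralizer ((A ⊔ R : Subgroup G) : Set G))).map
      (Subgroup.centralizer ((A ⊔ R : Subgroup G) : Set G)).subtype ≤ A)
    (h4 : ¬ 4 ∣ Nat.card ↥(Subgroup.centralizer ((A ⊔ R : Subgroup G) : Set G)))
    (g : G) (hgR : g * z * g⁻¹ ∈ R) (hgz : g * z * g⁻¹ ≠ z) (M : Subgroup G)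
    (hM : M = Subgroup.centralizer (A : Set G) ⊔ A) [hn : (A.subgroupOf M).Normal] :
    (M ⊓ Subgroup.centralizer ((R ⊔ A : Subgroup G) : Set G)) ⊔ A = A ⊔ Subgroup.zpowers z ∧
      Cfsg.IsLargeExtraspecial ((R.subgroupOf M).map (QuotientGroup.mk' (A.subgroupOf M))) ∧
      ∃ x ∈ R ⊔ (Q.map (MulAut.conj g).toMonoidHom ⊓ Subgroup.centralizer (A : Set G)),
        x * (g * z * g⁻¹) * x⁻¹ = z := by
  haveI : Fact (Nat.Prime 2) := ⟨Nat.prime_two⟩
  have hRQ : R ≤ Q := hR ▸ inf_le_left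
  have hRA : ∀ r ∈ R, ∀ a ∈ A, Commute r a := fun r hr a ha => by
    rw [hR] at hr; exact (Subgroup.mem_centralizer_iff.1 hr.2 a ha).symm
  have hp := h.pair (hR32.trans (Subgroup.card_le_of_le hRQ)) (hRQ hgR) hgz
  set s := g * z * g⁻¹ with hs
  set Q' := Q.map (MulAut.conj g).toMonoidHom with hQ'
  have hzR : z ∈ R := hR ▸ ⟨h.z_mem, Subgroup.mem_centralizer_iff.2 fun a ha =>
    Subgroup.mem_centralizer_singleton_iff.1 (hA ha)⟩
  set K := Subgroup.centralizer ((A ⊔ R : Subgroup G) : Set G) with hK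
  have memK : ∀ c, (∀ a ∈ A, Commute c a) → (∀ r ∈ R, Commute c r) → c ∈ K := by
    intro c h1 h2
    rw [hK, Subgroup.mem_centralizer_iff]
    intro y hy
    have hle : A ⊔ R ≤ Subgroup.centralizer {c} := sup_le
      (fun a ha => Subgroup.mem_centralizer_singleton_iff.2 (h1 a ha).symm.eq)
      (fun r hr => Subgroup.mem_centralizer_singleton_iff.2 (h2 r hr).symm.eq)
    exact (Subgroup.mem_centralizer_singleton_iff.1 (hle hy))
  have hzK : z ∈ K := memK z (fun a ha => (Subgroup.mem_centralizer_singleton_iff.1 (hA ha)).symm)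
    (fun r hr => h.z_commute (hRQ hr))
  have hKle : K ≤ A ⊔ Subgroup.zpowers z := by
    set Z := (Subgroup.zpowers z).subgroupOf K
    haveI hZn : Z.Normal := ⟨fun w hw k => by
      rw [Subgroup.mem_subgroupOf] at hw ⊢
      have hk : Commute (k : G) z := ((Subgroup.mem_centralizer_iff.1 k.2) z
        (Subgroup.mem_sup_right hzR)).symm
      push_cast
      rcases h.zpowers_cases hw with e | e <;> rw [e]
      · simp
      · rw [hk.eq, mul_inv_cancel_right]; exact Subgroup.mem_zpowers z⟩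
    have hZc : Nat.card Z = 2 := by
      rw [Nat.card_congr (Subgroup.subgroupOfEquivOfLe (Subgroup.zpowers_le.2 hzK)).toEquiv,
        Nat.card_zpowers, h.orderOf_z]
    have hidx : ¬ 2 ∣ Z.index := fun hd => h4 (by
      rw [← Z.card_mul_index, hZc]; exact mul_dvd_mul_left 2 hd)
    obtain ⟨H, hH⟩ := Subgroup.exists_right_complement'_of_coprime (N := Z) (by
      rw [hZc]; exact (Nat.Prime.coprime_iff_not_dvd Nat.prime_two).2 hidx)
    have hHn : H.Normal := Subgroup.normal_of_index_eq_two (by rw [hH.index_eq_card, hZc])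
    have hHodd : H ≤ Cfsg.oddCore K := Thompson.le_pPrimeCore hHn (by
      rw [← hH.symm.index_eq_card]
      exact (Nat.Prime.coprime_iff_not_dvd Nat.prime_two).2 hidx |>.symm)
    intro k hk
    have := hH.sup_eq_top.ge (Subgroup.mem_top (⟨k, hk⟩ : K))
    obtain ⟨w, hw, u, hu, e⟩ := Subgroup.mem_sup_of_normal_left.1 this
    rw [← show (w : G) * u = k from congrArg Subtype.val e]
    exact mul_mem (Subgroup.mem_sup_right hw) (Subgroup.mem_sup_left (hO ⟨u, hHodd hu, rfl⟩))
  have hpart1 : (M ⊓ Subgroup.centralizer ((R ⊔ A : Subgroup G) : Set G)) ⊔ A =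
      A ⊔ Subgroup.zpowers z := by
    rw [sup_comm R A, ← hK]
    refine le_antisymm (sup_le (inf_le_right.trans hKle) le_sup_left) (sup_le le_sup_right ?_)
    rw [Subgroup.zpowers_le]
    exact Subgroup.mem_sup_left ⟨hM ▸ Subgroup.mem_sup_left (Subgroup.mem_centralizer_iff.2 fun a ha =>
      Subgroup.mem_centralizer_singleton_iff.1 (hA ha)), hzK⟩
  have hcz : ∀ r ∈ R, (∀ y ∈ R, Commute r y) → r ∈ Subgroup.zpowers z := fun r hr hc =>
    h.center_fixed hA hAodd (hR ▸ hr) fun y hy => hc y (hR ▸ hy)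
  -- the quotient
  set π := QuotientGroup.mk' (A.subgroupOf M) with hπ
  have hCM : Subgroup.centralizer (A : Set G) ≤ M := hM ▸ le_sup_left
  have hRM : R ≤ M := fun r hr => hCM (Subgroup.mem_centralizer_iff.2 fun a ha => (hRA r hr a ha).symm)
  have hker : ∀ u : M, π u = 1 ↔ (u : G) ∈ A := fun u => by
    rw [hπ, QuotientGroup.mk'_apply, QuotientGroup.eq_one_iff, Subgroup.mem_subgroupOf]
  have hAQ : ∀ a ∈ A, ∀ i : ℕ, a ^ 2 ^ i = 1 → a = 1 := by
    intro a ha i hi
    exact orderOf_eq_one_iff.1 (Nat.eq_one_of_dvd_coprimes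
      ((Nat.coprime_two_right.2 hAodd).pow_right i) (Subgroup.orderOf_dvd_natCard A ha)
      (orderOf_dvd_of_pow_eq_one hi))
  have hRinj : ∀ u : M, (u : G) ∈ R → π u = 1 → u = 1 := by
    intro u hu e
    obtain ⟨i, hi⟩ := h.extraspecial.1.1 ⟨_, hRQ hu⟩
    exact Subtype.ext (hAQ _ ((hker u).1 e) i (by simpa [Subtype.ext_iff] using hi))
  -- lifting an element of the centralizer of `A`
  have hdec : ∀ v : M, ∃ c : M, (c : G) ∈ Subgroup.centralizer (A : Set G) ∧ π c = π v := by
    intro v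
    have hv : (v : G) ∈ Subgroup.centralizer (A : Set G) ⊔ A := by rw [← hM]; exact v.2
    have hCA : Subgroup.centralizer (A : Set G) ≤ Subgroup.normalizer (A : Set G) :=
      Subgroup.centralizer_le_normalizer _
    have hv' : (v : G) ∈ ((Subgroup.centralizer (A : Set G) : Subgroup G) : Set G) * (A : Set G) := by
      rw [← Subgroup.coe_mul_of_left_le_normalizer_right _ _ hCA]; exact hv
    obtain ⟨c, hc, a, ha, e⟩ := Set.mem_mul.1 hv'
    refine ⟨⟨c, hCM hc⟩, hc, (hπ ▸ QuotientGroup.eq.2 ?_ : π ⟨c, hCM hc⟩ = π v)⟩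
    rw [Subgroup.mem_subgroupOf]
    push_cast
    rw [← e, inv_mul_cancel_left]
    exact ha
  have hfix : ∀ c : M, (c : G) ∈ Subgroup.centralizer (A : Set G) → ∀ r : M, (r : G) ∈ R → ∀ r' : M,
      (r' : G) ∈ R → π (c * r * c⁻¹) = π r' → (c : G) * r * (c : G)⁻¹ = r' := by
    intro c hc r hr r' hr' e
    set u := (c : G) * r * (c : G)⁻¹ with hu
    have hua : ∀ a ∈ A, Commute u a := by
      intro a ha
      have h1 : Commute (c : G) a := (Subgroup.mem_centralizer_iff.1 hc a ha).symm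
      have := (Commute.conj_iff (c : G)).2 (hRA _ hr a ha)
      rwa [h1.eq, mul_inv_cancel_right] at this
    have hA' : u⁻¹ * r' ∈ A := by
      have := QuotientGroup.eq.1 (show ((c * r * c⁻¹ : M) : M ⧸ A.subgroupOf M) = r' from e)
      rw [Subgroup.mem_subgroupOf] at this
      simpa [hu, mul_assoc] using this
    obtain ⟨i, hi⟩ := h.extraspecial.1.1 ⟨_, hRQ hr⟩
    obtain ⟨j, hj⟩ := h.extraspecial.1.1 ⟨_, hRQ hr'⟩
    have e1 : u ^ 2 ^ (i + j) = 1 := by
      have h0 : (r : G) ^ 2 ^ i = 1 := by simpa [Subtype.ext_iff] using hi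
      rw [hu, conj_pow, pow_add, pow_mul, h0, one_pow, mul_one, mul_inv_cancel]
    have e2 : (r' : G) ^ 2 ^ (i + j) = 1 := by
      have h0 : (r' : G) ^ 2 ^ j = 1 := by simpa [Subtype.ext_iff] using hj
      rw [add_comm, pow_add, pow_mul, h0, one_pow]
    have hcm : Commute u (u⁻¹ * r') := hua _ hA'
    have e3 : (u⁻¹ * r') ^ 2 ^ (i + j) = 1 := by
      have := hcm.mul_pow (2 ^ (i + j))
      rw [mul_inv_cancel_left, e1, e2, one_mul] at this
      exact this.symm
    exact inv_mul_eq_one.1 (hAQ _ hA' _ e3)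
  have hzM : z ∈ M := hRM hzR
  have hsetup : Setup ((R.subgroupOf M).map π) (π ⟨z, hzM⟩) := by
    refine map_setup π ((h.extraspecial.1.1.to_le hRQ).comap_subtype) hzR ?_ (Subtype.ext h.z_mul_self)
      ?_ ?_ ?_ ?_ ?_ ?_ ?_
    · intro e
      exact h.z_ne_one (congrArg Subtype.val (hRinj _ hzR e))
    · intro x hx hxy
      have hxc : (x : G) ∈ Subgroup.zpowers z := hcz _ hx fun y hy => by
        have h1 : π (x * ⟨y, hRM hy⟩ * x⁻¹ * ⟨y, hRM hy⟩⁻¹) = 1 := by
          simp only [map_mul, map_inv]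
          rw [hxy ⟨y, hRM hy⟩ hy]; group
        have := congrArg Subtype.val (hRinj _ (mul_mem (mul_mem (mul_mem hx hy) (inv_mem hx)) (inv_mem hy)) h1)
        push_cast at this
        rw [mul_inv_eq_one, mul_inv_eq_iff_eq_mul] at this
        exact this
      rcases h.zpowers_cases hxc with e | e
      · rw [show x = 1 from Subtype.ext e, map_one]; exact one_mem _
      · rw [show x = ⟨z, hzM⟩ from Subtype.ext e]; exact Subgroup.mem_zpowers _
    · intro y hy
      rw [← map_mul, ← map_mul]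
      exact congrArg π (Subtype.ext (h.z_commute (hRQ hy)).eq)
    · intro x hx y hy
      rcases h.comm_cases (hRQ hx) (hRQ hy) with e | e
      · rw [show x * y * x⁻¹ * y⁻¹ = 1 from Subtype.ext e, map_one]; exact one_mem _
      · rw [show x * y * x⁻¹ * y⁻¹ = ⟨z, hzM⟩ from Subtype.ext e]; exact Subgroup.mem_zpowers _
    · intro x hx
      rcases h.zpowers_cases (h.sq_mem (hRQ hx)) with e | e
      · rw [show x * x = 1 from Subtype.ext e, map_one]; exact one_mem _
      · rw [show x * x = ⟨z, hzM⟩ from Subtype.ext e]; exact Subgroup.mem_zpowers _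
    · by_contra hall
      push Not at hall
      have hab : ∀ x ∈ R, ∀ y ∈ R, Commute x y := by
        intro x hx y hy
        have := congrArg Subtype.val (hRinj _ (show ((⟨x, hRM hx⟩ * ⟨y, hRM hy⟩ * ⟨x, hRM hx⟩⁻¹ *
            ⟨y, hRM hy⟩⁻¹ : M) : G) ∈ R from mul_mem (mul_mem (mul_mem hx hy) (inv_mem hx)) (inv_mem hy))
          (hall _ hx _ hy))
        push_cast at this
        rw [mul_inv_eq_one, mul_inv_eq_iff_eq_mul] at this
        exact this
      have hle : R ≤ Subgroup.zpowers z := fun r hr => hcz r hr fun y hy => hab r hr y hy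
      have := hR32.trans (Subgroup.card_le_of_le hle)
      rw [Nat.card_zpowers, h.orderOf_z] at this
      omega
    · intro v hv
      obtain ⟨v, rfl⟩ := QuotientGroup.mk'_surjective _ v
      obtain ⟨c, hc, hcv⟩ := hdec v
      rw [← hcv] at hv ⊢
      have hcK : (c : G) ∈ K := memK _ (fun a ha => (Subgroup.mem_centralizer_iff.1 hc a ha).symm)
        fun r hr => mul_inv_eq_iff_eq_mul.1 (hfix c hc ⟨r, hRM hr⟩ hr ⟨r, hRM hr⟩ hr (by
          rw [map_mul, map_mul, map_inv,
            (Subgroup.mem_centralizer_iff.1 hv _ ⟨⟨r, hRM hr⟩, hr, rfl⟩).symm, mul_inv_cancel_right]))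
      have hAn : ∀ y ∈ Subgroup.zpowers z, y ∈ Subgroup.normalizer (A : Set G) := fun y hy => by
        refine Subgroup.centralizer_le_normalizer _ (Subgroup.mem_centralizer_iff.2 fun a ha => ?_)
        rcases h.zpowers_cases hy with e | e <;> rw [e]
        · simp
        · exact Subgroup.mem_centralizer_singleton_iff.1 (hA ha)
      have h1 : (c : G) ∈ ((A : Set G) * (Subgroup.zpowers z : Subgroup G)) := by
        rw [← Subgroup.coe_mul_of_right_le_normalizer_left _ _ hAn]; exact hKle hcK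
      obtain ⟨a, ha, w, hw, e⟩ := Set.mem_mul.1 h1
      have haM : a ∈ M := hM ▸ Subgroup.mem_sup_right ha
      have hwM : w ∈ M := (Subgroup.zpowers_le.2 hzM) hw
      have e' : c = ⟨a, haM⟩ * ⟨w, hwM⟩ := Subtype.ext e.symm
      rw [e', map_mul, (hker ⟨a, haM⟩).2 ha, one_mul]
      rcases h.zpowers_cases hw with e'' | e''
      · rw [show (⟨w, hwM⟩ : M) = 1 from Subtype.ext e'', map_one]; exact one_mem _
      · rw [show (⟨w, hwM⟩ : M) = ⟨z, hzM⟩ from Subtype.ext e'']; exact Subgroup.mem_zpowers _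
    · intro v hv x hx
      obtain ⟨v, rfl⟩ := QuotientGroup.mk'_surjective _ v
      obtain ⟨c, hc, hcv⟩ := hdec v
      rw [← hcv] at hv ⊢
      have hcz' : Commute (c : G) z := mul_inv_eq_iff_eq_mul.1 (hfix c hc ⟨z, hzM⟩ hzR ⟨z, hzM⟩ hzR (by
        rw [map_mul, map_mul, map_inv, hv.eq, mul_inv_cancel_right]))
      refine ⟨c * x * c⁻¹, ?_, by simp⟩
      show (c : G) * x * (c : G)⁻¹ ∈ R
      have hx' : (x : G) ∈ Q ⊓ Subgroup.centralizer (A : Set G) := hR ▸ hx
      rw [hR]
      exact Subgroup.mem_inf.2 ⟨h.conj_mem hcz' hx'.1, mul_mem (mul_mem hc hx'.2) (inv_mem hc)⟩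
  refine ⟨hpart1, ?_, ?_⟩
  · have hsM : s ∈ M := hRM hgR
    set T := (Q' ⊓ Subgroup.centralizer (A : Set G)).subgroupOf M with hT
    refine hsetup.large_of_involution (b := π ⟨s, hsM⟩) (T := T.map π) ⟨_, hgR, rfl⟩ ?_ ?_ ?_ ?_ ?_ ?_
    · intro e
      rcases hsetup.zpowers_cases e with e | e
      · exact hp.right.z_ne_one (congrArg Subtype.val (hRinj _ hgR e))
      · have h1 : π (⟨s, hsM⟩ * ⟨z, hzM⟩⁻¹) = 1 := by rw [map_mul, e, map_inv, mul_inv_cancel]
        have := congrArg Subtype.val (hRinj _ (mul_mem hgR (inv_mem hzR)) h1)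
        push_cast at this
        rw [mul_inv_eq_one] at this
        exact hgz this
    · rw [← map_mul]
      exact (hker _).2 (by push_cast; rw [hp.right.z_mul_self]; exact one_mem A)
    · rintro _ ⟨t, ht, rfl⟩
      rw [Subgroup.mem_centralizer_singleton_iff, ← map_mul, ← map_mul]
      exact congrArg π (Subtype.ext (hp.right.z_commute ht.1).eq.symm)
    · intro v hv
      rintro _ ⟨t, ht, rfl⟩
      obtain ⟨v, rfl⟩ := QuotientGroup.mk'_surjective _ v
      obtain ⟨c, hc, hcv⟩ := hdec v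
      rw [← hcv] at hv ⊢
      rw [Subgroup.mem_centralizer_singleton_iff] at hv
      have hcs : Commute (c : G) s := mul_inv_eq_iff_eq_mul.1 (hfix c hc ⟨s, hsM⟩ hgR ⟨s, hsM⟩ hgR (by
        rw [map_mul, map_mul, map_inv, hv, mul_inv_cancel_right]))
      refine ⟨c * t * c⁻¹, ?_, by simp⟩
      exact Subgroup.mem_inf.2 ⟨hp.right.conj_mem hcs ht.1, mul_mem (mul_mem hc ht.2) (inv_mem hc)⟩
    · exact ((hp.right.extraspecial.1.1.to_le inf_le_left).comap_subtype).map π
    · exact ⟨⟨z, hzM⟩, ⟨hp.z_mem_right, (hR ▸ hzR : z ∈ Q ⊓ Subgroup.centralizer (A : Set G)).2⟩, rfl⟩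
  · obtain ⟨x, hxR, hxs⟩ : ∃ x ∈ R, x * s * x⁻¹ = z * s := by
      by_contra hall
      push Not at hall
      refine hp.not_mem (hcz s hgR fun y hy => ?_)
      exact ((mul_inv_eq_iff_eq_mul.1 ((h.conj_cases (hRQ hy) hp.mem).resolve_right (hall y hy))).symm :
        s * y = y * s)
    have hAs : A ≤ Subgroup.centralizer ({s} : Set G) := fun a ha =>
      Subgroup.mem_centralizer_singleton_iff.2 (hRA _ hgR a ha).symm.eq
    have hzR' : z ∈ Q' ⊓ Subgroup.centralizer (A : Set G) := ⟨hp.z_mem_right,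
      (hR ▸ hzR : z ∈ Q ⊓ Subgroup.centralizer (A : Set G)).2⟩
    obtain ⟨t, htR, htz⟩ : ∃ t ∈ Q' ⊓ Subgroup.centralizer (A : Set G), t * z * t⁻¹ = s * z := by
      by_contra hall
      push Not at hall
      rcases hp.right.zpowers_cases (hp.right.center_fixed hAs hAodd hzR' fun y hy =>
        ((mul_inv_eq_iff_eq_mul.1 ((hp.right.conj_cases hy.1 hp.z_mem_right).resolve_right
          (hall y hy))).symm : z * y = y * z)) with e | e
      · exact h.z_ne_one e
      · exact hgz e.symm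
    refine ⟨t * x * t, mul_mem (mul_mem (Subgroup.mem_sup_right htR) (Subgroup.mem_sup_left hxR))
      (Subgroup.mem_sup_right htR), ?_⟩
    have hts : t * s * t⁻¹ = s := by rw [← (hp.right.z_commute htR.1).eq, mul_inv_cancel_right]
    calc t * x * t * s * (t * x * t)⁻¹ = t * (x * (t * s * t⁻¹) * x⁻¹) * t⁻¹ := by group
      _ = t * (z * s) * t⁻¹ := by rw [hts, hxs]
      _ = (t * z * t⁻¹) * (t * s * t⁻¹) := by group
      _ = z := by rw [htz, hts, ← hp.comm.eq, mul_assoc, hp.right.z_mul_self, mul_one]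

/-- The section by an involution of `Q`. -/
theorem large_in_involution_quotient {z : G} {Q : Subgroup G} (h : Setup Q z) (hcard : 32 ≤ Nat.card Q)
    (g : G) (hgQ : g * z * g⁻¹ ∈ Q) (hgz : g * z * g⁻¹ ≠ z) (t : G) (ht : orderOf t = 2)
    (htQ : t ∈ Q ⊓ Q.map (MulAut.conj g).toMonoidHom) (htz : ¬ IsConj z t) (P : Subgroup G)
    (hP : P = Q ⊓ Subgroup.centralizer ({t} : Set G))
    (hCP : ∀ c ∈ Subgroup.centralizer ({z} : Set G),
      (∀ x ∈ P, ∃ y ∈ Subgroup.closure ({t, z} : Set G), c * x * c⁻¹ = x * y) ↔ c ∈ Q)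
    [hn : ((Subgroup.zpowers t).subgroupOf (Subgroup.centralizer ({t} : Set G))).Normal] :
    Cfsg.IsLargeExtraspecial ((P.subgroupOf (Subgroup.centralizer ({t} : Set G))).map
        (QuotientGroup.mk' ((Subgroup.zpowers t).subgroupOf (Subgroup.centralizer ({t} : Set G))))) ∧
      ∃ x ∈ P ⊔ (Q.map (MulAut.conj g).toMonoidHom ⊓ Subgroup.centralizer ({t} : Set G)),
        x * (g * z * g⁻¹) * x⁻¹ = z := by
  haveI : Fact (Nat.Prime 2) := ⟨Nat.prime_two⟩
  have hp := h.pair hcard hgQ hgz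
  set s := g * z * g⁻¹ with hs
  set Q' := Q.map (MulAut.conj g).toMonoidHom with hQ'
  have ht2 : t * t = 1 := by rw [← pow_two, ← ht, pow_orderOf_eq_one]
  have ht1 : t ≠ 1 := fun e => by simp [e] at ht
  have htzne : t ≠ z := fun e => htz (e ▸ IsConj.refl z)
  have htse : t ≠ s := fun e => htz (e ▸ isConj_iff.2 ⟨g, rfl⟩)
  have htnz : t ∉ Subgroup.zpowers z := fun e => (h.zpowers_cases e).elim ht1 htzne
  have htns : t ∉ Subgroup.zpowers s := fun e => (hp.right.zpowers_cases e).elim ht1 htse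
  obtain ⟨xt, hxt, hxte⟩ := h.exists_moving htQ.1 htnz
  obtain ⟨yt, hyt, hyte⟩ := hp.right.exists_moving htQ.2 htns
  have hzt : ¬ IsConj z (z * t) := fun e => htz (e.trans (isConj_iff.2 ⟨xt⁻¹, by rw [← hxte]; group⟩))
  have hst : ¬ IsConj z (s * t) := fun e => htz (e.trans (isConj_iff.2 ⟨yt⁻¹, by rw [← hyte]; group⟩))
  set C := Subgroup.centralizer ({t} : Set G) with hC
  have hmemC : ∀ {x}, x ∈ C ↔ Commute x t := fun {x} => Subgroup.mem_centralizer_singleton_iff
  have hPQ : P ≤ Q := hP ▸ inf_le_left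
  have hPC : P ≤ C := hP ▸ inf_le_right
  have memP : ∀ {x}, x ∈ Q → Commute x t → x ∈ P := fun hx hxt => hP ▸ ⟨hx, hmemC.2 hxt⟩
  have hzP : z ∈ P := memP h.z_mem (h.z_commute htQ.1)
  have htP : t ∈ P := memP htQ.1 (Commute.refl t)
  have hsP : s ∈ P := memP hgQ (hp.right.z_commute htQ.2)
  set π := QuotientGroup.mk' ((Subgroup.zpowers t).subgroupOf C) with hπ
  have tcases : ∀ {x}, x ∈ Subgroup.zpowers t → x = 1 ∨ x = t := by
    intro x hx
    obtain ⟨i, rfl⟩ := Subgroup.mem_zpowers_iff.1 hx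
    rcases Int.even_or_odd' i with ⟨j, rfl | rfl⟩
    · left; rw [zpow_mul, zpow_two, ht2, one_zpow]
    · right; rw [zpow_add, zpow_mul, zpow_two, ht2, one_zpow, one_mul, zpow_one]
  have hker : ∀ u : C, π u = 1 ↔ ((u : G) = 1 ∨ (u : G) = t) := fun u => by
    rw [hπ, QuotientGroup.mk'_apply, QuotientGroup.eq_one_iff, Subgroup.mem_subgroupOf]
    exact ⟨tcases, fun e => e.elim (fun e => e ▸ one_mem _) (fun e => e ▸ Subgroup.mem_zpowers t)⟩
  have hzC : z ∈ C := hPC hzP
  have hsurj : Function.Surjective π := QuotientGroup.mk'_surjective _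
  have hsC : s ∈ C := hPC hsP
  -- elements fixing `z` or `s` modulo `t`
  have hfixz : ∀ c : C, Commute (π c) (π ⟨z, hzC⟩) → Commute (c : G) z := by
    intro c hc
    have h1 : π (c * ⟨z, hzC⟩ * c⁻¹ * ⟨z, hzC⟩⁻¹) = 1 := by
      simp only [map_mul, map_inv]; rw [hc.eq]; group
    rcases (hker _).1 h1 with e | e <;> push_cast at e
    · rw [mul_inv_eq_one, mul_inv_eq_iff_eq_mul] at e; exact e
    · exfalso
      rw [mul_inv_eq_iff_eq_mul, (h.z_commute htQ.1).symm.eq] at e
      exact hzt (e ▸ isConj_iff.2 ⟨(c : G), rfl⟩)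
  have hfixs : ∀ c : C, Commute (π c) (π ⟨s, hsC⟩) → Commute (c : G) s := by
    intro c hc
    have h1 : π (c * ⟨s, hsC⟩ * c⁻¹ * ⟨s, hsC⟩⁻¹) = 1 := by
      simp only [map_mul, map_inv]; rw [hc.eq]; group
    rcases (hker _).1 h1 with e | e <;> push_cast at e
    · rw [mul_inv_eq_one, mul_inv_eq_iff_eq_mul] at e; exact e
    · exfalso
      rw [mul_inv_eq_iff_eq_mul, (hp.right.z_commute htQ.2).symm.eq] at e
      exact hst (e ▸ (isConj_iff.2 ⟨g, rfl⟩ : IsConj z s).trans (isConj_iff.2 ⟨(c : G), rfl⟩))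
  have hsp : ∀ {y}, y ∈ Subgroup.zpowers z → ∀ hy : y ∈ C, π ⟨y, hy⟩ ∈ Subgroup.zpowers (π ⟨z, hzC⟩) := by
    intro y hy hyC
    rcases h.zpowers_cases hy with e | e
    · rw [show (⟨y, hyC⟩ : C) = 1 from Subtype.ext e, map_one]; exact one_mem _
    · rw [show (⟨y, hyC⟩ : C) = ⟨z, hzC⟩ from Subtype.ext e]; exact Subgroup.mem_zpowers _
  have hsp' : ∀ {x}, x ∈ Subgroup.zpowers z ∨ x * t ∈ Subgroup.zpowers z → ∀ hx : x ∈ C,
      π ⟨x, hx⟩ ∈ Subgroup.zpowers (π ⟨z, hzC⟩) := by
    intro x hx hxC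
    rcases hx with e | e
    · exact hsp e hxC
    · have h1 : π ⟨t, hPC htP⟩ = 1 := (hker _).2 (Or.inr rfl)
      have := hsp e (mul_mem hxC (hPC htP))
      rwa [show (⟨x * t, _⟩ : C) = ⟨x, hxC⟩ * ⟨t, hPC htP⟩ from rfl, map_mul, h1, mul_one] at this
  have hcentral : ∀ x ∈ P, (∀ y ∈ P, Commute x y) → x ∈ Subgroup.zpowers z ∨ x * t ∈ Subgroup.zpowers z :=
    fun x hx hc => h.center_fixIn htQ.1 htnz (hPQ hx) fun y hy hyt => hc y (memP hy hyt)
  have hsetup : Setup ((P.subgroupOf C).map π) (π ⟨z, hzC⟩) := by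
    refine map_setup π ((h.extraspecial.1.1.to_le hPQ).comap_subtype) hzP ?_ (Subtype.ext h.z_mul_self)
      ?_ ?_ ?_ ?_ ?_ ?_ ?_
    · intro e
      rcases (hker _).1 e with e | e
      · exact h.z_ne_one e
      · exact htzne e.symm
    · intro x hx hxy
      refine hsp' (hcentral _ hx fun y hy => ?_) x.2
      have h1 : π (x * ⟨y, hPC hy⟩ * x⁻¹ * ⟨y, hPC hy⟩⁻¹) = 1 := by
        simp only [map_mul, map_inv]; rw [hxy ⟨y, hPC hy⟩ hy]; group
      rcases (hker _).1 h1 with e | e <;> push_cast at e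
      · rw [mul_inv_eq_one, mul_inv_eq_iff_eq_mul] at e; exact e
      · exfalso
        rcases h.comm_cases (hPQ (show (x : G) ∈ P from hx)) (hPQ hy) with e' | e' <;> rw [e'] at e
        · exact ht1 e.symm
        · exact htzne e.symm
    · intro y hy
      rw [← map_mul, ← map_mul]
      exact congrArg π (Subtype.ext (h.z_commute (hPQ hy)).eq)
    · intro x hx y hy
      refine hsp ?_ (x * y * x⁻¹ * y⁻¹).2
      push_cast
      rcases h.comm_cases (hPQ (show (x : G) ∈ P from hx)) (hPQ (show (y : G) ∈ P from hy)) with e | e <;> rw [e]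
      · exact one_mem _
      · exact Subgroup.mem_zpowers z
    · intro x hx
      exact hsp (h.sq_mem (hPQ hx)) (x * x).2
    · obtain ⟨a, ha, b, hb, e⟩ := h.exists_noncommute_fixIn hcard htQ.1 htnz
      obtain ⟨haQ, hat⟩ := mem_fixIn.1 ha
      obtain ⟨hbQ, hbt⟩ := mem_fixIn.1 hb
      refine ⟨⟨a, hmemC.2 hat⟩, memP haQ hat, ⟨b, hmemC.2 hbt⟩, memP hbQ hbt, fun e' => ?_⟩
      rcases (hker _).1 e' with e'' | e'' <;> push_cast at e'' <;> rw [e] at e''
      · exact h.z_ne_one e''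
      · exact htzne e''.symm
    · intro v hv
      obtain ⟨c, rfl⟩ := hsurj v
      have hcomm : ∀ x (hx : x ∈ P), (c : G) * x * (c : G)⁻¹ = x ∨ (c : G) * x * (c : G)⁻¹ = t * x := by
        intro x hx
        have h1 : π (c * ⟨x, hPC hx⟩ * c⁻¹ * ⟨x, hPC hx⟩⁻¹) = 1 := by
          simp only [map_mul, map_inv]
          rw [← Subgroup.mem_centralizer_iff.1 hv _ ⟨⟨x, hPC hx⟩, hx, rfl⟩]; group
        rcases (hker _).1 h1 with e | e <;> push_cast at e
        · left; rwa [mul_inv_eq_one] at e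
        · right; rwa [mul_inv_eq_iff_eq_mul] at e
      have hcz : Commute (c : G) z :=
        hfixz c (Subgroup.mem_centralizer_iff.1 hv _ ⟨⟨z, hzC⟩, hzP, rfl⟩).symm
      have hcQ : (c : G) ∈ Q := by
        refine (hCP c (Subgroup.mem_centralizer_singleton_iff.2 hcz.eq)).1 fun x hx => ?_
        rcases hcomm x hx with e | e
        · exact ⟨1, one_mem _, by rw [e, mul_one]⟩
        · exact ⟨t, Subgroup.subset_closure (Or.inl rfl), e.trans (hmemC.1 (hPC hx)).symm.eq⟩
      refine hsp' (hcentral _ (memP hcQ (hmemC.1 c.2)) fun y hy => ?_) c.2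
      rcases hcomm y hy with e | e
      · exact mul_inv_eq_iff_eq_mul.1 e
      · exfalso
        rcases h.conj_cases hcQ (hPQ hy) with e' | e' <;> rw [e] at e'
        · exact ht1 (mul_eq_right.1 e')
        · exact htzne (mul_right_cancel e')
    · intro v hv x hx
      obtain ⟨c, rfl⟩ := hsurj v
      refine ⟨c * x * c⁻¹, ?_, by simp⟩
      show (c : G) * x * (c : G)⁻¹ ∈ P
      exact memP (h.conj_mem (hfixz c hv) (hPQ hx)) (hmemC.1 (c * x * c⁻¹).2)
  constructor
  · set T := (Q' ⊓ C).subgroupOf C with hT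
    refine hsetup.large_of_involution (b := π ⟨s, hsC⟩) (T := T.map π) ⟨_, hsP, rfl⟩ ?_ ?_ ?_ ?_ ?_ ?_
    · intro e
      rcases hsetup.zpowers_cases e with e | e
      · rcases (hker _).1 e with e | e
        · exact hp.right.z_ne_one e
        · exact htse e.symm
      · have h1 : π (⟨s, hsC⟩ * ⟨z, hzC⟩⁻¹) = 1 := by rw [map_mul, e, map_inv, mul_inv_cancel]
        rcases (hker _).1 h1 with e | e <;> push_cast at e
        · exact hgz (mul_inv_eq_one.1 e)
        · rw [mul_inv_eq_iff_eq_mul, (h.z_commute htQ.1).symm.eq] at e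
          exact hzt (e ▸ isConj_iff.2 ⟨g, rfl⟩)
    · rw [← map_mul, show (⟨s, hsC⟩ * ⟨s, hsC⟩ : C) = 1 from Subtype.ext hp.right.z_mul_self, map_one]
    · rintro _ ⟨u, hu, rfl⟩
      rw [Subgroup.mem_centralizer_singleton_iff, ← map_mul, ← map_mul]
      exact congrArg π (Subtype.ext (hp.right.z_commute hu.1).eq.symm)
    · intro v hv
      rintro _ ⟨u, hu, rfl⟩
      obtain ⟨c, rfl⟩ := hsurj v
      rw [Subgroup.mem_centralizer_singleton_iff] at hv
      refine ⟨c * u * c⁻¹, ⟨hp.right.conj_mem (hfixs c hv) hu.1, (c * u * c⁻¹).2⟩, by simp⟩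
    · exact ((hp.right.extraspecial.1.1.to_le inf_le_left).comap_subtype).map π
    · exact ⟨⟨z, hzC⟩, ⟨hp.z_mem_right, hzC⟩, rfl⟩
  · obtain ⟨x, hxP, hxs⟩ : ∃ x ∈ P, x * s * x⁻¹ = z * s := by
      by_contra hall
      push Not at hall
      rcases hcentral s hsP (fun y hy =>
        ((mul_inv_eq_iff_eq_mul.1 ((h.conj_cases (hPQ hy) hgQ).resolve_right (hall y hy))).symm :
          s * y = y * s)) with e | e
      · exact hp.not_mem e
      · rcases h.zpowers_cases e with e | e
        · rw [mul_eq_one_iff_eq_inv, inv_eq_of_mul_eq_one_left ht2] at e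
          exact htse e.symm
        · have e' : s = z * t := by rw [← e, mul_assoc, ht2, mul_one]
          exact hzt (e' ▸ isConj_iff.2 ⟨g, rfl⟩)
    obtain ⟨u, huR, hutz⟩ : ∃ u ∈ Q' ⊓ C, u * z * u⁻¹ = s * z := by
      by_contra hall
      push Not at hall
      rcases hp.right.center_fixIn htQ.2 htns hp.z_mem_right (fun y hy hyt =>
        ((mul_inv_eq_iff_eq_mul.1 ((hp.right.conj_cases hy hp.z_mem_right).resolve_right
          (hall y ⟨hy, hmemC.2 hyt⟩))).symm : z * y = y * z)) with e | e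
      · exact (hp.right.zpowers_cases e).elim h.z_ne_one fun e => hgz e.symm
      · rcases hp.right.zpowers_cases e with e | e
        · rw [mul_eq_one_iff_eq_inv, inv_eq_of_mul_eq_one_left ht2] at e
          exact htzne e.symm
        · have e' : z = s * t := by rw [← e, mul_assoc, ht2, mul_one]
          exact hst (e' ▸ IsConj.refl z)
    refine ⟨u * x * u, mul_mem (mul_mem (Subgroup.mem_sup_right huR) (Subgroup.mem_sup_left hxP))
      (Subgroup.mem_sup_right huR), ?_⟩
    have hus : u * s * u⁻¹ = s := by rw [← (hp.right.z_commute huR.1).eq, mul_inv_cancel_right]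
    calc u * x * u * s * (u * x * u)⁻¹ = u * (x * (u * s * u⁻¹) * x⁻¹) * u⁻¹ := by group
      _ = u * (z * s) * u⁻¹ := by rw [hus, hxs]
      _ = (u * z * u⁻¹) * (u * s * u⁻¹) := by group
      _ = z := by rw [hutz, hus, ← hp.comm.eq, mul_assoc, hp.right.z_mul_self, mul_one]

end Cfsg.Agent.LargeExtraspecial
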