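import Cfsg.Agent.Lib.LargeExtraspecial.Sections

/-!
# The centralizer of a transvection over the field with two elements

In `GL_{n+2}(2)` the centralizer of a transvection is `2^{1+2n} : GL_n(2)`.
-/

set_option autoImplicit false

namespace Cfsg.Agent.LargeExtraspecial.Transv

open Matrix

/-- The index type. -/
abbrev Ix (n : ℕ) := Fin 2 ⊕ Fin n

/-- The general linear group of dimension `n + 2`. -/
abbrev Amb (n : ℕ) := GL (Ix n) (ZMod 2)

variable {n : ℕ}

theorem two_cases : ∀ a : ZMod 2, a = 0 ∨ a = 1 := by decide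

theorem add_self' : ∀ a : ZMod 2, a + a = 0 := by decide

theorem add_self_vec {ι : Type*} (a : ι → ZMod 2) : a + a = 0 := funext fun _ => add_self' _

theorem transpose_dot (a b : Fin n → ZMod 2) : a ⬝ᵥ b + b ⬝ᵥ a = 0 := by
  rw [dotProduct_comm b a, add_self']

/-- The element with parameters `a, b, c, h`. -/
def mk (a b : Fin n → ZMod 2) (c : ZMod 2) (h : Matrix (Fin n) (Fin n) (ZMod 2)) :
    Matrix (Ix n) (Ix n) (ZMod 2) :=
  Matrix.of fun x y => match x, y with
    | .inl i, .inl j => if i = j then 1 else if i = 0 then c else 0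
    | .inl i, .inr k => if i = 0 then a k else 0
    | .inr l, .inl j => if j = 1 then b l else 0
    | .inr l, .inr k => h l k

theorem mk_mul (a b a' b' : Fin n → ZMod 2) (c c' : ZMod 2) (h h' : Matrix (Fin n) (Fin n) (ZMod 2)) :
    mk a b c h * mk a' b' c' h' = mk (a' + a ᵥ* h') (b + h *ᵥ b') (c' + c + a ⬝ᵥ b') (h * h') := by
  ext x y
  rw [Matrix.mul_apply, Fintype.sum_sum_type, Fin.sum_univ_two]
  rcases x with i | l <;> rcases y with j | k
  · fin_cases i <;> fin_cases j <;> simp [mk, dotProduct]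
  · fin_cases i <;> simp [mk, Matrix.vecMul, dotProduct]
  · fin_cases j <;> simp [mk, Matrix.mulVec, dotProduct]
  · simp [mk, Matrix.mul_apply]

theorem mk_one : mk (n := n) 0 0 0 1 = 1 := by
  ext x y
  rcases x with i | l <;> rcases y with j | k
  · fin_cases i <;> fin_cases j <;> simp [mk]
  · simp [mk]
  · simp [mk]
  · simp [mk, Matrix.one_apply]

theorem mk_inj {a b a' b' : Fin n → ZMod 2} {c c' : ZMod 2} {h h' : Matrix (Fin n) (Fin n) (ZMod 2)}
    (e : mk a b c h = mk a' b' c' h') : a = a' ∧ b = b' ∧ c = c' ∧ h = h' := by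
  refine ⟨funext fun k => ?_, funext fun l => ?_, ?_, Matrix.ext fun l k => ?_⟩
  · simpa [mk] using congrFun (congrFun e (.inl 0)) (.inr k)
  · simpa [mk] using congrFun (congrFun e (.inr l)) (.inl 1)
  · simpa [mk] using congrFun (congrFun e (.inl 0)) (.inl 1)
  · simpa [mk] using congrFun (congrFun e (.inr l)) (.inr k)

theorem mk_mul_inv (a b : Fin n → ZMod 2) (c : ZMod 2) :
    mk a b c 1 * mk a b (c + a ⬝ᵥ b) 1 = 1 ∧ mk a b (c + a ⬝ᵥ b) 1 * mk a b c 1 = 1 := by
  rw [mk_mul, mk_mul, ← mk_one]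
  simp only [Matrix.vecMul_one, Matrix.one_mulVec, add_self_vec, mul_one]
  have h1 : ∀ p q : ZMod 2, p + q + p + q = 0 ∧ p + (p + q) + q = 0 := by decide
  exact ⟨by rw [(h1 c (a ⬝ᵥ b)).1], by rw [(h1 c (a ⬝ᵥ b)).2]⟩

/-- The element of the unipotent radical. -/
def rad (a b : Fin n → ZMod 2) (c : ZMod 2) : Amb n :=
  ⟨mk a b c 1, mk a b (c + a ⬝ᵥ b) 1, (mk_mul_inv a b c).1, (mk_mul_inv a b c).2⟩

theorem coe_rad (a b : Fin n → ZMod 2) (c : ZMod 2) : (rad a b c : Matrix _ _ (ZMod 2)) = mk a b c 1 :=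
  rfl

theorem rad_mul (a b a' b' : Fin n → ZMod 2) (c c' : ZMod 2) :
    rad a b c * rad a' b' c' = rad (a' + a) (b + b') (c' + c + a ⬝ᵥ b') :=
  Units.ext (by rw [Units.val_mul, coe_rad, coe_rad, coe_rad, mk_mul]; simp)

theorem rad_zero : rad (n := n) 0 0 0 = 1 := Units.ext mk_one

theorem rad_inj {a b a' b' : Fin n → ZMod 2} {c c' : ZMod 2} (e : rad a b c = rad a' b' c') :
    a = a' ∧ b = b' ∧ c = c' := by
  obtain ⟨h1, h2, h3, -⟩ := mk_inj (congrArg Units.val e)
  exact ⟨h1, h2, h3⟩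

theorem rad_inv (a b : Fin n → ZMod 2) (c : ZMod 2) : (rad a b c)⁻¹ = rad a b (c + a ⬝ᵥ b) :=
  Units.ext rfl

/-- The transvection. -/
def zel (n : ℕ) : Amb n := rad 0 0 1

/-- The unipotent radical. -/
def radical (n : ℕ) : Subgroup (Amb n) where
  carrier := {g | ∃ a b c, g = rad a b c}
  one_mem' := ⟨0, 0, 0, rad_zero.symm⟩
  mul_mem' := by rintro _ _ ⟨a, b, c, rfl⟩ ⟨a', b', c', rfl⟩; exact ⟨_, _, _, rad_mul a b a' b' c c'⟩
  inv_mem' := by rintro _ ⟨a, b, c, rfl⟩; exact ⟨_, _, _, rad_inv a b c⟩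

theorem zel_mem : zel n ∈ radical n := ⟨0, 0, 1, rfl⟩

/-- The centralizer of the transvection. -/
def cent (n : ℕ) : Subgroup (Amb n) := Subgroup.centralizer {zel n}

theorem commute_zel_rad (a b : Fin n → ZMod 2) (c : ZMod 2) : rad a b c * zel n = zel n * rad a b c := by
  rw [zel, rad_mul, rad_mul]; simp [add_comm]

theorem radical_le : radical n ≤ cent n := by
  rintro _ ⟨a, b, c, rfl⟩
  exact Subgroup.mem_centralizer_singleton_iff.2 (commute_zel_rad a b c)

theorem exists_params {g : Amb n} (hg : g ∈ cent n) :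
    ∃ a b c h, (g : Matrix (Ix n) (Ix n) (ZMod 2)) = mk a b c h := by
  set G := (g : Matrix (Ix n) (Ix n) (ZMod 2)) with hG
  have e : G * mk 0 0 1 1 = mk 0 0 1 1 * G :=
    congrArg Units.val (Subgroup.mem_centralizer_singleton_iff.1 hg)
  have col : ∀ x, G x (.inl 0) = if x = .inl 0 then G (.inl 1) (.inl 1) else 0 := by
    intro x
    have h := congrFun (congrFun e x) (.inl 1)
    rw [Matrix.mul_apply, Matrix.mul_apply, Fintype.sum_sum_type, Fintype.sum_sum_type,
      Fin.sum_univ_two, Fin.sum_univ_two] at h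
    rcases x with i | l
    · fin_cases i <;> simp [mk] at h ⊢
      · linear_combination h
      · linear_combination h
    · simp [mk, Matrix.one_apply] at h ⊢
      linear_combination h
  have row : ∀ y, y ≠ .inl 1 → G (.inl 1) y = 0 := by
    intro y hy
    have h := congrFun (congrFun e (.inl 0)) y
    rw [Matrix.mul_apply, Matrix.mul_apply, Fintype.sum_sum_type, Fintype.sum_sum_type,
      Fin.sum_univ_two, Fin.sum_univ_two] at h
    rcases y with j | k
    · fin_cases j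
      · simp [mk] at h ⊢
        linear_combination h
      · exact absurd rfl hy
    · simp [mk, Matrix.one_apply] at h ⊢
      linear_combination h
  have h11 : G (.inl 1) (.inl 1) = 1 := by
    refine (two_cases _).resolve_left fun h0 => ?_
    have h1 := congrFun (congrFun (Units.inv_mul g) (.inl 0)) (.inl 0)
    rw [Matrix.mul_apply, Finset.sum_eq_zero (fun x _ => by
      rw [show (g : Matrix (Ix n) (Ix n) (ZMod 2)) x (.inl 0) = G x (.inl 0) from rfl, col x, h0,
        ite_self, mul_zero])] at h1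
    simp at h1
  refine ⟨fun k => G (.inl 0) (.inr k), fun l => G (.inr l) (.inl 1), G (.inl 0) (.inl 1),
    Matrix.of fun l k => G (.inr l) (.inr k), Matrix.ext fun x y => ?_⟩
  rcases x with i | l <;> rcases y with j | k
  · fin_cases i <;> fin_cases j
    · simpa [mk, h11] using col (.inl 0)
    · simp [mk]
    · simpa [mk] using row (.inl 0) (by simp)
    · simp [mk, h11]
  · fin_cases i
    · simp [mk]
    · simpa [mk] using row (.inr k) (by simp)
  · fin_cases j
    · simpa [mk] using col (.inr l)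
    · simp [mk]
  · simp [mk]

/-- The Levi block. -/
def block (g : Amb n) : Matrix (Fin n) (Fin n) (ZMod 2) :=
  Matrix.of fun l k => (g : Matrix (Ix n) (Ix n) (ZMod 2)) (.inr l) (.inr k)

theorem block_of_eq {g : Amb n} {a b : Fin n → ZMod 2} {c : ZMod 2}
    {h : Matrix (Fin n) (Fin n) (ZMod 2)} (e : (g : Matrix _ _ (ZMod 2)) = mk a b c h) : block g = h := by
  ext l k
  show (g : Matrix (Ix n) (Ix n) (ZMod 2)) (.inr l) (.inr k) = h l k
  rw [e]; rfl

theorem block_mul {g g' : Amb n} (hg : g ∈ cent n) (hg' : g' ∈ cent n) :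
    block (g * g') = block g * block g' := by
  obtain ⟨a, b, c, h, e⟩ := exists_params hg
  obtain ⟨a', b', c', h', e'⟩ := exists_params hg'
  rw [block_of_eq e, block_of_eq e', block_of_eq (g := g * g')]
  rw [Units.val_mul, e, e', mk_mul]

theorem block_one : block (1 : Amb n) = 1 := block_of_eq mk_one.symm

/-- The map to the Levi factor. -/
def levi (n : ℕ) : cent n →* GL (Fin n) (ZMod 2) :=
  MonoidHom.mk' (fun g => ⟨block g.1, block (g⁻¹).1,
      by rw [← block_mul g.2 (g⁻¹).2, ← Subgroup.coe_mul, mul_inv_cancel, Subgroup.coe_one, block_one],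
      by rw [← block_mul (g⁻¹).2 g.2, ← Subgroup.coe_mul, inv_mul_cancel, Subgroup.coe_one, block_one]⟩)
    fun g g' => Units.ext (block_mul g.2 g'.2)

theorem levi_eq_one_iff (g : cent n) : levi n g = 1 ↔ (g : Amb n) ∈ radical n := by
  obtain ⟨a, b, c, h, e⟩ := exists_params g.2
  constructor
  · intro h1
    have h2 : block (g : Amb n) = 1 := congrArg Units.val h1
    rw [block_of_eq e] at h2
    exact ⟨a, b, c, Units.ext (by rw [e, h2]; rfl)⟩
  · rintro ⟨a', b', c', e'⟩
    refine Units.ext ?_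
    show block (g : Amb n) = 1
    exact block_of_eq (by rw [e']; rfl)

theorem mk_diag_mul (h h' : Matrix (Fin n) (Fin n) (ZMod 2)) :
    mk 0 0 0 h * mk 0 0 0 h' = mk 0 0 0 (h * h') := by simp [mk_mul]

/-- The Levi factor inside the centralizer. -/
def embed (n : ℕ) : GL (Fin n) (ZMod 2) →* Amb n :=
  MonoidHom.mk' (fun h => ⟨mk 0 0 0 h, mk 0 0 0 (h⁻¹).1, by rw [mk_diag_mul, Units.mul_inv, mk_one],
      by rw [mk_diag_mul, Units.inv_mul, mk_one]⟩)
    fun h h' => Units.ext (mk_diag_mul h.1 h'.1).symm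

theorem embed_mem (h : GL (Fin n) (ZMod 2)) : embed n h ∈ cent n := by
  rw [cent, Subgroup.mem_centralizer_singleton_iff]
  refine Units.ext ?_
  show mk 0 0 0 h.1 * mk 0 0 1 1 = mk 0 0 1 1 * mk 0 0 0 h.1
  rw [mk_mul, mk_mul]; simp

theorem embed_injective : Function.Injective (embed n) := fun _ _ e =>
  Units.ext (mk_inj (congrArg Units.val e)).2.2.2

theorem levi_embed (h : GL (Fin n) (ZMod 2)) : levi n ⟨embed n h, embed_mem h⟩ = h :=
  Units.ext (block_of_eq (g := embed n h) rfl)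

theorem levi_surjective : Function.Surjective (levi n) := fun h => ⟨_, levi_embed h⟩

theorem radical_eq_comap : (radical n).subgroupOf (cent n) = (levi n).ker := by
  ext g; rw [Subgroup.mem_subgroupOf, MonoidHom.mem_ker, levi_eq_one_iff]

theorem radical_conj {g x : Amb n} (hg : g ∈ cent n) (hx : x ∈ radical n) : g * x * g⁻¹ ∈ radical n := by
  have h : (⟨g, hg⟩ * ⟨x, radical_le hx⟩ * ⟨g, hg⟩⁻¹ : cent n) ∈ (radical n).subgroupOf (cent n) := by
    rw [radical_eq_comap]
    refine (inferInstance : (levi n).ker.Normal).conj_mem _ ?_ _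
    rw [← radical_eq_comap]; exact hx
  exact h

theorem rad_sq (a b : Fin n → ZMod 2) (c : ZMod 2) : rad a b c * rad a b c = rad 0 0 (a ⬝ᵥ b) := by
  rw [rad_mul, add_self_vec, add_self_vec, add_self', zero_add]

theorem zel_sq : zel n * zel n = 1 := by
  rw [zel, rad_sq, ← rad_zero]; simp

theorem zel_ne_one : zel n ≠ 1 := by
  intro e
  rw [zel, ← rad_zero] at e
  exact one_ne_zero (rad_inj e).2.2

theorem rad_zero_mem (c : ZMod 2) : rad (n := n) 0 0 c ∈ Subgroup.zpowers (zel n) := by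
  rcases two_cases c with e | e <;> rw [e]
  · rw [rad_zero]; exact one_mem _
  · exact Subgroup.mem_zpowers _

theorem isPGroup_radical : IsPGroup 2 (radical n) := by
  rintro ⟨_, a, b, c, rfl⟩
  refine ⟨2, Subtype.ext ?_⟩
  push_cast
  rw [show (4 : ℕ) = 2 * 2 by rfl, pow_mul, pow_two, pow_two, rad_sq, rad_sq, ← rad_zero]
  simp

theorem radical_setup (hn : 1 ≤ n) : Setup (radical n) (zel n) := by
  classical
  have hcentral : ∀ x ∈ cent n, (∀ y ∈ radical n, Commute x y) → x ∈ Subgroup.zpowers (zel n) := by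
    intro g hg hc
    obtain ⟨a, b, c, h, e⟩ := exists_params hg
    have h1 : ∀ b', h *ᵥ b' = b' ∧ a ⬝ᵥ b' = 0 := by
      intro b'
      have e1 := congrArg Units.val (hc _ ⟨0, b', 0, rfl⟩).eq
      rw [Units.val_mul, Units.val_mul, e, coe_rad, mk_mul, mk_mul] at e1
      obtain ⟨-, e2, e3, -⟩ := mk_inj e1
      simp only [Matrix.one_mulVec, zero_dotProduct, zero_add, add_zero] at e2 e3
      refine ⟨add_left_cancel (e2.trans (add_comm _ _)), ?_⟩
      linear_combination e3
    have hh : h = 1 := Matrix.ext_iff_mulVec.2 fun v => by rw [Matrix.one_mulVec]; exact (h1 v).1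
    have hb : b = 0 := by
      funext l
      have e1 := congrArg Units.val (hc _ ⟨Pi.single l 1, 0, 0, rfl⟩).eq
      rw [Units.val_mul, Units.val_mul, e, coe_rad, mk_mul, mk_mul] at e1
      obtain ⟨-, -, e3, -⟩ := mk_inj e1
      simp at e3
      exact e3
    have ha : a = 0 := funext fun l => by simpa using (h1 (Pi.single l 1)).2
    rw [show g = rad 0 0 c from Units.ext (by rw [e, ha, hb, hh]; rfl)]
    exact rad_zero_mem c
  have hex : Cfsg.IsExtraspecial 2 (radical n) := by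
    refine isExtraspecial_of (c := ⟨zel n, zel_mem⟩) isPGroup_radical
      (fun e => zel_ne_one (congrArg Subtype.val e)) (Subtype.ext zel_sq) ?_ ?_ ?_ ?_ ?_
    · rintro ⟨_, a, b, c, rfl⟩; exact Subtype.ext (commute_zel_rad a b c).symm
    · rintro ⟨x, hx⟩ hxy
      obtain ⟨i, hi⟩ := hcentral x (radical_le hx) fun y hy => congrArg Subtype.val (hxy ⟨y, hy⟩).eq
      exact ⟨i, Subtype.ext (by simp only at hi; push_cast; exact hi)⟩
    · rintro ⟨_, a, b, c, rfl⟩ ⟨_, a', b', c', rfl⟩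
      have key : rad a b c * rad a' b' c' * (rad a b c)⁻¹ * (rad a' b' c')⁻¹ =
          rad 0 0 (a ⬝ᵥ b' + a' ⬝ᵥ b) := by
        rw [mul_inv_eq_iff_eq_mul, mul_inv_eq_iff_eq_mul, rad_mul, rad_mul, rad_mul]
        simp only [add_zero, zero_add, zero_dotProduct, add_comm a a', add_comm b b']
        congr 1
        have : ∀ c c' x y : ZMod 2, c' + c + x = c + (c' + (x + y)) + y := by decide
        exact this _ _ _ _
      obtain ⟨i, hi⟩ := rad_zero_mem (n := n) (a ⬝ᵥ b' + a' ⬝ᵥ b)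
      refine ⟨i, Subtype.ext ?_⟩
      simp only at hi
      push_cast
      rw [hi, ← key]
      rfl
    · rintro ⟨_, a, b, c, rfl⟩
      obtain ⟨i, hi⟩ := rad_zero_mem (n := n) (a ⬝ᵥ b)
      refine ⟨i, Subtype.ext ?_⟩
      simp only at hi
      push_cast
      rw [hi, rad_sq]
    · let o : Fin n := ⟨0, hn⟩
      refine ⟨⟨rad (Pi.single o 1) 0 0, _, _, _, rfl⟩, ⟨rad 0 (Pi.single o 1) 0, _, _, _, rfl⟩,
        fun e => ?_⟩
      have h2 := congrArg Subtype.val (commutatorElement_eq_one_iff_mul_comm.1 e)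
      push_cast at h2
      rw [rad_mul, rad_mul] at h2
      simpa using (rad_inj h2).2.2
  have hz : (Subgroup.center (radical n)).map (radical n).subtype = Subgroup.zpowers (zel n) := by
    refine le_antisymm ?_ (Subgroup.zpowers_le.2 ⟨⟨zel n, zel_mem⟩, Subgroup.mem_center_iff.2
      (by rintro ⟨_, a, b, c, rfl⟩; exact Subtype.ext (commute_zel_rad a b c)), rfl⟩)
    rintro _ ⟨x, hx, rfl⟩
    exact hcentral x (radical_le x.2) fun y hy =>
      (congrArg Subtype.val (Subgroup.mem_center_iff.1 hx ⟨y, hy⟩)).symm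
  refine ⟨hex, hz, le_antisymm (fun x hx => ?_) (Subgroup.zpowers_le.2 (Subgroup.mem_centralizer_iff.2
    (by rintro _ ⟨a, b, c, rfl⟩; exact commute_zel_rad a b c))), fun g hg => ?_⟩
  · rw [Subgroup.mem_centralizer_iff] at hx
    exact hcentral x (Subgroup.mem_centralizer_singleton_iff.2 (hx _ zel_mem).symm)
      fun y hy => (hx y hy).symm
  · rw [Subgroup.mem_normalizer_iff]
    refine fun x => ⟨fun hx => radical_conj hg hx, fun hx => ?_⟩
    have := radical_conj (inv_mem hg) hx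
    simpa [mul_assoc] using this

/-- A nontrivial 2-group has a nonzero fixed vector, so `GL_n(2)` has no normal 2-subgroup. -/
theorem eq_bot_of_normal_two (N : Subgroup (GL (Fin n) (ZMod 2))) [N.Normal] (hN : IsPGroup 2 N) :
    N = ⊥ := by
  classical
  haveI : Fact (Nat.Prime 2) := ⟨Nat.prime_two⟩
  rcases Nat.eq_zero_or_pos n with rfl | hn
  · haveI : Subsingleton (GL (Fin 0) (ZMod 2)) :=
      ⟨fun a b => Units.ext (Matrix.ext fun i => i.elim0)⟩
    exact Subsingleton.elim _ _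
  let act : MulAction N (Fin n → ZMod 2) :=
    { smul := fun g v => ((g : GL (Fin n) (ZMod 2)) : Matrix _ _ (ZMod 2)) *ᵥ v
      one_smul := fun v => Matrix.one_mulVec v
      mul_smul := fun g g' v => (Matrix.mulVec_mulVec _ _ _).symm }
  letI := act
  have h0 : (0 : Fin n → ZMod 2) ∈ MulAction.fixedPoints N (Fin n → ZMod 2) := fun g =>
    Matrix.mulVec_zero _
  have hdvd : 2 ∣ Nat.card (Fin n → ZMod 2) := by
    rw [Nat.card_eq_fintype_card, Fintype.card_fun, ZMod.card, Fintype.card_fin]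
    exact dvd_pow_self 2 hn.ne'
  obtain ⟨v, hv, hv0⟩ := hN.exists_fixed_point_of_prime_dvd_card_of_fixed_point
    (α := Fin n → ZMod 2) hdvd h0
  rw [eq_bot_iff]
  intro g hg
  rw [Subgroup.mem_bot]
  refine Units.ext (Matrix.ext_iff_mulVec.2 fun w => ?_)
  have fixed : ∀ (σ : GL (Fin n) (ZMod 2)), (g : Matrix _ _ (ZMod 2)) *ᵥ (σ.1 *ᵥ v) = σ.1 *ᵥ v := by
    intro σ
    have hv' : ((σ⁻¹ * g * σ : GL (Fin n) (ZMod 2)) : Matrix _ _ (ZMod 2)) *ᵥ v = v := by
      have := ‹N.Normal›.conj_mem g hg σ⁻¹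
      rw [inv_inv] at this
      exact hv ⟨_, this⟩
    have h2 := congrArg (fun u => σ.1 *ᵥ u) hv'
    simp only [Units.val_mul, Matrix.mulVec_mulVec, ← mul_assoc, Units.mul_inv, one_mul] at h2
    rw [Matrix.mulVec_mulVec]
    exact h2
  rw [Units.val_one, Matrix.one_mulVec]
  by_cases hw : w = 0
  · rw [hw, Matrix.mulVec_zero]
  obtain ⟨i, hi⟩ : ∃ i, v i ≠ 0 := by
    by_contra hall; push Not at hall; exact hv0 (funext fun i => (hall i).symm)
  obtain ⟨j, hj⟩ : ∃ j, w j ≠ 0 := by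
    by_contra hall; push Not at hall; exact hw (funext hall)
  -- an invertible matrix taking `v` to `w`
  have htr : ∀ (x : Fin n → ZMod 2) (k : Fin n), x k ≠ 0 →
      ∃ σ : GL (Fin n) (ZMod 2), σ.1 *ᵥ Pi.single k 1 = x := by
    intro x k hk
    have hM : ((1 : Matrix (Fin n) (Fin n) (ZMod 2)).updateCol k x).det ≠ 0 := by
      rw [← Matrix.cramer_apply, Matrix.cramer_one]; exact hk
    refine ⟨Matrix.GeneralLinearGroup.mkOfDetNeZero _ hM, ?_⟩
    show ((1 : Matrix (Fin n) (Fin n) (ZMod 2)).updateCol k x) *ᵥ Pi.single k 1 = x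
    rw [Matrix.mulVec_single_one]
    funext l
    simp
  obtain ⟨σ1, h1⟩ := htr v i hi
  obtain ⟨σ2, h2⟩ := htr w j hj
  obtain ⟨σ3, h3⟩ : ∃ σ : GL (Fin n) (ZMod 2), σ.1 *ᵥ Pi.single i 1 = Pi.single j 1 := by
    refine ⟨⟨(Equiv.swap i j).toPEquiv.toMatrix, (Equiv.swap i j).toPEquiv.toMatrix, ?_, ?_⟩, ?_⟩
    · rw [← PEquiv.toMatrix_trans]; simp [PEquiv.toMatrix_refl, ← Equiv.toPEquiv_trans]
    · rw [← PEquiv.toMatrix_trans]; simp [PEquiv.toMatrix_refl, ← Equiv.toPEquiv_trans]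
    · show (Equiv.swap i j).toPEquiv.toMatrix *ᵥ Pi.single i (1 : ZMod 2) = Pi.single j 1
      rw [PEquiv.toMatrix_toPEquiv_mulVec]
      funext l
      simp [Pi.single_apply, Equiv.swap_apply_def]
      aesop
  have e : ((σ2 * σ3 * σ1⁻¹ : GL (Fin n) (ZMod 2)) : Matrix _ _ (ZMod 2)) *ᵥ v = w := by
    rw [← h1, Units.val_mul, Units.val_mul, Matrix.mulVec_mulVec, mul_assoc, Units.inv_mul, mul_one,
      ← Matrix.mulVec_mulVec, h3, h2]
  rw [← e]
  exact fixed _

theorem pCore_cent : (Cfsg.pCore 2 (cent n)).map (cent n).subtype = radical n := by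
  haveI : Fact (Nat.Prime 2) := ⟨Nat.prime_two⟩
  haveI : (Cfsg.pCore 2 (cent n)).Normal := Thompson.instPCoreNormal
  refine le_antisymm ?_ fun x hx => ⟨⟨x, radical_le hx⟩, ?_, rfl⟩
  · rintro _ ⟨g, hg, rfl⟩
    haveI : ((Cfsg.pCore 2 (cent n)).map (levi n)).Normal :=
      Subgroup.Normal.map inferInstance _ levi_surjective
    have h : levi n g ∈ (Cfsg.pCore 2 (cent n)).map (levi n) := ⟨g, hg, rfl⟩
    rw [eq_bot_of_normal_two _ (Thompson.isPGroup_pCore.map _), Subgroup.mem_bot] at h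
    exact (levi_eq_one_iff g).1 h
  · haveI : ((radical n).subgroupOf (cent n)).Normal := radical_eq_comap ▸ inferInstance
    exact Thompson.le_pCore inferInstance
      (isPGroup_radical.of_equiv (Subgroup.subgroupOfEquivOfLe radical_le).symm) hx

theorem card_radical : Nat.card (radical n) = 2 ^ (2 * n + 1) := by
  let f : (Fin n → ZMod 2) × (Fin n → ZMod 2) × ZMod 2 → radical n :=
    fun p => ⟨rad p.1 p.2.1 p.2.2, _, _, _, rfl⟩
  have hf : Function.Bijective f := by
    refine ⟨fun p q e => ?_, ?_⟩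
    · obtain ⟨h1, h2, h3⟩ := rad_inj (congrArg Subtype.val e)
      exact Prod.ext h1 (Prod.ext h2 h3)
    · rintro ⟨_, a, b, c, rfl⟩; exact ⟨⟨a, b, c⟩, rfl⟩
  rw [← Nat.card_eq_of_bijective f hf]
  simp only [Nat.card_eq_fintype_card, Fintype.card_prod, Fintype.card_fun, ZMod.card, Fintype.card_fin]
  rw [← mul_assoc, ← pow_add, ← pow_succ, two_mul]

theorem exists_elementary : ∃ E : Subgroup (Amb n), E ≤ radical n ∧ Cfsg.IsElementaryAbelian 2 E ∧
    Nat.card E = 2 ^ (n + 1) := by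
  let f : (Fin n → ZMod 2) × ZMod 2 → Amb n := fun p => rad p.1 0 p.2
  have fm : ∀ p q, f p * f q = f (q + p) := fun p q => by simp [f, rad_mul]
  let E : Subgroup (Amb n) :=
    { carrier := Set.range f
      one_mem' := ⟨0, rad_zero⟩
      mul_mem' := by rintro _ _ ⟨p, rfl⟩ ⟨q, rfl⟩; exact ⟨_, (fm p q).symm⟩
      inv_mem' := by
        rintro _ ⟨p, rfl⟩
        exact ⟨p, by simp [f, rad_inv]⟩ }
  refine ⟨E, by rintro _ ⟨p, rfl⟩; exact ⟨_, _, _, rfl⟩, ⟨⟨⟨?_⟩⟩, ?_⟩, ?_⟩
  · rintro ⟨_, p, rfl⟩ ⟨_, q, rfl⟩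
    exact Subtype.ext (by show f p * f q = f q * f p; rw [fm, fm, add_comm])
  · rintro _ ⟨p, rfl⟩
    rw [pow_two]
    show rad p.1 0 p.2 * rad p.1 0 p.2 = 1
    rw [rad_sq, dotProduct_zero, rad_zero]
  · have hf : Function.Injective f := fun p q e => Prod.ext (rad_inj e).1 (rad_inj e).2.2
    rw [show Nat.card E = Nat.card (Set.range f) from rfl, Nat.card_range_of_injective hf]
    simp only [Nat.card_eq_fintype_card, Fintype.card_prod, Fintype.card_fun, ZMod.card, Fintype.card_fin]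
    rw [pow_succ]

theorem exists_complement : ∃ K : Subgroup (Amb n), K ≤ cent n ∧ radical n ⊓ K = ⊥ ∧
    radical n ⊔ K = cent n ∧ Nonempty (↥K ≃* GL (Fin n) (ZMod 2)) := by
  refine ⟨(embed n).range, by rintro _ ⟨h, rfl⟩; exact embed_mem h, ?_, le_antisymm
    (sup_le radical_le (by rintro _ ⟨h, rfl⟩; exact embed_mem h)) ?_,
    ⟨(MonoidHom.ofInjective embed_injective).symm⟩⟩
  · rw [eq_bot_iff]
    rintro _ ⟨hx, h, rfl⟩
    obtain ⟨a, b, c, e⟩ := hx
    rw [Subgroup.mem_bot, show h = 1 from Units.ext (mk_inj (congrArg Units.val e)).2.2.2, map_one]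
  · intro g hg
    set h := levi n ⟨g, hg⟩
    have h1 : g * (embed n h)⁻¹ ∈ radical n := by
      refine (levi_eq_one_iff ⟨_, mul_mem hg (inv_mem (embed_mem h))⟩).1 ?_
      rw [show (⟨g * (embed n h)⁻¹, _⟩ : cent n) = ⟨g, hg⟩ * (⟨embed n h, embed_mem h⟩)⁻¹ from rfl,
        map_mul, map_inv, levi_embed, mul_inv_cancel]
    have := mul_mem (Subgroup.mem_sup_left (T := (embed n).range) h1) (Subgroup.mem_sup_right ⟨h, rfl⟩)
    rwa [inv_mul_cancel_right] at this

theorem exists_conjugate (hn : 1 ≤ n) :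
    ∃ g : Amb n, g * zel n * g⁻¹ ∈ radical n ∧ g * zel n * g⁻¹ ≠ zel n := by
  let o : Fin n := ⟨0, hn⟩
  let π : Equiv.Perm (Ix n) := Equiv.swap (.inl 1) (.inr o)
  have hp : (π.toPEquiv.toMatrix : Matrix (Ix n) (Ix n) (ZMod 2)) * π.toPEquiv.toMatrix = 1 := by
    rw [← PEquiv.toMatrix_trans]; simp [π, PEquiv.toMatrix_refl, ← Equiv.toPEquiv_trans]
  let P : Amb n := ⟨π.toPEquiv.toMatrix, π.toPEquiv.toMatrix, hp, hp⟩
  have key : P * zel n * P⁻¹ = rad (Pi.single o 1) 0 0 := by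
    rw [mul_inv_eq_iff_eq_mul]
    refine Units.ext ?_
    show π.toPEquiv.toMatrix * mk 0 0 1 1 = mk (Pi.single o 1) 0 0 1 * π.toPEquiv.toMatrix
    rw [PEquiv.toMatrix_toPEquiv_mul, PEquiv.mul_toMatrix_toPEquiv]
    ext x y
    simp only [Matrix.submatrix_apply, id_eq, π, Equiv.symm_swap]
    rcases x with i | l <;> rcases y with j | k
    · fin_cases i <;> fin_cases j <;> simp [mk, Equiv.swap_apply_def]
    · fin_cases i <;> by_cases hk : k = o <;> simp [mk, Equiv.swap_apply_def, hk, Matrix.one_apply, eq_comm]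
    · fin_cases j <;> by_cases hl : l = o <;> simp [mk, Equiv.swap_apply_def, hl, Matrix.one_apply, eq_comm]
    · by_cases hk : k = o <;> by_cases hl : l = o <;>
        simp [mk, Equiv.swap_apply_def, hk, hl, Matrix.one_apply, eq_comm]
  refine ⟨P, key ▸ ⟨_, _, _, rfl⟩, fun e => ?_⟩
  rw [key, zel] at e
  simpa using congrFun (rad_inj e).1 o

end Cfsg.Agent.LargeExtraspecial.Transv
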